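import Mathlib
import Cfsg.Agent.H45.S8Defs0
/-!
Team project S1159 (helper68): the element orders of the small Ree group `²G₂(q)`,
`q = 3^(2m+1) ≥ 27`: a number is an element order iff it divides one of
`6, 9, q - 1, (q+1)/2, q - r + 1, q + r + 1` (`r = 3^(m+1)`).

Sequel of S1158 (helper45): this file contains the exact statements (as `Prop`-valued
definitions) of the pieces; they need only Mathlib and `H45.S8Defs0`.
-/
set_option autoImplicit false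

namespace Cfsg.Agent.H68.S9

open Cfsg.Agent.H45.S8

universe u v

/-- a 3-element -/
def Is3 {G : Type u} [Monoid G] (g : G) : Prop := ∃ j : ℕ, g ^ 3 ^ j = 1

/-- (UNIP9) in characteristic 3, a 3-element of `GL_n`, `n ≤ 9`, has order dividing 9 -/
def StUnip9 : Prop :=
  ∀ (n : Type) [Fintype n] [DecidableEq n] (K : Type v) [Field K] [CharP K 3],
    Fintype.card n ≤ 9 → ∀ Y : GL n K, Is3 Y → Y ^ 9 = 1

/-- (PSL3) in characteristic 3, a 3-element of `PSL₂(K)` has order dividing 3 -/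
def StPsl3 : Prop :=
  ∀ (K : Type v) [Field K] [CharP K 3] (x : Matrix.ProjectiveSpecialLinearGroup (Fin 2) K),
    Is3 x → x ^ 3 = 1

/-- (INV3) if `C(a) ≅ Z₂ × PSL₂(K)` (characteristic 3) and all involutions are conjugate to `a`,
then a 3-element commuting with an involution has order dividing 3 -/
def StInv3 : Prop :=
  ∀ (G : Type u) [Group G] (K : Type v) [Field K] [CharP K 3] (a : G)
    (_ : ↥(Subgroup.centralizer ({a} : Set G)) ≃*
      Multiplicative (ZMod 2) × Matrix.ProjectiveSpecialLinearGroup (Fin 2) K),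
    StPsl3.{v} → (∀ z : G, z ≠ 1 → z * z = 1 → ∃ c : G, c * a * c⁻¹ = z) →
    ∀ z w : G, z ≠ 1 → z * z = 1 → w * z = z * w → Is3 w → w ^ 3 = 1

/-- (INVFIX) every involution has a fixed point and a centraliser of the same order as `a` -/
def StInvFix : Prop :=
  ∀ (G : Type u) [Group G] [Finite G] (Ω : Type v) [MulAction G Ω] (a : G) (n N : ℕ),
    Nat.card ↥(MulAction.fixedBy Ω a) = n + 1 →
    Nat.card ↥(Subgroup.centralizer ({a} : Set G)) = N →
    (∀ z : G, z ≠ 1 → z * z = 1 → ∃ c : G, c * a * c⁻¹ = z) →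
    ∀ z : G, z ≠ 1 → z * z = 1 →
      (∃ x : Ω, z • x = x) ∧ Nat.card ↥(Subgroup.centralizer ({z} : Set G)) = N

/-- (FIXORD) the orders of the elements of exponent dividing `q³(q-1)` (the elements with a
fixed point) -/
def StFixOrd : Prop :=
  ∀ (G : Type u) [Group G] [Finite G] (m : ℕ), 1 ≤ m → StArCop →
    (∀ g : G, Is3 g → g ^ 9 = 1) →
    ∀ Hd : Subgroup G, Nat.card ↥Hd = qq m - 1 →
    (∀ z g : G, (orderOf z).Prime → orderOf z ∣ (qq m - 1) / 2 → g * z = z * g →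
      ∃ c : G, c * g * c⁻¹ ∈ Hd) →
    (∀ z w : G, z ≠ 1 → z * z = 1 → w * z = z * w → Is3 w → w ^ 3 = 1) →
    ∀ g : G, g ^ (qq m ^ 3 * (qq m - 1)) = 1 →
      orderOf g ∣ 6 ∨ orderOf g ∣ 9 ∨ orderOf g ∣ qq m - 1

/-- (TORORD) the orders of the non-trivial elements of order dividing `M = q² - q + 1` -/
def StTorOrd : Prop :=
  ∀ (G : Type u) [Group G] [Finite G] (m : ℕ), 1 ≤ m → HSyl G (MM m) →
    ∀ A₃ A₄ : Subgroup G, IsCyclic ↥A₃ → Nat.card ↥A₃ = qq m - rr m + 1 → SelfC A₃ →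
      IsCyclic ↥A₄ → Nat.card ↥A₄ = qq m + rr m + 1 → SelfC A₄ →
      ∀ g ∈ TorSet G (MM m), orderOf g ∣ qq m - rr m + 1 ∨ orderOf g ∣ qq m + rr m + 1

/-- (GAMORD) the orders of the elements whose order is divisible by a prime divisor of
`k = (q+1)/4` -/
def StGamOrd : Prop :=
  ∀ (G : Type u) [Group G] [Finite G] (m : ℕ), 1 ≤ m → StArCop → HQuarter G m →
    HSyl G (kk m) →
    ∀ A₁ : Subgroup G, IsCyclic ↥A₁ → Nat.card ↥A₁ = kk m →
      ∀ g ∈ GamSet G (kk m), orderOf g ∣ (qq m + 1) / 2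

/-- (EXHALF) an element of order `(q+1)/2` -/
def StExHalf : Prop :=
  ∀ (G : Type u) [Group G] [Finite G] (m : ℕ), 1 ≤ m → StArCop → HQuarter G m →
    ∀ A₁ : Subgroup G, IsCyclic ↥A₁ → Nat.card ↥A₁ = kk m →
      ∃ g : G, orderOf g = (qq m + 1) / 2

/-- (EXSIX) an element of order 6 -/
def StExSix : Prop :=
  ∀ (G : Type u) [Group G] [Finite G] (a : G), a ≠ 1 → a * a = 1 →
    3 ∣ Nat.card ↥(Subgroup.centralizer ({a} : Set G)) → ∃ g : G, orderOf g = 6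

/-- (NINE) an element of order 9, from the number of elements of order 3 of a subgroup `V` of
order `q³` -/
def StNine : Prop :=
  ∀ (Γ : Type u) [Group Γ] (V T : Subgroup Γ) [Finite ↥V] (f : ℕ), 1 ≤ f → V ≤ T →
    Nat.card ↥V = (3 ^ f) ^ 3 →
    Nat.card {u : ↥V // orderOf u = 3} = (3 ^ f) ^ 2 - 1 →
    (∀ g : ↥T, Is3 g → g ^ 9 = 1) → ∃ g : ↥T, orderOf g = 9

/-- (MAIN) the element orders, abstractly -/
def StOrdMain : Prop :=
  ∀ (G : Type u) [Group G] [Finite G] (Ω : Type v) [MulAction G Ω] (m : ℕ), 1 ≤ m →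
    (∀ (g : G) (x : Ω), g • x = x → g ^ (qq m ^ 3 * (qq m - 1)) = 1) →
    FpfSet G Ω = TorSet G (MM m) ∪ GamSet G (kk m) →
    (∀ g : G, Is3 g → g ^ 9 = 1) → (∃ g : G, orderOf g = 9) →
    ∀ Hd : Subgroup G, IsCyclic ↥Hd → Nat.card ↥Hd = qq m - 1 →
    (∀ z g : G, (orderOf z).Prime → orderOf z ∣ (qq m - 1) / 2 → g * z = z * g →
      ∃ c : G, c * g * c⁻¹ ∈ Hd) →
    ∀ a : G, a ≠ 1 → a * a = 1 → 3 ∣ Nat.card ↥(Subgroup.centralizer ({a} : Set G)) →
    (∀ z w : G, z ≠ 1 → z * z = 1 → w * z = z * w → Is3 w → w ^ 3 = 1) →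
    HQuarter G m → HSyl G (kk m) → ∀ A₁ : Subgroup G, IsCyclic ↥A₁ → Nat.card ↥A₁ = kk m →
    HSyl G (MM m) →
    ∀ A₃ A₄ : Subgroup G, IsCyclic ↥A₃ → Nat.card ↥A₃ = qq m - rr m + 1 → SelfC A₃ →
      IsCyclic ↥A₄ → Nat.card ↥A₄ = qq m + rr m + 1 → SelfC A₄ →
    ∀ d : ℕ, (∃ g : G, orderOf g = d) ↔
      (d ∣ 6 ∨ d ∣ 9 ∨ d ∣ qq m - 1 ∨ d ∣ (qq m + 1) / 2 ∨ d ∣ qq m - rr m + 1 ∨
        d ∣ qq m + rr m + 1)

end Cfsg.Agent.H68.S9
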