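import Mathlib
import Cfsg.Agent.H96.RoDefs

/-!
# S2343 team project (helper68): minimal degree `q² - q + 1` of the small Ree groups

Exact piece statements (Mathlib + helper96's abstract Ree datum only).
-/

set_option autoImplicit false

namespace Cfsg.Agent.H68.Ls

universe u v

/-- LS-ZAJ: in a Ree datum, `Z = {R 0 0 v}`, `A = {R 0 u v}` and `J = h (-1)` have the properties
used by the trace argument. -/
def StZAJ : Prop :=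
  ∀ (K : Type u) [Field K] [Fintype K] [CharP K 3] (m : ℕ), 1 ≤ m →
    Fintype.card K = 3 ^ (2 * m + 1) →
    ∀ (G : Type v) [Group G] (_D : Cfsg.Agent.H96.Ro.Datum K G (3 ^ (m + 1))),
    ∃ (Z A : Subgroup G) (J : G), Z ≤ A ∧ Nat.card ↥Z = 3 ^ (2 * m + 1) ∧
      Nat.card ↥A = 3 ^ (2 * m + 1) * 3 ^ (2 * m + 1) ∧
      (∀ a ∈ A, ∀ b ∈ A, a * b = b * a) ∧
      (∀ z ∈ Z, z ≠ 1 → ∀ z' ∈ Z, z' ≠ 1 → ∃ g : G, g * z * g⁻¹ = z') ∧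
      (∀ a ∈ A, a ∉ Z → ∀ z ∈ Z, ∃ g : G, g * a * g⁻¹ = a * z) ∧
      J ≠ 1 ∧ J * J = 1 ∧ ∀ z ∈ Z, J * z * J⁻¹ = z⁻¹

/-- LS-ABS: the abstract lower bound. -/
def StAbs : Prop :=
  ∀ (G : Type u) [Group G] [Finite G] [IsSimpleGroup G] (q : ℕ), q % 8 = 3 →
    ∀ (Z A : Subgroup G) (J : G), Z ≤ A → Nat.card ↥Z = q → Nat.card ↥A = q * q →
      (∀ a ∈ A, ∀ b ∈ A, a * b = b * a) →
      (∀ z ∈ Z, z ≠ 1 → ∀ z' ∈ Z, z' ≠ 1 → ∃ g : G, g * z * g⁻¹ = z') →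
      (∀ a ∈ A, a ∉ Z → ∀ z ∈ Z, ∃ g : G, g * a * g⁻¹ = a * z) →
      J ≠ 1 → J * J = 1 → (∀ z ∈ Z, J * z * J⁻¹ = z⁻¹) →
      (∀ i j : G, i ≠ 1 → i * i = 1 → j ≠ 1 → j * j = 1 → ∃ g : G, g * i * g⁻¹ = j) →
      ∀ E : Subgroup G, Nat.card ↥E = 8 → (∀ e ∈ E, e * e = 1) →
      ∀ (k : ℕ) (ρ : Representation ℂ G (Fin k → ℂ)), ρ.IsIrreducible → 2 ≤ k →
        q ^ 2 - q + 1 ≤ k

/-- LS-PROJ: the multiplicity of a linear character of a finite group in a representation is a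
natural number (trace of the averaging idempotent), with the two extreme cases. -/
def StProj : Prop :=
  ∀ (B : Type u) [Group B] [Fintype B] (k : ℕ) (σ : Representation ℂ B (Fin k → ℂ))
    (μ : B →* ℂˣ),
    ∃ n : ℕ, (∑ b : B, ((μ b)⁻¹ : ℂ) * LinearMap.trace ℂ (Fin k → ℂ) (σ b) =
        (Fintype.card B : ℂ) * (n : ℂ)) ∧
      (n = 0 → ∑ b : B, ((μ b)⁻¹ : ℂ) • σ b = 0) ∧
      (n = k → ∀ b : B, σ b = ((μ b : ℂˣ) : ℂ) • (1 : Module.End ℂ (Fin k → ℂ)))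

end Cfsg.Agent.H68.Ls
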