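import Mathlib
import Cfsg.Agent.H45.S8Defs0
/-!
S1158 team project (helper45), piece S8-BURN: Burnside's counts for a 2-transitive action.
-/
set_option autoImplicit false

namespace Cfsg.Agent.H68.S8

open Cfsg.Agent.H45.S8

universe u v

/-- (BURN) `Σ fix = |G|` and `Σ fix² = 2 |G|` for a 2-transitive action. -/
theorem burn : StBurn.{u, v} := by
  intro G _ _ Ω _ _ hΩ h2
  classical
  have hne : ∀ x : Ω, ∃ y : Ω, y ≠ x := fun x =>
    Fintype.exists_ne_of_one_lt_card (by omega) x
  -- transitivity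
  have htr : ∀ x x' : Ω, ∃ g : G, g • x = x' := by
    intro x x'
    obtain ⟨y, hy⟩ := hne x
    obtain ⟨y', hy'⟩ := hne x'
    obtain ⟨g, hg, _⟩ := h2 x y x' y' hy.symm hy'.symm
    exact ⟨g, hg⟩
  obtain ⟨x₀⟩ : Nonempty Ω := by
    rw [← Fintype.card_pos_iff]
    omega
  obtain ⟨y₀, hy₀⟩ := hne x₀
  -- orbits on Ω
  have hq1 : Fintype.card (Quotient (MulAction.orbitRel G Ω)) = 1 := by
    rw [Fintype.card_eq_one_iff]
    refine ⟨Quotient.mk _ x₀, ?_⟩
    intro q
    induction q using Quotient.inductionOn with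
    | h x =>
      apply Quotient.sound
      obtain ⟨g, hg⟩ := htr x₀ x
      exact ⟨g, hg⟩
  -- orbits on Ω × Ω
  have hq2 : Fintype.card (Quotient (MulAction.orbitRel G (Ω × Ω))) = 2 := by
    rw [← Nat.card_eq_fintype_card, Nat.card_eq_two_iff]
    refine ⟨Quotient.mk _ (x₀, x₀), Quotient.mk _ (x₀, y₀), ?_, ?_⟩
    · intro h
      have h' := Quotient.exact h
      obtain ⟨g, hg⟩ := h'
      have hg' : (g • x₀, g • y₀) = (x₀, x₀) := hg
      have h1 : g • x₀ = x₀ := (Prod.ext_iff.1 hg').1
      have h2' : g • y₀ = x₀ := (Prod.ext_iff.1 hg').2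
      apply hy₀
      apply MulAction.injective g
      show g • y₀ = g • x₀
      rw [h1, h2']
    · rw [Set.eq_univ_iff_forall]
      intro q
      induction q using Quotient.inductionOn with
      | h p =>
        obtain ⟨a, b⟩ := p
        by_cases hab : a = b
        · left
          apply Quotient.sound
          obtain ⟨g, hg⟩ := htr x₀ a
          refine ⟨g, ?_⟩
          show (g • x₀, g • x₀) = (a, b)
          rw [hg, hab]
        · right
          show Quotient.mk _ (a, b) = Quotient.mk _ (x₀, y₀)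
          apply Quotient.sound
          obtain ⟨g, hg, hg'⟩ := h2 x₀ y₀ a b (Ne.symm hy₀) hab
          refine ⟨g, ?_⟩
          show (g • x₀, g • y₀) = (a, b)
          rw [hg, hg']
  have b1 : ∑ g : G, Nat.card ↥(MulAction.fixedBy Ω g) =
      Fintype.card (Quotient (MulAction.orbitRel G Ω)) * Fintype.card G := by
    rw [← MulAction.sum_card_fixedBy_eq_card_orbits_mul_card_group G Ω]
    apply Finset.sum_congr rfl
    intro g _
    exact Nat.card_eq_fintype_card
  have b2 : ∑ g : G, Nat.card ↥(MulAction.fixedBy Ω g) ^ 2 =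
      Fintype.card (Quotient (MulAction.orbitRel G (Ω × Ω))) * Fintype.card G := by
    rw [← MulAction.sum_card_fixedBy_eq_card_orbits_mul_card_group G (Ω × Ω)]
    apply Finset.sum_congr rfl
    intro g _
    have hset : MulAction.fixedBy (Ω × Ω) g =
        (MulAction.fixedBy Ω g) ×ˢ (MulAction.fixedBy Ω g) := by
      ext ⟨x, y⟩
      simp [MulAction.mem_fixedBy, Prod.ext_iff]
    rw [← Nat.card_eq_fintype_card, hset, Nat.card_coe_set_eq, Nat.card_coe_set_eq,
      Set.ncard_prod, sq]
  rw [b1, b2, hq1, hq2]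
  exact ⟨one_mul _, rfl⟩

example : StBurn.{u, v} := burn

end Cfsg.Agent.H68.S8

#print axioms Cfsg.Agent.H68.S8.burn
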