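import Mathlib
import Cfsg.Agent.H45.S8Defs0
/-!
S1158 team project (helper45), piece S8-FIXCNT: the number of fixed-point-free elements from
Burnside's counts.
-/
set_option autoImplicit false

namespace Cfsg.Agent.H68.S8

open Cfsg.Agent.H45.S8

universe u

/-- (FIXCNT) -/
theorem fixCnt : StFixCnt.{u} := by
  intro G _ _ fix m hm hS1 hS2 h1 hinv hX hI hG
  classical
  have hq27 : 27 ≤ qq m := by
    unfold qq
    calc 27 = 3 ^ 3 := by norm_num
      _ ≤ 3 ^ (2 * m + 1) := Nat.pow_le_pow_right (by norm_num) (by omega)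
  unfold GG at hG
  unfold MM at hI
  generalize qq m = q at *
  -- pointwise identity in ℤ
  have key : ∀ g : G, (2 * (if fix g = 0 then 1 else 0) : ℤ) =
      (2 - 3 * (fix g : ℤ) + (fix g : ℤ) ^ 2) -
        (if g = 1 then (2 - 3 * ((q : ℤ) ^ 3 + 1) + ((q : ℤ) ^ 3 + 1) ^ 2) else 0) -
        (if g ∈ InvSet G then ((q : ℤ) ^ 2 - q) else 0) := by
    intro g
    by_cases hg1 : g = 1
    · subst hg1
      have hni : (1 : G) ∉ InvSet G := fun h => h.1 rfl
      rw [if_pos rfl, if_neg hni, h1, if_neg (by omega)]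
      push_cast
      ring
    · by_cases hgi : g * g = 1
      · have hi : g ∈ InvSet G := ⟨hg1, hgi⟩
        rw [if_neg hg1, if_pos hi, hinv g hg1 hgi, if_neg (by omega)]
        push_cast
        ring
      · have hni : g ∉ InvSet G := fun h => hgi h.2
        rw [if_neg hg1, if_neg hni]
        have := hX g hgi
        obtain h0 | h0 | h0 : fix g = 0 ∨ fix g = 1 ∨ fix g = 2 := by omega
        · rw [h0]; norm_num
        · rw [h0]; norm_num
        · rw [h0]; norm_num
  have hsum := Finset.sum_congr (rfl : (Finset.univ : Finset G) = Finset.univ)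
    (fun g _ => key g)
  rw [← Finset.mul_sum, Finset.sum_boole, Finset.sum_sub_distrib, Finset.sum_sub_distrib,
    Finset.sum_add_distrib, Finset.sum_sub_distrib, ← Finset.mul_sum, Finset.sum_const,
    Finset.sum_ite_eq' Finset.univ (1 : G), if_pos (Finset.mem_univ _), ← Finset.sum_filter,
    Finset.sum_const] at hsum
  have hIc : (Finset.univ.filter (fun g => g ∈ InvSet G)).card = (InvSet G).ncard := by
    rw [← Nat.card_coe_set_eq, Nat.card_eq_fintype_card]
    exact (Fintype.card_subtype _).symm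
  have hn0 : (Finset.univ.filter (fun g => fix g = 0)).card = Nat.card {g : G // fix g = 0} := by
    rw [Nat.card_eq_fintype_card]
    exact (Fintype.card_subtype _).symm
  have hS1' : (∑ g : G, (fix g : ℤ)) = (Fintype.card G : ℤ) := by
    rw [← hS1]; push_cast; rfl
  have hS2' : (∑ g : G, (fix g : ℤ) ^ 2) = 2 * (Fintype.card G : ℤ) := by
    have : ((∑ g : G, fix g ^ 2 : ℕ) : ℤ) = ((2 * Fintype.card G : ℕ) : ℤ) := by rw [hS2]
    push_cast at this
    exact this
  simp only [Finset.card_univ, nsmul_eq_mul] at hsum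
  rw [hIc, hn0, hS1', hS2', hI, hG] at hsum
  have ha : 2 * q ^ 2 ≤ q ^ 3 := by nlinarith
  have hb : 1 ≤ q ^ 3 - 2 * q ^ 2 := by
    have : 2 * q ^ 2 + 1 ≤ q ^ 3 := by nlinarith
    omega
  have hc : q ≤ q ^ 2 := by nlinarith
  have hd : 1 ≤ q := by omega
  have hfin : ((2 * Nat.card {g : G // fix g = 0} : ℕ) : ℤ) =
      ((q ^ 3 * (q - 1) * (q ^ 3 - 2 * q ^ 2 - 1) : ℕ) : ℤ) := by
    push_cast [Nat.cast_sub ha, Nat.cast_sub hb, Nat.cast_sub hc, Nat.cast_sub hd] at hsum ⊢
    linear_combination hsum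
  exact_mod_cast hfin

example : StFixCnt.{u} := fixCnt

end Cfsg.Agent.H68.S8

#print axioms Cfsg.Agent.H68.S8.fixCnt
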