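import Mathlib
import Cfsg.Agent.H45.S8Defs0
/-!
S1158 team project (helper45), piece S8-INVCNT: the number of involutions when they are all
conjugate.
-/
set_option autoImplicit false

namespace Cfsg.Agent.H68.S8

open Cfsg.Agent.H45.S8

universe u

/-- (INVCNT) orbit-stabiliser for the class of involutions. -/
theorem invCnt : StInvCnt.{u} := by
  intro G _ _ a ha1 haa hconj
  classical
  have hch : ∀ z : InvSet G, ∃ c : G, c * a * c⁻¹ = z.1 := fun z => hconj z.1 z.2.1 z.2.2
  choose cz hcz using hch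
  have hinv : ∀ c : G, c * a * c⁻¹ ∈ InvSet G := by
    intro c
    refine ⟨?_, ?_⟩
    · intro h
      apply ha1
      have : a = c⁻¹ * (c * a * c⁻¹) * c := by group
      rw [this, h]
      group
    · have : c * a * c⁻¹ * (c * a * c⁻¹) = c * (a * a) * c⁻¹ := by group
      rw [this, haa]
      group
  have e : G ≃ (InvSet G) × (Subgroup.centralizer ({a} : Set G)) :=
    { toFun := fun c => (⟨c * a * c⁻¹, hinv c⟩, ⟨(cz ⟨c * a * c⁻¹, hinv c⟩)⁻¹ * c, by
        rw [Subgroup.mem_centralizer_singleton_iff]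
        have h := hcz ⟨c * a * c⁻¹, hinv c⟩
        have h' : cz ⟨c * a * c⁻¹, hinv c⟩ * a * (cz ⟨c * a * c⁻¹, hinv c⟩)⁻¹ = c * a * c⁻¹ := h
        have h2 : a * ((cz ⟨c * a * c⁻¹, hinv c⟩)⁻¹ * c) =
            (cz ⟨c * a * c⁻¹, hinv c⟩)⁻¹ *
              (cz ⟨c * a * c⁻¹, hinv c⟩ * a * (cz ⟨c * a * c⁻¹, hinv c⟩)⁻¹) * c := by group
        rw [h2, h']
        group⟩)
      invFun := fun q => cz q.1 * q.2.1
      left_inv := by
        intro c
        show cz ⟨c * a * c⁻¹, hinv c⟩ * ((cz ⟨c * a * c⁻¹, hinv c⟩)⁻¹ * c) = c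
        group
      right_inv := by
        rintro ⟨z, ⟨n, hn⟩⟩
        rw [Subgroup.mem_centralizer_singleton_iff] at hn
        have hz : cz z * n * a * (cz z * n)⁻¹ = z.1 := by
          have : cz z * n * a * (cz z * n)⁻¹ = cz z * (n * a) * n⁻¹ * (cz z)⁻¹ := by group
          rw [this, hn, ← hcz z]
          group
        have hz' : (⟨cz z * n * a * (cz z * n)⁻¹, hinv _⟩ : InvSet G) = z := Subtype.ext hz
        apply Prod.ext
        · exact hz'
        · apply Subtype.ext
          show (cz ⟨cz z * n * a * (cz z * n)⁻¹, hinv _⟩)⁻¹ * (cz z * n) = n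
          rw [hz']
          group }
  rw [← Nat.card_coe_set_eq, ← Nat.card_prod]
  exact (Nat.card_congr e).symm

example : StInvCnt.{u} := invCnt

end Cfsg.Agent.H68.S8

#print axioms Cfsg.Agent.H68.S8.invCnt
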