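import Mathlib
import Cfsg.Agent.H68.PClasses

set_option autoImplicit false

/-!
# Fusion and the number of classes of `2`-elements (helper68)

* `two_mul_card_quotient_le`: abstract counting lemma.
* `exists_lift_of_isolated`: an isolated element of a Sylow subgroup is centralized by a lift of
  any automorphism induced by `N_G(Q)` on `Q ≤ P`.
* `four_mul_card_fixed_le`: an element of odd order acting nontrivially on a `2`-group `Q` has
  fixed points of index at least `4`.
* `two_mul_card_pclass_le_of_fusion`: if some element of odd order normalizes but does not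
  centralize a subgroup of the Sylow `2`-subgroup `P`, then `2 k_2(G) ≤ |P|`.
-/

namespace Cfsg.Agent.H68

/-- Abstract counting lemma: if `I` contains all elements with singleton class, `B` consists of
elements whose class has at least three elements and `3 |I| ≤ |B|`, then there are at most
`|X| / 2` classes. -/
theorem two_mul_card_quotient_le {X : Type*} [Finite X] (s : Setoid X) (I B : Finset X)
    (hI : ∀ x, x ∉ I → ∃ y, s.r x y ∧ y ≠ x)
    (hB : ∀ b ∈ B, ∃ b₁ b₂, s.r b b₁ ∧ s.r b b₂ ∧ b₁ ≠ b ∧ b₂ ≠ b ∧ b₁ ≠ b₂)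
    (hIB : 3 * I.card ≤ B.card) :
    2 * Nat.card (Quotient s) ≤ Nat.card X := by
  classical
  have : Fintype X := Fintype.ofFinite X
  have : Fintype (Quotient s) := Fintype.ofFinite _
  rw [Nat.card_eq_fintype_card, Nat.card_eq_fintype_card]
  let f : X → Quotient s := fun x => Quotient.mk s x
  have hX : (Finset.univ : Finset X).card =
      ∑ ω : Quotient s, (Finset.univ.filter (fun x => f x = ω)).card :=
    Finset.card_eq_sum_card_fiberwise (fun x _ => Finset.mem_coe.mpr (Finset.mem_univ _))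
  have hIs : I.card = ∑ ω : Quotient s, (I.filter (fun x => f x = ω)).card :=
    Finset.card_eq_sum_card_fiberwise (fun x _ => Finset.mem_coe.mpr (Finset.mem_univ _))
  have hBs : B.card = ∑ ω : Quotient s, (B.filter (fun x => f x = ω)).card :=
    Finset.card_eq_sum_card_fiberwise (fun x _ => Finset.mem_coe.mpr (Finset.mem_univ _))
  have hterm : ∀ ω : Quotient s, 6 + (B.filter (fun x => f x = ω)).card ≤
      3 * (Finset.univ.filter (fun x => f x = ω)).card +
        3 * (I.filter (fun x => f x = ω)).card := by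
    intro ω
    obtain ⟨x, rfl⟩ := Quotient.exists_rep ω
    have hfx : ∀ y, s.r x y → f y = Quotient.mk s x := fun y hy =>
      (Quotient.sound (s := s) hy).symm
    have hfy : ∀ y z, s.r y z → f y = Quotient.mk s x → f z = Quotient.mk s x := fun y z hyz hy =>
      (Quotient.sound (s := s) hyz).symm.trans hy
    have h1 : (B.filter (fun y => f y = Quotient.mk s x)).card ≤
        (Finset.univ.filter (fun y => f y = Quotient.mk s x)).card :=
      Finset.card_le_card (Finset.filter_subset_filter _ (Finset.subset_univ B))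
    have h2 : 1 ≤ (Finset.univ.filter (fun y => f y = Quotient.mk s x)).card :=
      Finset.card_pos.mpr ⟨x, by simp [f]⟩
    have h3 : 0 < (B.filter (fun y => f y = Quotient.mk s x)).card →
        2 < (Finset.univ.filter (fun y => f y = Quotient.mk s x)).card := by
      intro hpos
      obtain ⟨b, hb⟩ := Finset.card_pos.mp hpos
      rw [Finset.mem_filter] at hb
      obtain ⟨b₁, b₂, hb1, hb2, hn1, hn2, hn12⟩ := hB b hb.1
      rw [Finset.two_lt_card_iff]
      refine ⟨b, b₁, b₂, ?_, ?_, ?_, hn1.symm, hn2.symm, hn12⟩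
      · simp only [Finset.mem_filter, Finset.mem_univ, true_and]; exact hb.2
      · simp only [Finset.mem_filter, Finset.mem_univ, true_and]; exact hfy b b₁ hb1 hb.2
      · simp only [Finset.mem_filter, Finset.mem_univ, true_and]; exact hfy b b₂ hb2 hb.2
    have h4 : 1 < (Finset.univ.filter (fun y => f y = Quotient.mk s x)).card ∨
        1 ≤ (I.filter (fun y => f y = Quotient.mk s x)).card := by
      by_cases hxI : x ∈ I
      · right
        exact Finset.card_pos.mpr ⟨x, by simp [f, hxI]⟩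
      · left
        obtain ⟨y, hy, hne⟩ := hI x hxI
        rw [Finset.one_lt_card_iff]
        refine ⟨x, y, ?_, ?_, hne.symm⟩
        · simp [f]
        · simp only [Finset.mem_filter, Finset.mem_univ, true_and]; exact hfx y hy
    omega
  have hsum := Finset.sum_le_sum (fun ω (_ : ω ∈ (Finset.univ : Finset (Quotient s))) => hterm ω)
  simp only [Finset.sum_add_distrib, ← Finset.mul_sum, Finset.sum_const, Finset.card_univ,
    smul_eq_mul] at hsum
  rw [Finset.card_univ] at hX
  rw [← hX, ← hIs, ← hBs] at hsum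
  omega

theorem isPGroup_zpowers_of_pow_eq_one {G : Type*} [Group G] {p : ℕ} {y : G} {k : ℕ}
    (hy : y ^ p ^ k = 1) : IsPGroup p (Subgroup.zpowers y) := by
  rintro ⟨z, hz⟩
  obtain ⟨n, rfl⟩ := Subgroup.mem_zpowers_iff.mp hz
  refine ⟨k, Subtype.ext ?_⟩
  show (y ^ n) ^ p ^ k = 1
  rw [← zpow_natCast, ← zpow_mul, mul_comm, zpow_mul, zpow_natCast, hy, one_zpow]

/-- Lifting lemma for isolated elements. -/
theorem exists_lift_of_isolated {G : Type*} [Group G] [Finite G] {p : ℕ} [Fact p.Prime]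
    (P : Sylow p G)
    {x : G} (hxP : x ∈ (P : Subgroup G)) (hx : ∀ y ∈ (P : Subgroup G), IsConj x y → y = x)
    {Q : Subgroup G} (hQP : Q ≤ (P : Subgroup G)) {g : G}
    (hg : g ∈ Subgroup.normalizer (Q : Set G)) :
    ∃ c : G, c * x * c⁻¹ = x ∧ ∀ y ∈ Q, c * y * c⁻¹ = g * y * g⁻¹ := by
  classical
  have hgQ : ∀ y ∈ Q, g * y * g⁻¹ ∈ Q := fun y hy => (Subgroup.mem_normalizer_iff.mp hg y).mp hy
  have hgQ' : ∀ y ∈ Q, g⁻¹ * y * g ∈ Q := fun y hy => by
    have := (Subgroup.mem_normalizer_iff.mp (Subgroup.inv_mem _ hg) y).mp hy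
    simpa using this
  have hxQ : ∀ y ∈ Q, y * x = x * y := by
    intro y hy
    have h1 : y * x * y⁻¹ ∈ (P : Subgroup G) :=
      Subgroup.mul_mem _ (Subgroup.mul_mem _ (hQP hy) hxP) (Subgroup.inv_mem _ (hQP hy))
    have h2 := hx _ h1 (isConj_iff.mpr ⟨y, rfl⟩)
    calc y * x = (y * x * y⁻¹) * y := by group
      _ = x * y := by rw [h2]
  set K : Subgroup G := Subgroup.centralizer (Q : Set G) with hK
  have hxK : x ∈ K := Subgroup.mem_centralizer_iff.mpr (fun y hy => hxQ y hy)
  have hx1K : g * x * g⁻¹ ∈ K := by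
    rw [hK, Subgroup.mem_centralizer_iff]
    intro y hy
    have h1 := hxQ _ (hgQ' y hy)
    calc y * (g * x * g⁻¹) = g * ((g⁻¹ * y * g) * x) * g⁻¹ := by group
      _ = g * (x * (g⁻¹ * y * g)) * g⁻¹ := by rw [h1]
      _ = (g * x * g⁻¹) * y := by group
  obtain ⟨k, hk⟩ := P.isPGroup' ⟨x, hxP⟩
  have hk' : x ^ p ^ k = 1 := by simpa using congrArg Subtype.val hk
  have hk1 : (g * x * g⁻¹) ^ p ^ k = 1 := by
    rw [conj_pow, hk']; group
  obtain ⟨S, hS⟩ := (isPGroup_zpowers_of_pow_eq_one (p := p) (y := (⟨x, hxK⟩ : ↥K)) (k := k)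
    (Subtype.ext (by simpa using hk'))).exists_le_sylow
  obtain ⟨S₁, hS₁⟩ := (isPGroup_zpowers_of_pow_eq_one (p := p)
    (y := (⟨g * x * g⁻¹, hx1K⟩ : ↥K)) (k := k)
    (Subtype.ext (by simpa using hk1))).exists_le_sylow
  obtain ⟨h, hh⟩ := MulAction.exists_smul_eq ↥K S₁ S
  have hx2S : h * ⟨g * x * g⁻¹, hx1K⟩ * h⁻¹ ∈ (S : Subgroup ↥K) := by
    rw [← hh, Sylow.coe_subgroup_smul, Subgroup.mem_smul_pointwise_iff_exists]
    exact ⟨_, hS₁ (Subgroup.mem_zpowers _), rfl⟩
  have hxS : (⟨x, hxK⟩ : ↥K) ∈ (S : Subgroup ↥K) := hS (Subgroup.mem_zpowers _)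
  have hSm : IsPGroup p ((S : Subgroup ↥K).map K.subtype) := S.isPGroup'.map K.subtype
  obtain ⟨P', hP'⟩ := hSm.exists_le_sylow
  obtain ⟨a, rfl⟩ := MulAction.exists_smul_eq G P P'
  have key : ∀ w : G, w ∈ (S : Subgroup ↥K).map K.subtype → IsConj x w → w = a * x * a⁻¹ := by
    intro w hw hc
    have h1 := hP' hw
    rw [Sylow.coe_subgroup_smul, Subgroup.mem_smul_pointwise_iff_exists] at h1
    obtain ⟨v, hv, hvw⟩ := h1
    have hvw' : a * v * a⁻¹ = w := hvw
    have h2 : v = x := hx v hv (hc.trans (isConj_iff.mpr ⟨a⁻¹, by rw [← hvw']; group⟩))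
    rw [← hvw', h2]
  have e1 : x = a * x * a⁻¹ := key x ⟨⟨x, hxK⟩, hxS, rfl⟩ (IsConj.refl x)
  have e2 : (h : G) * (g * x * g⁻¹) * (h : G)⁻¹ = a * x * a⁻¹ :=
    key _ ⟨_, hx2S, rfl⟩ (isConj_iff.mpr ⟨(h : G) * g, by group⟩)
  refine ⟨(h : G) * g, ?_, ?_⟩
  · calc (h : G) * g * x * ((h : G) * g)⁻¹ = (h : G) * (g * x * g⁻¹) * (h : G)⁻¹ := by group
      _ = x := by rw [e2, ← e1]
  · intro y hy
    have h1 : (g * y * g⁻¹) * (h : G) = (h : G) * (g * y * g⁻¹) :=
      Subgroup.mem_centralizer_iff.mp h.2 _ (hgQ y hy)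
    calc (h : G) * g * y * ((h : G) * g)⁻¹ = ((h : G) * (g * y * g⁻¹)) * (h : G)⁻¹ := by group
      _ = ((g * y * g⁻¹) * (h : G)) * (h : G)⁻¹ := by rw [h1]
      _ = g * y * g⁻¹ := by group

/-- If `g` commutes with `g y g⁻¹ y⁻¹`, then `g ^ k y g ^ (-k) = (g y g⁻¹ y⁻¹) ^ k y`. -/
theorem conj_pow_eq_of_commute {G : Type*} [Group G] {g y : G}
    (hcg : (g * y * g⁻¹ * y⁻¹) * g = g * (g * y * g⁻¹ * y⁻¹)) (k : ℕ) :
    g ^ k * y * (g ^ k)⁻¹ = (g * y * g⁻¹ * y⁻¹) ^ k * y := by
  induction k with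
  | zero => simp
  | succ k ih =>
    have e : g ^ (k + 1) * y * (g ^ (k + 1))⁻¹ = g * (g ^ k * y * (g ^ k)⁻¹) * g⁻¹ := by
      rw [pow_succ']; group
    rw [e, ih]
    have hck : g * (g * y * g⁻¹ * y⁻¹) ^ k = (g * y * g⁻¹ * y⁻¹) ^ k * g :=
      (Commute.pow_right (show Commute g (g * y * g⁻¹ * y⁻¹) from hcg.symm) k).eq
    calc g * ((g * y * g⁻¹ * y⁻¹) ^ k * y) * g⁻¹
        = (g * (g * y * g⁻¹ * y⁻¹) ^ k) * y * g⁻¹ := by group
      _ = (g * y * g⁻¹ * y⁻¹) ^ k * g * y * g⁻¹ := by rw [hck]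
      _ = (g * y * g⁻¹ * y⁻¹) ^ k * (g * y * g⁻¹ * y⁻¹) * y := by group
      _ = (g * y * g⁻¹ * y⁻¹) ^ (k + 1) * y := by rw [← pow_succ]

/-- An element of odd order acting nontrivially on a `2`-group has fixed points of index `≥ 4`. -/
theorem four_mul_card_fixed_le {G : Type*} [Group G] [Finite G] {Q : Subgroup G}
    (hQ : IsPGroup 2 Q) {g : G}
    (hg : g ∈ Subgroup.normalizer (Q : Set G)) (hodd : Odd (orderOf g))
    (hgC : g ∉ Subgroup.centralizer (Q : Set G)) :
    4 * Nat.card ↥((Subgroup.centralizer ({g} : Set G)).subgroupOf Q) ≤ Nat.card ↥Q := by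
  have : Fact (Nat.Prime 2) := ⟨Nat.prime_two⟩
  set Cs : Subgroup ↥Q := (Subgroup.centralizer ({g} : Set G)).subgroupOf Q with hCs
  have hmem : ∀ y : ↥Q, y ∈ Cs ↔ g * (y : G) = (y : G) * g := by
    intro y
    rw [hCs, Subgroup.mem_subgroupOf, Subgroup.mem_centralizer_iff]
    constructor
    · intro h; exact h g rfl
    · intro h k hk; rw [Set.mem_singleton_iff] at hk; rw [hk]; exact h
  have hgQ : ∀ y ∈ Q, g * y * g⁻¹ ∈ Q := fun y hy => (Subgroup.mem_normalizer_iff.mp hg y).mp hy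
  obtain ⟨j, hj⟩ := hQ.index Cs
  have hic := Subgroup.index_mul_card Cs
  obtain ⟨y, hyQ, hy⟩ : ∃ y ∈ Q, y * g ≠ g * y := by
    by_contra hno
    push Not at hno
    exact hgC (Subgroup.mem_centralizer_iff.mpr hno)
  have hy' : (⟨y, hyQ⟩ : ↥Q) ∉ Cs := fun h => hy ((hmem _).mp h).symm
  rcases Nat.lt_or_ge j 2 with hj2 | hj2
  · exfalso
    interval_cases j
    · rw [pow_zero] at hj
      have h1 := Subgroup.index_eq_one.mp hj
      exact hy' (h1 ▸ Subgroup.mem_top _)
    · rw [pow_one] at hj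
      have hy1 : (⟨g * y * g⁻¹, hgQ y hyQ⟩ : ↥Q) ∉ Cs := by
        intro h
        have h1 : g * (g * y * g⁻¹) = (g * y * g⁻¹) * g := (hmem _).mp h
        apply hy
        have e : g * (y * g) = g * (g * y) := by
          calc g * (y * g) = (g * y * g⁻¹) * g * g := by group
            _ = g * (g * y * g⁻¹) * g := by rw [h1]
            _ = g * (g * y) := by group
        exact mul_left_cancel e
      have h3 : (⟨g * y * g⁻¹, hgQ y hyQ⟩ : ↥Q) * (⟨y, hyQ⟩ : ↥Q)⁻¹ ∈ Cs := by
        rw [Subgroup.mul_mem_iff_of_index_two hj]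
        constructor
        · intro h; exact absurd h hy1
        · intro h; exact absurd (by simpa using Cs.inv_mem h) hy'
      have hc : g * (g * y * g⁻¹ * y⁻¹) = (g * y * g⁻¹ * y⁻¹) * g := (hmem _).mp h3
      have h1 := conj_pow_eq_of_commute hc.symm (orderOf g)
      rw [pow_orderOf_eq_one, one_mul, inv_one, mul_one] at h1
      have h2 : (g * y * g⁻¹ * y⁻¹) ^ orderOf g = 1 := by
        have : (g * y * g⁻¹ * y⁻¹) ^ orderOf g * y = 1 * y := by rw [one_mul]; exact h1.symm
        exact mul_right_cancel this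
      obtain ⟨m, hm⟩ := hQ ⟨_, Q.mul_mem (hgQ y hyQ) (Q.inv_mem hyQ)⟩
      have hm' : (g * y * g⁻¹ * y⁻¹) ^ 2 ^ m = 1 := by simpa using congrArg Subtype.val hm
      have hc1 : g * y * g⁻¹ * y⁻¹ = 1 := by
        have d1 : orderOf (g * y * g⁻¹ * y⁻¹) ∣ orderOf g := orderOf_dvd_of_pow_eq_one h2
        have d2 : orderOf (g * y * g⁻¹ * y⁻¹) ∣ 2 ^ m := orderOf_dvd_of_pow_eq_one hm'
        have hcop : Nat.Coprime (orderOf g) (2 ^ m) :=
          Nat.Coprime.pow_right _ (Nat.coprime_two_right.mpr hodd)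
        exact orderOf_eq_one_iff.mp (Nat.eq_one_of_dvd_coprimes hcop d1 d2)
      apply hy
      calc y * g = (g * y * g⁻¹ * y⁻¹)⁻¹ * (g * y) := by group
        _ = g * y := by rw [hc1, inv_one, one_mul]
  · have h4 : 4 ≤ Cs.index := by
      rw [hj]
      calc 4 = 2 ^ 2 := rfl
        _ ≤ 2 ^ j := Nat.pow_le_pow_right (by norm_num) hj2
    calc 4 * Nat.card Cs ≤ Cs.index * Nat.card Cs := Nat.mul_le_mul_right _ h4
      _ = Nat.card Q := hic

/-- If an element of odd order normalizes but does not centralize a subgroup of the Sylow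
`2`-subgroup `P`, then `2 k_2(G) ≤ |P|`. -/
theorem two_mul_card_pclass_le_of_fusion {G : Type*} [Group G] [Finite G] (P : Sylow 2 G)
    {Q : Subgroup G} (hQP : Q ≤ (P : Subgroup G)) {g : G}
    (hg : g ∈ Subgroup.normalizer (Q : Set G))
    (hodd : Odd (orderOf g)) (hgC : g ∉ Subgroup.centralizer (Q : Set G)) :
    2 * Nat.card (PClass 2 G) ≤ Nat.card ↥(P : Subgroup G) := by
  classical
  have : Fact (Nat.Prime 2) := ⟨Nat.prime_two⟩
  let s : Setoid ↥(P : Subgroup G) :=
    { r := fun a b => IsConj (a : G) (b : G)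
      iseqv := ⟨fun a => IsConj.refl _, fun h => h.symm, fun h1 h2 => h1.trans h2⟩ }
  let f : Quotient s → PClass 2 G := fun c =>
    Quotient.liftOn c (fun x : ↥(P : Subgroup G) =>
      (⟨ConjClasses.mk (x : G), pclass_of_mem P x.2⟩ : PClass 2 G)) (by
        intro a b hab
        apply Subtype.ext
        show ConjClasses.mk (a : G) = ConjClasses.mk (b : G)
        exact ConjClasses.mk_eq_mk_iff_isConj.mpr hab)
  have hf : Function.Surjective f := by
    rintro ⟨c, hc⟩
    obtain ⟨x, hx, rfl⟩ := exists_mem_of_pclass P c hc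
    exact ⟨Quotient.mk s ⟨x, hx⟩, rfl⟩
  have h1 : Nat.card (PClass 2 G) ≤ Nat.card (Quotient s) := Nat.card_le_card_of_surjective f hf
  have : Fintype ↥(P : Subgroup G) := Fintype.ofFinite _
  have : Fintype ↥Q := Fintype.ofFinite _
  have hgQ : ∀ y ∈ Q, g * y * g⁻¹ ∈ Q := fun y hy => (Subgroup.mem_normalizer_iff.mp hg y).mp hy
  let I : Finset ↥(P : Subgroup G) :=
    Finset.univ.filter (fun x => ∀ y : ↥(P : Subgroup G), IsConj (x : G) (y : G) → y = x)
  set Cs : Subgroup ↥Q := (Subgroup.centralizer ({g} : Set G)).subgroupOf Q with hCs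
  have hmem : ∀ y : ↥Q, y ∈ Cs ↔ g * (y : G) * g⁻¹ = (y : G) := by
    intro y
    rw [hCs, Subgroup.mem_subgroupOf, Subgroup.mem_centralizer_iff]
    constructor
    · intro h; rw [h g rfl]; group
    · intro h k hk
      rw [Set.mem_singleton_iff] at hk
      rw [hk]
      calc g * (y : G) = (g * (y : G) * g⁻¹) * g := by group
        _ = (y : G) * g := by rw [h]
  let D : Finset ↥Q := Finset.univ.filter (fun y => y ∉ Cs)
  let C : Finset ↥Q := Finset.univ.filter (fun y => y ∈ Cs)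
  let m : ↥(P : Subgroup G) × ↥Q → ↥(P : Subgroup G) := fun p => p.1 * ⟨(p.2 : G), hQP p.2.2⟩
  let B : Finset ↥(P : Subgroup G) := (I ×ˢ D).image m
  have hlift : ∀ x ∈ I, ∃ c : G, c * (x : G) * c⁻¹ = (x : G) ∧
      ∀ y ∈ Q, c * y * c⁻¹ = g * y * g⁻¹ := by
    intro x hx
    simp only [I, Finset.mem_filter, Finset.mem_univ, true_and] at hx
    exact exists_lift_of_isolated P x.2
      (fun y hy hc => congrArg Subtype.val (hx ⟨y, hy⟩ hc)) hQP hg
  have hiso : ∀ x ∈ I, ∀ y ∈ (P : Subgroup G), IsConj (x : G) y → y = (x : G) := by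
    intro x hx y hy hc
    simp only [I, Finset.mem_filter, Finset.mem_univ, true_and] at hx
    exact congrArg Subtype.val (hx ⟨y, hy⟩ hc)
  have h2 : 2 * Nat.card (Quotient s) ≤ Nat.card ↥(P : Subgroup G) := by
    apply two_mul_card_quotient_le s I B
    · intro x hx
      simp only [I, Finset.mem_filter, Finset.mem_univ, true_and] at hx
      push Not at hx
      exact hx
    · intro b hb
      obtain ⟨⟨x, y⟩, hxy, rfl⟩ := Finset.mem_image.mp hb
      rw [Finset.mem_product] at hxy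
      obtain ⟨hxI, hyD⟩ := hxy
      simp only [D, Finset.mem_filter, Finset.mem_univ, true_and] at hyD
      rw [hmem] at hyD
      obtain ⟨c, hcx, hcQ⟩ := hlift x hxI
      have hy1 : g * (y : G) * g⁻¹ ∈ Q := hgQ _ y.2
      have hy2 : g * (g * (y : G) * g⁻¹) * g⁻¹ ∈ Q := hgQ _ hy1
      refine ⟨x * ⟨g * (y : G) * g⁻¹, hQP hy1⟩, x * ⟨g * (g * (y : G) * g⁻¹) * g⁻¹, hQP hy2⟩,
        ?_, ?_, ?_, ?_, ?_⟩
      · show IsConj ((x : G) * (y : G)) ((x : G) * (g * (y : G) * g⁻¹))
        rw [isConj_iff]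
        refine ⟨c, ?_⟩
        calc c * ((x : G) * (y : G)) * c⁻¹ = (c * (x : G) * c⁻¹) * (c * (y : G) * c⁻¹) := by group
          _ = (x : G) * (g * (y : G) * g⁻¹) := by rw [hcx, hcQ _ y.2]
      · show IsConj ((x : G) * (y : G)) ((x : G) * (g * (g * (y : G) * g⁻¹) * g⁻¹))
        rw [isConj_iff]
        refine ⟨c * c, ?_⟩
        calc c * c * ((x : G) * (y : G)) * (c * c)⁻¹
            = (c * (c * (x : G) * c⁻¹) * c⁻¹) * (c * (c * (y : G) * c⁻¹) * c⁻¹) := by group
          _ = (x : G) * (g * (g * (y : G) * g⁻¹) * g⁻¹) := by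
            rw [hcx, hcx, hcQ _ y.2, hcQ _ hy1]
      · intro h
        have h' : (x : G) * (g * (y : G) * g⁻¹) = (x : G) * (y : G) := congrArg Subtype.val h
        exact hyD (mul_left_cancel h')
      · intro h
        have h' : (x : G) * (g * (g * (y : G) * g⁻¹) * g⁻¹) = (x : G) * (y : G) :=
          congrArg Subtype.val h
        have h'' : g * (g * (y : G) * g⁻¹) * g⁻¹ = (y : G) := mul_left_cancel h'
        have hcomm : Commute (g ^ 2) (y : G) := by
          show g ^ 2 * (y : G) = (y : G) * g ^ 2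
          calc g ^ 2 * (y : G) = (g * (g * (y : G) * g⁻¹) * g⁻¹) * g ^ 2 := by
                rw [pow_two]; group
            _ = (y : G) * g ^ 2 := by rw [h'']
        obtain ⟨n, hn⟩ := hodd
        have hg2 : (g ^ 2) ^ (n + 1) = g := by
          rw [← pow_mul]
          have e : 2 * (n + 1) = orderOf g + 1 := by omega
          rw [e, pow_succ, pow_orderOf_eq_one, one_mul]
        have hcomm' : Commute g (y : G) := by
          have := hcomm.pow_left (n + 1)
          rwa [hg2] at this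
        apply hyD
        rw [hcomm'.eq]; group
      · intro h
        have h' : (x : G) * (g * (y : G) * g⁻¹) = (x : G) * (g * (g * (y : G) * g⁻¹) * g⁻¹) :=
          congrArg Subtype.val h
        have h'' : g * (y : G) * g⁻¹ = g * (g * (y : G) * g⁻¹) * g⁻¹ := mul_left_cancel h'
        apply hyD
        have e : g * (y : G) = g * (g * (y : G) * g⁻¹) := by
          calc g * (y : G) = (g * (y : G) * g⁻¹) * g := by group
            _ = (g * (g * (y : G) * g⁻¹) * g⁻¹) * g := by rw [← h'']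
            _ = g * (g * (y : G) * g⁻¹) := by group
        exact (mul_left_cancel e).symm
    · -- counting
      have hfib : ∀ b ∈ (I ×ˢ D).image m, ((I ×ˢ D).filter (fun p => m p = b)).card ≤ C.card := by
        intro b hb
        obtain ⟨⟨x₀, y₀⟩, hxy₀, rfl⟩ := Finset.mem_image.mp hb
        rw [Finset.mem_product] at hxy₀
        obtain ⟨hx₀I, hy₀D⟩ := hxy₀
        apply Finset.card_le_card_of_injOn (fun p : ↥(P : Subgroup G) × ↥Q => y₀ * p.2⁻¹)
        · rintro ⟨x, y⟩ hp
          rw [Finset.mem_coe, Finset.mem_filter, Finset.mem_product] at hp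
          obtain ⟨⟨hxI, hyD⟩, hm⟩ := hp
          have hm' : (x : G) * (y : G) = (x₀ : G) * (y₀ : G) := congrArg Subtype.val hm
          rw [Finset.mem_coe]
          simp only [C, Finset.mem_filter, Finset.mem_univ, true_and]
          rw [hmem]
          show g * ((y₀ : G) * (y : G)⁻¹) * g⁻¹ = (y₀ : G) * (y : G)⁻¹
          obtain ⟨c, hcx, hcQ⟩ := hlift x hxI
          have hzQ : (y₀ : G) * (y : G)⁻¹ ∈ Q := Q.mul_mem y₀.2 (Q.inv_mem y.2)
          have hz : (y₀ : G) * (y : G)⁻¹ = (x₀ : G)⁻¹ * (x : G) := by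
            calc (y₀ : G) * (y : G)⁻¹ = (x₀ : G)⁻¹ * ((x₀ : G) * (y₀ : G)) * (y : G)⁻¹ := by group
              _ = (x₀ : G)⁻¹ * ((x : G) * (y : G)) * (y : G)⁻¹ := by rw [hm']
              _ = (x₀ : G)⁻¹ * (x : G) := by group
          have hcz := hcQ _ hzQ
          have hx₀c : c * (x₀ : G) * c⁻¹ = (x₀ : G) := by
            apply hiso x₀ hx₀I _ _ (isConj_iff.mpr ⟨c, rfl⟩)
            have e : c * (x₀ : G) * c⁻¹ = (x : G) * (g * ((y₀ : G) * (y : G)⁻¹) * g⁻¹)⁻¹ := by
              rw [← hcz, hz]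
              calc c * (x₀ : G) * c⁻¹
                  = (c * (x : G) * c⁻¹) * (c * ((x₀ : G)⁻¹ * (x : G)) * c⁻¹)⁻¹ := by group
                _ = (x : G) * (c * ((x₀ : G)⁻¹ * (x : G)) * c⁻¹)⁻¹ := by rw [hcx]
            rw [e]
            exact Subgroup.mul_mem _ x.2 (Subgroup.inv_mem _ (hQP (hgQ _ hzQ)))
          rw [← hcz, hz]
          calc c * ((x₀ : G)⁻¹ * (x : G)) * c⁻¹
              = (c * (x₀ : G) * c⁻¹)⁻¹ * (c * (x : G) * c⁻¹) := by group
            _ = (x₀ : G)⁻¹ * (x : G) := by rw [hx₀c, hcx]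
        · rintro ⟨x, y⟩ hp ⟨x', y'⟩ hp' heq
          rw [Finset.mem_coe, Finset.mem_filter] at hp hp'
          have hy : y = y' := by
            have h3 : y₀ * y⁻¹ = y₀ * y'⁻¹ := heq
            exact inv_injective (mul_left_cancel h3)
          subst hy
          have hx : x = x' := by
            have h3 : m (x, y) = m (x', y) := hp.2.trans hp'.2.symm
            exact mul_right_cancel h3
          rw [hx]
      have h3 := Finset.card_le_mul_card_image (I ×ˢ D) C.card hfib
      rw [Finset.card_product] at h3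
      have h4 : D.card + C.card = Nat.card ↥Q := by
        have := Finset.card_filter_add_card_filter_not (s := (Finset.univ : Finset ↥Q))
          (fun y => y ∈ Cs)
        rw [Finset.card_univ, ← Nat.card_eq_fintype_card] at this
        rw [add_comm, ← this]
      have h5 : C.card = Nat.card ↥Cs := by
        rw [Nat.subtype_card C (fun y => by simp [C])]
      have h6 := four_mul_card_fixed_le (P.isPGroup'.to_le hQP) hg hodd hgC
      rw [← hCs, ← h5] at h6
      have h7 : 0 < C.card := Finset.card_pos.mpr ⟨1, by simp [C, Cs.one_mem]⟩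
      have h8 : 3 * C.card ≤ D.card := by omega
      have h9 : C.card * (3 * I.card) ≤ C.card * B.card := by
        calc C.card * (3 * I.card) = I.card * (3 * C.card) := by ring
          _ ≤ I.card * D.card := Nat.mul_le_mul_left _ h8
          _ ≤ C.card * B.card := h3
      exact Nat.le_of_mul_le_mul_left h9 h7
  omega

end Cfsg.Agent.H68
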