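import Mathlib
import Cfsg.Agent.S3889
import Cfsg.Agent.H68.FusionCount

set_option autoImplicit false

namespace Cfsg.Agent.H68

/-- In a minimal cover, a proper subgroup contains at most one member. -/
theorem cover_eq_of_le {G : Type*} [Group G] (𝓐 : Finset (Subgroup G))
    (hprop : ∀ A ∈ 𝓐, A ≠ ⊤) (hcov : ∀ g : G, ∃ A ∈ 𝓐, g ∈ A)
    (hmin : ∀ 𝓑 : Finset (Subgroup G), (∀ A ∈ 𝓑, A ≠ ⊤) ∧ (∀ g : G, ∃ A ∈ 𝓑, g ∈ A) →
      𝓐.card ≤ 𝓑.card)
    {M A B : Subgroup G} (hM : M ≠ ⊤) (hA : A ∈ 𝓐) (hB : B ∈ 𝓐) (hAM : A ≤ M) (hBM : B ≤ M) :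
    A = B := by
  classical
  by_contra hne
  have h := hmin (insert M ((𝓐.erase A).erase B)) ⟨?_, ?_⟩
  · have h1 : (insert M ((𝓐.erase A).erase B)).card ≤ ((𝓐.erase A).erase B).card + 1 :=
      Finset.card_insert_le _ _
    have hB' : B ∈ 𝓐.erase A := Finset.mem_erase.mpr ⟨Ne.symm hne, hB⟩
    have h2 : ((𝓐.erase A).erase B).card = (𝓐.erase A).card - 1 := Finset.card_erase_of_mem hB'
    have h3 : (𝓐.erase A).card = 𝓐.card - 1 := Finset.card_erase_of_mem hA
    have h4 : 1 < 𝓐.card := Finset.one_lt_card.mpr ⟨A, hA, B, hB, hne⟩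
    omega
  · intro C hC
    rcases Finset.mem_insert.mp hC with rfl | hC
    · exact hM
    · exact hprop C (Finset.mem_of_mem_erase (Finset.mem_of_mem_erase hC))
  · intro g
    obtain ⟨C, hC, hg⟩ := hcov g
    by_cases hCA : C = A
    · exact ⟨M, Finset.mem_insert_self _ _, hAM (hCA ▸ hg)⟩
    by_cases hCB : C = B
    · exact ⟨M, Finset.mem_insert_self _ _, hBM (hCB ▸ hg)⟩
    · exact ⟨C, Finset.mem_insert_of_mem
        (Finset.mem_erase.mpr ⟨hCB, Finset.mem_erase.mpr ⟨hCA, hC⟩⟩), hg⟩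

/-- In a finite nilpotent group with commutative Sylow `p`-subgroup `Q`, the elements of `Q` are
central. -/
theorem commute_of_mem_sylow_of_nilpotent {H : Type*} [Group H] [Finite H] [Group.IsNilpotent H]
    {p : ℕ} [Fact p.Prime] (Q : Sylow p H) (hQ : ∀ u ∈ (Q : Subgroup H), ∀ v ∈ (Q : Subgroup H),
      u * v = v * u) {x : H} (hx : x ∈ (Q : Subgroup H)) (a : H) : a * x = x * a := by
  have hn0 : orderOf a ≠ 0 := (orderOf_pos a).ne'
  let C : Subgroup H := Subgroup.centralizer {x} ⊓ Subgroup.zpowers a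
  have hCle : C ≤ Subgroup.zpowers a := inf_le_right
  have hdvd : orderOf a ∣ Nat.card C := by
    rw [Nat.dvd_iff_prime_pow_dvd_dvd]
    intro q k hq hqk
    have : Fact q.Prime := ⟨hq⟩
    have hb : orderOf (a ^ (orderOf a / q ^ k)) = q ^ k := orderOf_pow_orderOf_div hn0 hqk
    have hbq : IsPGroup q (Subgroup.zpowers (a ^ (orderOf a / q ^ k))) := by
      apply isPGroup_zpowers_of_pow_eq_one (k := k)
      have := pow_orderOf_eq_one (a ^ (orderOf a / q ^ k))
      rwa [hb] at this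
    obtain ⟨Q', hQ'⟩ := hbq.exists_le_sylow
    have hbQ' : a ^ (orderOf a / q ^ k) ∈ (Q' : Subgroup H) := hQ' (Subgroup.mem_zpowers _)
    have hbx : a ^ (orderOf a / q ^ k) * x = x * a ^ (orderOf a / q ^ k) := by
      by_cases hqp : q = p
      · subst hqp
        have hsub : Subsingleton (Sylow q H) := by
          have := Sylow.unique_of_normal Q inferInstance
          infer_instance
        have : Q' = Q := Subsingleton.elim _ _
        rw [this] at hbQ'
        exact hQ _ hbQ' _ hx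
      · exact (Subgroup.commute_of_normal_of_disjoint (Q' : Subgroup H) (Q : Subgroup H)
          inferInstance inferInstance (IsPGroup.disjoint_of_ne q p hqp _ _ Q'.isPGroup' Q.isPGroup')
          _ _ hbQ' hx).eq
    have hbC : a ^ (orderOf a / q ^ k) ∈ C := by
      refine ⟨?_, Subgroup.pow_mem _ (Subgroup.mem_zpowers a) _⟩
      show a ^ (orderOf a / q ^ k) ∈ Subgroup.centralizer {x}
      rw [Subgroup.mem_centralizer_iff]
      intro h hh
      rw [Set.mem_singleton_iff] at hh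
      rw [hh]
      exact hbx.symm
    have := orderOf_dvd_natCard (⟨a ^ (orderOf a / q ^ k), hbC⟩ : C)
    rwa [Subgroup.orderOf_mk, hb] at this
  have hcard : Nat.card C = orderOf a := by
    apply Nat.dvd_antisymm _ hdvd
    rw [← Nat.card_zpowers a]
    exact Subgroup.card_dvd_of_le hCle
  have hCeq : C = Subgroup.zpowers a :=
    Subgroup.eq_of_le_of_card_ge hCle (by rw [hcard, Nat.card_zpowers])
  have haC : a ∈ C := hCeq ▸ Subgroup.mem_zpowers a
  exact (Subgroup.mem_centralizer_iff.mp haC.1 x rfl).symm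

/-- Membership in a conjugate Sylow subgroup. -/
theorem mem_smul_sylow_iff {G : Type*} [Group G] {p : ℕ} (P : Sylow p G) (g y : G) :
    y ∈ ((g • P : Sylow p G) : Subgroup G) ↔ g⁻¹ * y * g ∈ (P : Subgroup G) := by
  rw [Sylow.coe_subgroup_smul, Subgroup.mem_smul_pointwise_iff_exists]
  constructor
  · rintro ⟨v, hv, rfl⟩
    have : g⁻¹ * (MulAut.conj g • v) * g = v := by
      show g⁻¹ * (g * v * g⁻¹) * g = v
      group
    rwa [this]
  · intro h
    refine ⟨_, h, ?_⟩
    show g * (g⁻¹ * y * g) * g⁻¹ = y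
    group

/-- If a Sylow `p`-subgroup is commutative then so is every `p`-subgroup. -/
theorem mul_comm_of_isPGroup {G : Type*} [Group G] [Finite G] {p : ℕ} [Fact p.Prime]
    (P : Sylow p G) (hab : IsMulCommutative ↥(P : Subgroup G)) {K : Subgroup G}
    (hK : IsPGroup p K) {u v : G} (hu : u ∈ K) (hv : v ∈ K) : u * v = v * u := by
  obtain ⟨P', hP'⟩ := hK.exists_le_sylow
  obtain ⟨g, rfl⟩ := MulAction.exists_smul_eq G P P'
  have hu' := (mem_smul_sylow_iff P g u).mp (hP' hu)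
  have hv' := (mem_smul_sylow_iff P g v).mp (hP' hv)
  have h := congrArg Subtype.val (hab.is_comm.comm (⟨_, hu'⟩ : ↥(P : Subgroup G)) ⟨_, hv'⟩)
  have h' : g⁻¹ * u * g * (g⁻¹ * v * g) = g⁻¹ * v * g * (g⁻¹ * u * g) := h
  have e1 : u * v = g * (g⁻¹ * u * g * (g⁻¹ * v * g)) * g⁻¹ := by group
  rw [e1, h']
  group

/-- A `p`-element normalizing a Sylow `p`-subgroup lies in it. -/
theorem mem_sylow_of_mem_normalizer {G : Type*} [Group G] {p : ℕ} [Fact p.Prime] (Q : Sylow p G)
    {z : G} (hz : z ∈ Subgroup.normalizer ((Q : Subgroup G) : Set G)) {k : ℕ}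
    (hk : z ^ p ^ k = 1) : z ∈ (Q : Subgroup G) := by
  have hzp : IsPGroup p (Subgroup.zpowers z) := isPGroup_zpowers_of_pow_eq_one hk
  have hle : Subgroup.zpowers z ≤ Subgroup.normalizer ((Q : Subgroup G) : Set G) := by
    rw [Subgroup.zpowers_le]
    exact hz
  have hsup := Q.is_maximal' (hzp.to_sup_of_normal_right' Q.isPGroup' hle) le_sup_right
  rw [← hsup]
  exact (le_sup_left : Subgroup.zpowers z ≤ _) (Subgroup.mem_zpowers z)

/-- Two Sylow subgroups, the first commutative, with the same centralizer are equal. -/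
theorem sylow_eq_of_centralizer_eq {G : Type*} [Group G] {p : ℕ} [Fact p.Prime]
    (Q Q' : Sylow p G)
    (hQ' : ∀ u ∈ (Q' : Subgroup G), ∀ v ∈ (Q' : Subgroup G), u * v = v * u)
    (h : Subgroup.centralizer ((Q' : Subgroup G) : Set G) =
      Subgroup.centralizer ((Q : Subgroup G) : Set G)) : Q' = Q := by
  have h1 : (Q' : Subgroup G) ≤ Subgroup.normalizer ((Q : Subgroup G) : Set G) := by
    intro u hu
    apply Subgroup.centralizer_le_normalizer
    rw [← h, Subgroup.mem_centralizer_iff]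
    intro v hv
    exact hQ' v hv u hu
  have hsup := Q.is_maximal' (Q'.isPGroup'.to_sup_of_normal_right' Q.isPGroup' h1) le_sup_right
  have hle : (Q' : Subgroup G) ≤ Q := by
    rw [← hsup]
    exact le_sup_left
  exact Sylow.ext (Q'.is_maximal' Q.isPGroup' hle).symm

/-- A nilpotent subgroup containing a `p`-element `x` centralizes `x` when the Sylow
`p`-subgroups are commutative. -/
theorem le_centralizer_of_nilpotent {G : Type*} [Group G] [Finite G] {p : ℕ} [Fact p.Prime]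
    (P : Sylow p G) (hab : IsMulCommutative ↥(P : Subgroup G)) (A : Subgroup G)
    [Group.IsNilpotent ↥A] {x : G} (hxA : x ∈ A) {k : ℕ} (hxk : x ^ p ^ k = 1) :
    A ≤ Subgroup.centralizer {x} := by
  obtain ⟨Q, hQ⟩ := (isPGroup_zpowers_of_pow_eq_one (p := p) (y := (⟨x, hxA⟩ : ↥A)) (k := k)
    (Subtype.ext (by simpa using hxk))).exists_le_sylow
  have hxQ : (⟨x, hxA⟩ : ↥A) ∈ (Q : Subgroup ↥A) := hQ (Subgroup.mem_zpowers _)
  have hQm : IsPGroup p ((Q : Subgroup ↥A).map A.subtype) := Q.isPGroup'.map A.subtype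
  have hQc : ∀ u ∈ (Q : Subgroup ↥A), ∀ v ∈ (Q : Subgroup ↥A), u * v = v * u := by
    intro u hu v hv
    apply Subtype.ext
    exact mul_comm_of_isPGroup P hab hQm ⟨u, hu, rfl⟩ ⟨v, hv, rfl⟩
  intro a ha
  rw [Subgroup.mem_centralizer_iff]
  intro h hh
  rw [Set.mem_singleton_iff] at hh
  subst hh
  have := commute_of_mem_sylow_of_nilpotent Q hQc hxQ ⟨a, ha⟩
  exact (congrArg Subtype.val this).symm

/-- In a nilpotent minimal cover of a centerless group with commutative Sylow `p`-subgroups, a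
nontrivial `p`-element lies in exactly one member. -/
theorem cover_eq_of_pElement_mem {G : Type*} [Group G] [Finite G] (hZ : Subgroup.center G = ⊥)
    (𝓐 : Finset (Subgroup G))
    (h𝓐 : ((∀ A ∈ 𝓐, A ≠ ⊤) ∧ (∀ g : G, ∃ A ∈ 𝓐, g ∈ A)) ∧
      (∀ 𝓑 : Finset (Subgroup G), (∀ A ∈ 𝓑, A ≠ ⊤) ∧ (∀ g : G, ∃ A ∈ 𝓑, g ∈ A) →
        𝓐.card ≤ 𝓑.card) ∧ (∀ A ∈ 𝓐, Group.IsNilpotent ↥A))
    {p : ℕ} [Fact p.Prime] (P : Sylow p G) (hab : IsMulCommutative ↥(P : Subgroup G))
    {x : G} (hx1 : x ≠ 1) {k : ℕ} (hxk : x ^ p ^ k = 1) {A B : Subgroup G} (hA : A ∈ 𝓐)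
    (hB : B ∈ 𝓐) (hxA : x ∈ A) (hxB : x ∈ B) : A = B := by
  have hM : Subgroup.centralizer {x} ≠ (⊤ : Subgroup G) := by
    intro h
    apply hx1
    have : x ∈ Subgroup.center G := by
      rw [Subgroup.mem_center_iff]
      intro g
      have hg : g ∈ Subgroup.centralizer {x} := h ▸ Subgroup.mem_top g
      exact (Subgroup.mem_centralizer_iff.mp hg x rfl).symm
    rw [hZ] at this
    exact Subgroup.mem_bot.mp this
  have := h𝓐.2.2 A hA
  have := h𝓐.2.2 B hB
  exact cover_eq_of_le 𝓐 h𝓐.1.1 h𝓐.1.2 h𝓐.2.1 hM hA hB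
    (le_centralizer_of_nilpotent P hab A hxA hxk) (le_centralizer_of_nilpotent P hab B hxB hxk)

/-- Dichotomy: a Sylow `p`-subgroup lies in a member of the cover or has exponent `p` and order
greater than `p`. -/
theorem sylow_le_or_elementary {G : Type*} [Group G] [Finite G] (hZ : Subgroup.center G = ⊥)
    (𝓐 : Finset (Subgroup G))
    (h𝓐 : ((∀ A ∈ 𝓐, A ≠ ⊤) ∧ (∀ g : G, ∃ A ∈ 𝓐, g ∈ A)) ∧
      (∀ 𝓑 : Finset (Subgroup G), (∀ A ∈ 𝓑, A ≠ ⊤) ∧ (∀ g : G, ∃ A ∈ 𝓑, g ∈ A) →
        𝓐.card ≤ 𝓑.card) ∧ (∀ A ∈ 𝓐, Group.IsNilpotent ↥A))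
    {p : ℕ} [Fact p.Prime] (P : Sylow p G) (hab : IsMulCommutative ↥(P : Subgroup G))
    (Q : Sylow p G) :
    (∃ A ∈ 𝓐, (Q : Subgroup G) ≤ A) ∨
      ((∀ a ∈ (Q : Subgroup G), a ^ p = 1) ∧ p < Nat.card ↥(Q : Subgroup G)) := by
  by_cases hex : ∃ A ∈ 𝓐, (Q : Subgroup G) ≤ A
  · exact Or.inl hex
  right
  push Not at hex
  have hQc : ∀ u v : ↥(Q : Subgroup G), u * v = v * u := fun u v =>
    Subtype.ext (mul_comm_of_isPGroup P hab Q.isPGroup' u.2 v.2)
  let inst : CommGroup ↥(Q : Subgroup G) :=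
    { (inferInstance : Group ↥(Q : Subgroup G)) with mul_comm := hQc }
  have hexp := @S3889.result ↥(Q : Subgroup G) inst _
    {B | ∃ A ∈ 𝓐, B = A.subgroupOf (Q : Subgroup G)} (by
      rintro B ⟨A, hA, rfl⟩ h
      exact hex A hA (Subgroup.subgroupOf_eq_top.mp h)) (by
      intro g
      obtain ⟨A, hA, hg⟩ := h𝓐.1.2 g.1
      exact ⟨A.subgroupOf (Q : Subgroup G), ⟨A, hA, rfl⟩, Subgroup.mem_subgroupOf.mpr hg⟩) (by
      rintro B ⟨A, hA, rfl⟩ C ⟨A', hA', rfl⟩ hne
      rw [eq_bot_iff]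
      intro y hy
      rw [Subgroup.mem_bot]
      by_contra hy1
      apply hne
      obtain ⟨k, hk⟩ := Q.isPGroup' y
      have hk' : (y : G) ^ p ^ k = 1 := by simpa using congrArg Subtype.val hk
      have hy1' : (y : G) ≠ 1 := fun h => hy1 (Subtype.ext h)
      have : A = A' := cover_eq_of_pElement_mem hZ 𝓐 h𝓐 P hab hy1' hk' hA hA'
        (Subgroup.mem_subgroupOf.mp hy.1) (Subgroup.mem_subgroupOf.mp hy.2)
      rw [this])
  have hexp' : (Monoid.exponent ↥(Q : Subgroup G)).Prime := hexp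
  obtain ⟨n, hn⟩ := IsPGroup.iff_card.mp Q.isPGroup'
  have hdvd : Monoid.exponent ↥(Q : Subgroup G) ∣ p ^ n := hn ▸ Group.exponent_dvd_nat_card
  have hp : Monoid.exponent ↥(Q : Subgroup G) = p :=
    (Nat.prime_dvd_prime_iff_eq hexp' Fact.out).mp (hexp'.dvd_of_dvd_pow hdvd)
  constructor
  · intro a ha
    have := Monoid.pow_exponent_eq_one (⟨a, ha⟩ : ↥(Q : Subgroup G))
    rw [hp] at this
    simpa using congrArg Subtype.val this
  · by_contra hlt
    push Not at hlt
    have hnt : Nontrivial ↥(Q : Subgroup G) := by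
      by_contra hnt
      rw [not_nontrivial_iff_subsingleton] at hnt
      have h1 : Monoid.exponent ↥(Q : Subgroup G) = 1 := Monoid.exp_eq_one_iff.mpr hnt
      rw [hp] at h1
      exact (Fact.out : p.Prime).one_lt.ne' h1
    obtain ⟨x, hx1⟩ := exists_ne (1 : ↥(Q : Subgroup G))
    obtain ⟨A, hA, hxA⟩ := h𝓐.1.2 x.1
    apply hex A hA
    have hox : orderOf x = p := by
      have h1 := Monoid.order_dvd_exponent x
      rw [hp] at h1
      rcases (Nat.dvd_prime Fact.out).mp h1 with h | h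
      · exact absurd (orderOf_eq_one_iff.mp h) hx1
      · exact h
    have htop : Subgroup.zpowers x = ⊤ := by
      apply Subgroup.eq_top_of_le_card
      rw [Nat.card_zpowers, hox]
      exact hlt
    intro y hy
    have hmem : (⟨y, hy⟩ : ↥(Q : Subgroup G)) ∈ Subgroup.zpowers x := htop ▸ Subgroup.mem_top _
    obtain ⟨m, hm⟩ := Subgroup.mem_zpowers_iff.mp hmem
    have hy' : y = (x : G) ^ m := by
      have := congrArg Subtype.val hm
      simpa using this.symm
    rw [hy']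
    exact A.zpow_mem hxA m

/-- If a nontrivial Sylow `p`-subgroup `Q` lies in a member `A` of the cover then `A` is the
centralizer of `Q`. -/
theorem centralizer_eq_of_sylow_le {G : Type*} [Group G] [Finite G] (hZ : Subgroup.center G = ⊥)
    (𝓐 : Finset (Subgroup G))
    (h𝓐 : ((∀ A ∈ 𝓐, A ≠ ⊤) ∧ (∀ g : G, ∃ A ∈ 𝓐, g ∈ A)) ∧
      (∀ 𝓑 : Finset (Subgroup G), (∀ A ∈ 𝓑, A ≠ ⊤) ∧ (∀ g : G, ∃ A ∈ 𝓑, g ∈ A) →
        𝓐.card ≤ 𝓑.card) ∧ (∀ A ∈ 𝓐, Group.IsNilpotent ↥A))
    {p : ℕ} [Fact p.Prime] (P : Sylow p G) (hab : IsMulCommutative ↥(P : Subgroup G))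
    (Q : Sylow p G) (hQ1 : (Q : Subgroup G) ≠ ⊥) {A : Subgroup G} (hA : A ∈ 𝓐)
    (hQA : (Q : Subgroup G) ≤ A) : Subgroup.centralizer ((Q : Subgroup G) : Set G) = A := by
  have hnilA := h𝓐.2.2 A hA
  have hpow : ∀ x ∈ (Q : Subgroup G), ∃ k, x ^ p ^ k = 1 := by
    intro x hx
    obtain ⟨k, hk⟩ := Q.isPGroup' ⟨x, hx⟩
    exact ⟨k, by simpa using congrArg Subtype.val hk⟩
  apply le_antisymm
  · intro c hc
    obtain ⟨x, hxQ, hx1⟩ : ∃ x ∈ (Q : Subgroup G), x ≠ 1 := by
      by_contra h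
      push Not at h
      exact hQ1 ((Subgroup.eq_bot_iff_forall _).mpr h)
    obtain ⟨k, hk⟩ := hpow x hxQ
    have hc0 : orderOf c ≠ 0 := (orderOf_pos c).ne'
    have hcm : (c ^ (orderOf c / p ^ (orderOf c).factorization p)) ^
        p ^ ((orderOf c).factorization p) = 1 := by
      rw [← pow_mul, mul_comm, Nat.ordProj_mul_ordCompl_eq_self]
      exact pow_orderOf_eq_one c
    have hcmQ : c ^ (orderOf c / p ^ (orderOf c).factorization p) ∈ (Q : Subgroup G) :=
      mem_sylow_of_mem_normalizer Q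
        (Subgroup.centralizer_le_normalizer _ (Subgroup.pow_mem _ hc _)) hcm
    by_cases hcm1 : c ^ (orderOf c / p ^ (orderOf c).factorization p) = 1
    · obtain ⟨B, hB, hyB⟩ := h𝓐.1.2 (x * c)
      have hxc : Commute x c := Subgroup.mem_centralizer_iff.mp hc x hxQ
      have hym : (x * c) ^ (orderOf c / p ^ (orderOf c).factorization p) =
          x ^ (orderOf c / p ^ (orderOf c).factorization p) := by
        rw [hxc.mul_pow, hcm1, mul_one]
      have hxm1 : x ^ (orderOf c / p ^ (orderOf c).factorization p) ≠ 1 := by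
        intro h
        apply hx1
        have h1 : orderOf x ∣ orderOf c / p ^ (orderOf c).factorization p :=
          orderOf_dvd_of_pow_eq_one h
        have h2 : orderOf x ∣ p ^ k := orderOf_dvd_of_pow_eq_one hk
        have hcop : Nat.Coprime (orderOf c / p ^ (orderOf c).factorization p) (p ^ k) :=
          Nat.Coprime.pow_right k (Nat.Coprime.symm
            ((Nat.Prime.coprime_iff_not_dvd Fact.out).mpr (Nat.not_dvd_ordCompl Fact.out hc0)))
        have h3 : orderOf x ∣ 1 := by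
          have := Nat.dvd_gcd h1 h2
          rwa [hcop.gcd_eq_one] at this
        exact orderOf_eq_one_iff.mp (Nat.dvd_one.mp h3)
      have hxmk : (x ^ (orderOf c / p ^ (orderOf c).factorization p)) ^ p ^ k = 1 := by
        rw [← pow_mul, mul_comm, pow_mul, hk, one_pow]
      have hBA : B = A := cover_eq_of_pElement_mem hZ 𝓐 h𝓐 P hab hxm1 hxmk hB hA
        (hym ▸ B.pow_mem hyB _) (A.pow_mem (hQA hxQ) _)
      have e : c = x⁻¹ * (x * c) := by group
      rw [e]
      exact A.mul_mem (A.inv_mem (hQA hxQ)) (hBA ▸ hyB)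
    · obtain ⟨B, hB, hcB⟩ := h𝓐.1.2 c
      have hBA : B = A := cover_eq_of_pElement_mem hZ 𝓐 h𝓐 P hab hcm1 hcm hB hA
        (B.pow_mem hcB _) (hQA hcmQ)
      exact hBA ▸ hcB
  · intro a ha
    rw [Subgroup.mem_centralizer_iff]
    intro x hx
    obtain ⟨k, hk⟩ := hpow x hx
    exact Subgroup.mem_centralizer_iff.mp (le_centralizer_of_nilpotent P hab A (hQA hx) hk ha) x rfl

/-- Main structure lemma for nilpotent minimal covers: if the abelian non-normal Sylow
`p`-subgroup `P` is not (of exponent `p` and order greater than `p`) then the centralizers of all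
Sylow `p`-subgroups are members of the cover, the normalizer `N` of `P` is maximal, `N` meets its
conjugates in `p'`-groups, and every proper subgroup containing `C_G(P)` lies in `N`. -/
theorem nilcover_main {G : Type*} [Group G] [Finite G] (hZ : Subgroup.center G = ⊥)
    (𝓐 : Finset (Subgroup G))
    (h𝓐 : ((∀ A ∈ 𝓐, A ≠ ⊤) ∧ (∀ g : G, ∃ A ∈ 𝓐, g ∈ A)) ∧
      (∀ 𝓑 : Finset (Subgroup G), (∀ A ∈ 𝓑, A ≠ ⊤) ∧ (∀ g : G, ∃ A ∈ 𝓑, g ∈ A) →
        𝓐.card ≤ 𝓑.card) ∧ (∀ A ∈ 𝓐, Group.IsNilpotent ↥A))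
    {p : ℕ} [Fact p.Prime] (P : Sylow p G) (hab : IsMulCommutative ↥(P : Subgroup G))
    (hnn : ¬ (P : Subgroup G).Normal)
    (hne : ¬ ((∀ a ∈ (P : Subgroup G), a ^ p = 1) ∧ p < Nat.card ↥(P : Subgroup G))) :
    Subgroup.centralizer ((P : Subgroup G) : Set G) ∈ 𝓐 ∧
    IsCoatom (Subgroup.normalizer ((P : Subgroup G) : Set G)) ∧
    (∀ g : G, g ∉ Subgroup.normalizer ((P : Subgroup G) : Set G) →
      ¬ p ∣ Nat.card ↥(Subgroup.normalizer ((P : Subgroup G) : Set G) ⊓
        (Subgroup.normalizer ((P : Subgroup G) : Set G)).map (MulAut.conj g).toMonoidHom)) ∧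
    (∀ M : Subgroup G, M ≠ ⊤ → Subgroup.centralizer ((P : Subgroup G) : Set G) ≤ M →
      M ≤ Subgroup.normalizer ((P : Subgroup G) : Set G)) := by
  have hp : p.Prime := Fact.out
  -- `P` is nontrivial
  obtain ⟨x₀, hx₀P, hx₀1⟩ : ∃ x ∈ (P : Subgroup G), x ≠ 1 := by
    by_contra h
    push Not at h
    apply hnn
    rw [(Subgroup.eq_bot_iff_forall _).mpr h]
    infer_instance
  -- all Sylow subgroups are commutative
  have hcomm : ∀ Q : Sylow p G, ∀ u ∈ (Q : Subgroup G), ∀ v ∈ (Q : Subgroup G), u * v = v * u :=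
    fun Q u hu v hv => mul_comm_of_isPGroup P hab Q.isPGroup' hu hv
  -- Step A: the centralizer of every Sylow subgroup is a member
  have hA : ∀ Q : Sylow p G, Subgroup.centralizer ((Q : Subgroup G) : Set G) ∈ 𝓐 := by
    intro Q
    obtain ⟨g, rfl⟩ := MulAction.exists_smul_eq G P Q
    have hQ1 : ((g • P : Sylow p G) : Subgroup G) ≠ ⊥ := by
      intro h
      have h1 : g * x₀ * g⁻¹ ∈ ((g • P : Sylow p G) : Subgroup G) := by
        rw [mem_smul_sylow_iff]
        have e : g⁻¹ * (g * x₀ * g⁻¹) * g = x₀ := by group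
        rw [e]
        exact hx₀P
      rw [h, Subgroup.mem_bot] at h1
      apply hx₀1
      have e : x₀ = g⁻¹ * (g * x₀ * g⁻¹) * g := by group
      rw [e, h1]
      group
    rcases sylow_le_or_elementary hZ 𝓐 h𝓐 P hab (g • P) with ⟨A, hAm, hle⟩ | ⟨h1, h2⟩
    · rw [centralizer_eq_of_sylow_le hZ 𝓐 h𝓐 P hab (g • P) hQ1 hAm hle]
      exact hAm
    · exfalso
      apply hne
      constructor
      · intro a ha
        have h3 : g * a * g⁻¹ ∈ ((g • P : Sylow p G) : Subgroup G) := by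
          rw [mem_smul_sylow_iff]
          have e : g⁻¹ * (g * a * g⁻¹) * g = a := by group
          rw [e]
          exact ha
        have h4 := h1 _ h3
        rw [conj_pow] at h4
        have e : a ^ p = g⁻¹ * (g * a ^ p * g⁻¹) * g := by group
        rw [e, h4]
        group
      · have e1 := Sylow.card_eq_multiplicity (g • P)
        have e2 := Sylow.card_eq_multiplicity P
        rw [e2, ← e1]
        exact h2
  -- Step B: proper subgroups over the centralizer lie in the normalizer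
  have hB : ∀ M : Subgroup G, M ≠ ⊤ → Subgroup.centralizer ((P : Subgroup G) : Set G) ≤ M →
      M ≤ Subgroup.normalizer ((P : Subgroup G) : Set G) := by
    intro M hM hCM m hm
    have hle : Subgroup.centralizer (((m • P : Sylow p G) : Subgroup G) : Set G) ≤ M := by
      intro c hc
      have h1 : m⁻¹ * c * m ∈ Subgroup.centralizer ((P : Subgroup G) : Set G) := by
        rw [Subgroup.mem_centralizer_iff]
        intro x hx
        have h3 : m * x * m⁻¹ ∈ ((m • P : Sylow p G) : Subgroup G) := by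
          rw [mem_smul_sylow_iff]
          have e : m⁻¹ * (m * x * m⁻¹) * m = x := by group
          rw [e]
          exact hx
        have h4 : m * x * m⁻¹ * c = c * (m * x * m⁻¹) := Subgroup.mem_centralizer_iff.mp hc _ h3
        have e1 : x * (m⁻¹ * c * m) = m⁻¹ * (m * x * m⁻¹ * c) * m := by group
        rw [e1, h4]
        group
      have e : c = m * (m⁻¹ * c * m) * m⁻¹ := by group
      rw [e]
      exact M.mul_mem (M.mul_mem hm (hCM h1)) (M.inv_mem hm)
    have heq := cover_eq_of_le 𝓐 h𝓐.1.1 h𝓐.1.2 h𝓐.2.1 hM (hA (m • P)) (hA P) hle hCM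
    have := sylow_eq_of_centralizer_eq P (m • P) (hcomm (m • P)) heq
    exact Sylow.smul_eq_iff_mem_normalizer.mp this
  have hNtop : Subgroup.normalizer ((P : Subgroup G) : Set G) ≠ ⊤ := by
    intro h
    exact hnn (Subgroup.normalizer_eq_top_iff.mp h)
  have hCN : Subgroup.centralizer ((P : Subgroup G) : Set G) ≤
      Subgroup.normalizer ((P : Subgroup G) : Set G) := Subgroup.centralizer_le_normalizer _
  refine ⟨hA P, ⟨hNtop, ?_⟩, ?_, hB⟩
  · intro M hNM
    by_contra hM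
    exact absurd (hB M hM (hCN.trans hNM.le)) (not_le_of_gt hNM)
  · intro g hg hdvd
    obtain ⟨z, hz⟩ := exists_prime_orderOf_dvd_card' (G := ↥(Subgroup.normalizer
      ((P : Subgroup G) : Set G) ⊓ (Subgroup.normalizer ((P : Subgroup G) : Set G)).map
        (MulAut.conj g).toMonoidHom)) p hdvd
    have hz1 : (z : G) ≠ 1 := by
      intro h
      have : z = 1 := Subtype.ext h
      rw [this, orderOf_one] at hz
      exact hp.one_lt.ne hz
    have hzp : (z : G) ^ p ^ 1 = 1 := by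
      have h := pow_orderOf_eq_one z
      rw [hz] at h
      rw [pow_one, ← Subgroup.coe_pow, h]
      rfl
    have hzP : (z : G) ∈ (P : Subgroup G) := mem_sylow_of_mem_normalizer P z.2.1 hzp
    obtain ⟨n, hn, hnz⟩ := z.2.2
    have hnz' : g * n * g⁻¹ = (z : G) := hnz
    have hnp : n ^ p ^ 1 = 1 := by
      have h5 : (g * n * g⁻¹) ^ p ^ 1 = 1 := by rw [hnz']; exact hzp
      rw [conj_pow] at h5
      have e : n ^ p ^ 1 = g⁻¹ * (g * n ^ p ^ 1 * g⁻¹) * g := by group
      rw [e, h5]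
      group
    have hnP : n ∈ (P : Subgroup G) := mem_sylow_of_mem_normalizer P hn hnp
    have hzgP : (z : G) ∈ ((g • P : Sylow p G) : Subgroup G) := by
      rw [mem_smul_sylow_iff, ← hnz']
      have e : g⁻¹ * (g * n * g⁻¹) * g = n := by group
      rw [e]
      exact hnP
    have hzC : (z : G) ∈ Subgroup.centralizer ((P : Subgroup G) : Set G) := by
      rw [Subgroup.mem_centralizer_iff]
      intro x hx
      exact hcomm P x hx _ hzP
    have hzC' : (z : G) ∈ Subgroup.centralizer (((g • P : Sylow p G) : Subgroup G) : Set G) := by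
      rw [Subgroup.mem_centralizer_iff]
      intro x hx
      exact hcomm (g • P) x hx _ hzgP
    have heq := cover_eq_of_pElement_mem hZ 𝓐 h𝓐 P hab hz1 hzp (hA (g • P)) (hA P) hzC' hzC
    have := sylow_eq_of_centralizer_eq P (g • P) (hcomm (g • P)) heq
    exact hg (Sylow.smul_eq_iff_mem_normalizer.mp this)

end Cfsg.Agent.H68
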