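import Mathlib
import Cfsg.Agent.H68.NilCover
import Cfsg.Agent.S0033

set_option autoImplicit false

/-!
# Groups whose elements outside a normal subgroup have prime power order and maximal centralizer
(helper68)
-/

namespace Cfsg.Agent.H68

/-- If `u`, `v` commute, `u * v` and `u` are `p`-elements, then so is `v`. -/
theorem pow_eq_one_of_commute_mul {G : Type*} [Group G] {p a b : ℕ} {u v : G} (huv : u * v = v * u)
    (h1 : (u * v) ^ p ^ b = 1) (h2 : u ^ p ^ a = 1) : v ^ p ^ (a + b) = 1 := by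
  have hc : Commute u v := huv
  rw [hc.mul_pow] at h1
  have h3 : v ^ p ^ b = (u ^ p ^ b)⁻¹ := eq_inv_of_mul_eq_one_right h1
  rw [pow_add, mul_comm, pow_mul, h3, inv_pow, ← pow_mul, mul_comm, pow_mul, h2, one_pow, inv_one]

/-- If `x ∉ N` has order `p ^ a` and every element outside `N` has prime power order, then every
element of the coset `x N` is a `p`-element. -/
theorem exists_pow_eq_one_of_coset {G : Type*} [Group G] [Finite G] (N : Subgroup G) [N.Normal]
    (h : ∀ x : G, x ∉ N → IsPrimePow (orderOf x)) {x : G} (hx : x ∉ N) {p a : ℕ} (hp : p.Prime)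
    (hxa : x ^ p ^ a = 1) {n : G} (hn : n ∈ N) : ∃ b : ℕ, (x * n) ^ p ^ b = 1 := by
  have hxn : x * n ∉ N := fun h' => hx ((Subgroup.mul_mem_cancel_right N hn).mp h')
  obtain ⟨r, b, hr, hb, hrb⟩ := h (x * n) hxn
  have hr' : r.Prime := Nat.prime_iff.mpr hr
  have h1 : (QuotientGroup.mk' N x) ≠ 1 := by
    intro h'
    exact hx ((QuotientGroup.eq_one_iff x).mp h')
  have h2 : orderOf (QuotientGroup.mk' N x) ∣ p ^ a := by
    apply orderOf_dvd_of_pow_eq_one
    rw [← map_pow, hxa, map_one]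
  have h3 : orderOf (QuotientGroup.mk' N x) ∣ r ^ b := by
    have : QuotientGroup.mk' N x = QuotientGroup.mk' N (x * n) := by
      rw [map_mul]
      have : QuotientGroup.mk' N n = 1 := (QuotientGroup.eq_one_iff n).mpr hn
      rw [this, mul_one]
    rw [this, hrb]
    exact orderOf_map_dvd _ _
  obtain ⟨i, -, hi⟩ := (Nat.dvd_prime_pow hp).mp h2
  have hi0 : i ≠ 0 := by
    rintro rfl
    rw [pow_zero, orderOf_eq_one_iff] at hi
    exact h1 hi
  have hpr : p ∣ r ^ b := by
    rw [hi] at h3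
    exact dvd_trans (dvd_pow_self p hi0) h3
  have hpr' : p = r := (Nat.prime_dvd_prime_iff_eq hp hr').mp (hp.dvd_of_dvd_pow hpr)
  refine ⟨b, ?_⟩
  rw [hpr', hrb, pow_orderOf_eq_one]

/-- Elements of `N` centralizing `x ∉ N` are `p`-elements. -/
theorem exists_pow_eq_one_of_commute {G : Type*} [Group G] [Finite G] (N : Subgroup G) [N.Normal]
    (h : ∀ x : G, x ∉ N → IsPrimePow (orderOf x)) {x : G} (hx : x ∉ N) {p a : ℕ} (hp : p.Prime)
    (hxa : x ^ p ^ a = 1) {n : G} (hn : n ∈ N) (hc : x * n = n * x) : ∃ k : ℕ, n ^ p ^ k = 1 := by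
  obtain ⟨b, hb⟩ := exists_pow_eq_one_of_coset N h hx hp hxa hn
  exact ⟨a + b, pow_eq_one_of_commute_mul hc hb hxa⟩

/-- Dichotomy for a subgroup `R ≤ L` normalized by a maximal subgroup `M`. -/
theorem le_inf_or_le_of_isCoatom {G : Type*} [Group G] {M L R : Subgroup G} (hM : IsCoatom M)
    (hRL : R ≤ L) (hMR : M ≤ Subgroup.normalizer (R : Set G)) (hML : M ⊓ L ≤ R) :
    R ≤ M ⊓ L ∨ L ≤ R := by
  by_cases hRM : R ≤ M
  · exact Or.inl (le_inf hRM hRL)
  · right
    have h1 : M < M ⊔ R := lt_of_le_of_ne le_sup_left (fun h => hRM (h ▸ le_sup_right))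
    have h2 : M ⊔ R = ⊤ := hM.2 _ h1
    intro l hl
    have h3 : l ∈ ((M ⊔ R : Subgroup G) : Set G) := by rw [h2]; trivial
    rw [Subgroup.coe_mul_of_left_le_normalizer_right M R hMR] at h3
    obtain ⟨m, hm, r, hr, rfl⟩ := h3
    have hmL : m ∈ L := by
      have : m = m * r * r⁻¹ := by group
      rw [this]
      exact L.mul_mem hl (L.inv_mem (hRL hr))
    exact R.mul_mem (hML ⟨hm, hmL⟩) hr

/-- Normalizers grow in `p`-groups. -/
theorem exists_mem_normalizer_not_mem {H : Type*} [Group H] [Finite H] {p : ℕ} [Fact p.Prime]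
    {Q P : Subgroup H} (hP : IsPGroup p P) (hQP : Q < P) :
    ∃ g ∈ P, g ∉ Q ∧ g ∈ Subgroup.normalizer (Q : Set H) := by
  have hnil : Group.IsNilpotent ↥P := hP.isNilpotent
  have hlt : Q.subgroupOf P < ⊤ := by
    rw [lt_top_iff_ne_top]
    intro h
    rw [Subgroup.subgroupOf_eq_top] at h
    exact lt_irrefl _ (lt_of_lt_of_le hQP h)
  have h1 := Group.normalizerCondition_of_isNilpotent (G := ↥P) (Q.subgroupOf P) hlt
  obtain ⟨g, hgN, hgQ⟩ := SetLike.exists_of_lt h1
  refine ⟨g, g.2, fun h => hgQ (Subgroup.mem_subgroupOf.mpr h), ?_⟩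
  rw [Subgroup.mem_normalizer_iff]
  rw [Subgroup.mem_normalizer_iff] at hgN
  intro h
  constructor
  · intro hh
    have := (hgN ⟨h, hQP.le hh⟩).mp (Subgroup.mem_subgroupOf.mpr hh)
    exact Subgroup.mem_subgroupOf.mp this
  · intro hh
    have hhP : h ∈ P := by
      have : h = (g : H)⁻¹ * ((g : H) * h * (g : H)⁻¹) * (g : H) := by group
      rw [this]
      exact P.mul_mem (P.mul_mem (P.inv_mem g.2) (hQP.le hh)) g.2
    have := (hgN ⟨h, hhP⟩).mpr (Subgroup.mem_subgroupOf.mpr hh)
    exact Subgroup.mem_subgroupOf.mp this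

theorem mem_centralizer_singleton {G : Type*} [Group G] {a g : G} :
    g ∈ Subgroup.centralizer ({a} : Set G) ↔ a * g = g * a := by
  rw [Subgroup.mem_centralizer_iff]
  constructor
  · intro h
    exact h a rfl
  · intro h b hb
    rw [Set.mem_singleton_iff] at hb
    rw [hb]
    exact h

/-- Burnside's normal `p`-complement theorem, packaged. -/
theorem exists_normal_pComplement {H : Type*} [Group H] [Finite H] {p : ℕ} [Fact p.Prime]
    (P : Sylow p H) (hP : Subgroup.normalizer ((P : Subgroup H) : Set H) ≤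
      Subgroup.centralizer ((P : Subgroup H) : Set H)) :
    ∃ K : Subgroup H, (∀ h : H, h ∈ K ↔ ¬ p ∣ orderOf h) ∧
      (∀ h : H, ∃ k ∈ K, ∃ s ∈ (P : Subgroup H), h = k * s) := by
  have hp : p.Prime := Fact.out
  refine ⟨(MonoidHom.transferSylow P hP).ker, ?_, ?_⟩
  · intro h
    constructor
    · intro hh hdvd
      have h1 : orderOf h ∣ Nat.card ↥(MonoidHom.transferSylow P hP).ker := by
        have := orderOf_dvd_natCard (⟨h, hh⟩ : ↥(MonoidHom.transferSylow P hP).ker)
        rwa [← Subgroup.orderOf_coe] at this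
      exact MonoidHom.not_dvd_card_ker_transferSylow P hP (dvd_trans hdvd h1)
    · intro hh
      rw [MonoidHom.mem_ker]
      have h1 : orderOf (MonoidHom.transferSylow P hP h) ∣ orderOf h := orderOf_map_dvd _ _
      have h2 : orderOf (MonoidHom.transferSylow P hP h) ∣ Nat.card ↥(P : Subgroup H) :=
        orderOf_dvd_natCard _
      rw [Sylow.card_eq_multiplicity] at h2
      obtain ⟨i, -, hi⟩ := (Nat.dvd_prime_pow hp).mp h2
      by_cases hi0 : i = 0
      · rw [hi0, pow_zero, orderOf_eq_one_iff] at hi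
        exact hi
      · exfalso
        apply hh
        rw [hi] at h1
        exact dvd_trans (dvd_pow_self p hi0) h1
  · intro h
    have hc := MonoidHom.ker_transferSylow_isComplement' P hP
    have hc' : Subgroup.IsComplement (((MonoidHom.transferSylow P hP).ker : Subgroup H) : Set H)
        ((P : Subgroup H) : Set H) := hc
    obtain ⟨⟨k, s⟩, hks, -⟩ := (Subgroup.isComplement_iff_existsUnique.mp hc') h
    exact ⟨k.1, k.2, s.1, s.2, hks.symm⟩

/-- **Counting + Burnside.** Let `L ⊴ G` and `x ∈ G` be such that for every `l ∈ L` the subgroup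
`C_L(x l)` is a self-normalizing `p`-subgroup of `L`. Then `L` has a `G`-invariant complement `K`
to `C_L(x)`. -/
theorem exists_complement_of_selfNormalizing {G : Type*} [Group G] [Finite G] (L : Subgroup G)
    [L.Normal] (x : G) {p : ℕ} [Fact p.Prime]
    (hpg : ∀ l ∈ L, ∀ y ∈ L, (x * l) * y = y * (x * l) → ∃ k : ℕ, y ^ p ^ k = 1)
    (hsn : ∀ l ∈ L, Subgroup.normalizer
      ((Subgroup.centralizer ({x * l} : Set G) ⊓ L : Subgroup G) : Set G) ⊓ L ≤
        Subgroup.centralizer ({x * l} : Set G) ⊓ L) :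
    ∃ K : Subgroup G, K ≤ L ∧ (∀ g k : G, k ∈ K → g * k * g⁻¹ ∈ K) ∧
      (∀ k ∈ K, x * k = k * x → k = 1) ∧
      (∀ l ∈ L, ∃ k ∈ K, ∃ s ∈ L, x * s = s * x ∧ l = k * s) := by
  let Q : ↥L → Subgroup ↥L := fun l => (Subgroup.centralizer ({x * (l : G)} : Set G)).subgroupOf L
  have hQmem : ∀ l y : ↥L, y ∈ Q l ↔ (x * (l : G)) * (y : G) = (y : G) * (x * (l : G)) := by
    intro l y
    show (y : G) ∈ Subgroup.centralizer ({x * (l : G)} : Set G) ↔ _
    exact mem_centralizer_singleton
  have hQ1 : ∀ y : ↥L, y ∈ Q 1 ↔ x * (y : G) = (y : G) * x := by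
    intro y
    rw [hQmem]
    simp
  have hQp : ∀ l, IsPGroup p (Q l) := by
    rintro l ⟨y, hy⟩
    obtain ⟨k, hk⟩ := hpg l l.2 y y.2 ((hQmem l y).mp hy)
    exact ⟨k, Subtype.ext (Subtype.ext (by simpa using hk))⟩
  have hQn : ∀ l, Subgroup.normalizer ((Q l : Subgroup ↥L) : Set ↥L) ≤ Q l := by
    intro l g hg
    rw [Subgroup.mem_normalizer_iff] at hg
    have h1 : (g : G) ∈ Subgroup.normalizer
        ((Subgroup.centralizer ({x * (l : G)} : Set G) ⊓ L : Subgroup G) : Set G) ⊓ L := by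
      refine Subgroup.mem_inf.mpr ⟨?_, g.2⟩
      rw [Subgroup.mem_normalizer_iff]
      intro h
      constructor
      · rintro ⟨hc, hL⟩
        have := (hg ⟨h, hL⟩).mp (Subgroup.mem_subgroupOf.mpr hc)
        exact ⟨Subgroup.mem_subgroupOf.mp this, L.mul_mem (L.mul_mem g.2 hL) (L.inv_mem g.2)⟩
      · rintro ⟨hc, hL⟩
        have hhL : h ∈ L := by
          have : h = (g : G)⁻¹ * ((g : G) * h * (g : G)⁻¹) * (g : G) := by group
          rw [this]
          exact L.mul_mem (L.mul_mem (L.inv_mem g.2) hL) g.2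
        have := (hg ⟨h, hhL⟩).mpr (Subgroup.mem_subgroupOf.mpr hc)
        exact ⟨Subgroup.mem_subgroupOf.mp this, hhL⟩
    exact Subgroup.mem_subgroupOf.mpr (hsn l l.2 h1).1
  have hSyl : ∀ l, ∃ P : Sylow p ↥L, (P : Subgroup ↥L) = Q l := by
    intro l
    obtain ⟨P, hP⟩ := (hQp l).exists_le_sylow
    refine ⟨P, ?_⟩
    by_contra hne
    have hlt : Q l < (P : Subgroup ↥L) := lt_of_le_of_ne hP (Ne.symm hne)
    obtain ⟨g, -, hgQ, hgN⟩ := exists_mem_normalizer_not_mem P.isPGroup' hlt
    exact hgQ (hQn l hgN)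
  obtain ⟨P, hP⟩ := hSyl 1
  -- every element of the coset is conjugate to `x * z` with `z` central in `Q 1`
  have hB3 : ∀ l : ↥L, ∃ g : ↥L, ∃ z : ↥L, z ∈ Q 1 ∧ (∀ s ∈ Q 1, z * s = s * z) ∧
      x * (l : G) = (g : G) * (x * (z : G)) * (g : G)⁻¹ := by
    intro l
    obtain ⟨Pl, hPl⟩ := hSyl l
    obtain ⟨g, hg⟩ := MulAction.exists_smul_eq ↥L P Pl
    have hconj : ∀ y : ↥L, y ∈ Q l ↔ g⁻¹ * y * g ∈ Q 1 := by
      intro y
      rw [← hPl, ← hg, ← hP]
      exact mem_smul_sylow_iff P g y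
    have hzL : x⁻¹ * (g : G)⁻¹ * x * (l : G) * (g : G) ∈ L := by
      have h1 : x⁻¹ * (g : G)⁻¹ * x ∈ L := by
        have := ‹L.Normal›.conj_mem _ (L.inv_mem g.2) x⁻¹
        simpa using this
      exact L.mul_mem (L.mul_mem h1 l.2) g.2
    have hkey : x * (x⁻¹ * (g : G)⁻¹ * x * (l : G) * (g : G)) = (g : G)⁻¹ * (x * (l : G)) * (g : G) := by
      group
    have hzc : ∀ s ∈ Q 1, (⟨_, hzL⟩ : ↥L) * s = s * ⟨_, hzL⟩ := by
      intro s hs
      have hs1 := (hQ1 s).mp hs
      have h1 : g * s * g⁻¹ ∈ Q l := by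
        rw [hconj]
        have : g⁻¹ * (g * s * g⁻¹) * g = s := by group
        rw [this]
        exact hs
      have h2 := (hQmem l _).mp h1
      apply Subtype.ext
      show x⁻¹ * (g : G)⁻¹ * x * (l : G) * (g : G) * (s : G) =
        (s : G) * (x⁻¹ * (g : G)⁻¹ * x * (l : G) * (g : G))
      have h3 : (x * (l : G)) * ((g : G) * (s : G) * (g : G)⁻¹) =
          ((g : G) * (s : G) * (g : G)⁻¹) * (x * (l : G)) := h2
      have h4 : ((g : G)⁻¹ * (x * (l : G)) * (g : G)) * (s : G) =
          (s : G) * ((g : G)⁻¹ * (x * (l : G)) * (g : G)) := by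
        have e1 : ((g : G)⁻¹ * (x * (l : G)) * (g : G)) * (s : G) =
            (g : G)⁻¹ * ((x * (l : G)) * ((g : G) * (s : G) * (g : G)⁻¹)) * (g : G) := by group
        have e2 : (s : G) * ((g : G)⁻¹ * (x * (l : G)) * (g : G)) =
            (g : G)⁻¹ * (((g : G) * (s : G) * (g : G)⁻¹) * (x * (l : G))) * (g : G) := by group
        rw [e1, e2, h3]
      rw [← hkey] at h4
      generalize x⁻¹ * (g : G)⁻¹ * x * (l : G) * (g : G) = z at h4 ⊢
      have h5 : x * (z * (s : G)) = x * ((s : G) * z) := by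
        rw [← mul_assoc, h4, ← mul_assoc, ← mul_assoc, hs1]
      exact mul_left_cancel h5
    have hzQ : (⟨_, hzL⟩ : ↥L) ∈ Q 1 := by
      apply hQn 1
      rw [Subgroup.mem_normalizer_iff]
      intro h
      constructor
      · intro hh
        have : (⟨_, hzL⟩ : ↥L) * h * (⟨_, hzL⟩ : ↥L)⁻¹ = h := by
          rw [hzc h hh, mul_inv_cancel_right]
        rw [this]
        exact hh
      · intro hh
        have h1 := hzc _ hh
        have : h = (⟨_, hzL⟩ : ↥L) * h * (⟨_, hzL⟩ : ↥L)⁻¹ := by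
          have e : (⟨_, hzL⟩ : ↥L) * h = ((⟨_, hzL⟩ : ↥L) * h * (⟨_, hzL⟩ : ↥L)⁻¹) * ⟨_, hzL⟩ := by
            group
          rw [← h1] at e
          exact mul_left_cancel e
        rw [this]
        exact hh
    refine ⟨g, ⟨_, hzL⟩, hzQ, hzc, ?_⟩
    show x * (l : G) = (g : G) * (x * (x⁻¹ * (g : G)⁻¹ * x * (l : G) * (g : G))) * (g : G)⁻¹
    rw [hkey]
    group
  -- (B4) counting: `Q 1` is abelian
  have hmemL : ∀ g z : ↥L, x⁻¹ * (g : G) * x * (z : G) * (g : G)⁻¹ ∈ L := by
    intro g z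
    have h1 : x⁻¹ * (g : G) * x ∈ L := by
      have := ‹L.Normal›.conj_mem _ g.2 x⁻¹
      simpa using this
    exact L.mul_mem (L.mul_mem h1 z.2) (L.inv_mem g.2)
  have hab : ∀ a ∈ Q 1, ∀ b ∈ Q 1, a * b = b * a := by
    let Zs : Subgroup ↥L := Q 1 ⊓ Subgroup.centralizer ((Q 1 : Subgroup ↥L) : Set ↥L)
    have hZle : Zs ≤ Q 1 := inf_le_left
    have hsurj : Function.Surjective (fun cz : (↥L ⧸ Q 1) × ↥Zs =>
        (⟨_, hmemL cz.1.out (cz.2 : ↥L)⟩ : ↥L)) := by
      intro l
      obtain ⟨g, z, hzQ, hzc, hl⟩ := hB3 l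
      obtain ⟨q, hq⟩ := QuotientGroup.mk_out_eq_mul (Q 1) g
      have hzZ : z ∈ Zs := by
        refine Subgroup.mem_inf.mpr ⟨hzQ, ?_⟩
        rw [Subgroup.mem_centralizer_iff]
        intro s hs
        exact (hzc s hs).symm
      refine ⟨(QuotientGroup.mk g, ⟨z, hzZ⟩), ?_⟩
      apply Subtype.ext
      show x⁻¹ * (((QuotientGroup.mk g : ↥L ⧸ Q 1).out : ↥L) : G) * x * (z : G) *
        (((QuotientGroup.mk g : ↥L ⧸ Q 1).out : ↥L) : G)⁻¹ = (l : G)
      rw [hq]
      have hq1 : x * ((q : ↥L) : G) = ((q : ↥L) : G) * x := (hQ1 q).mp q.2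
      have hq2 : (z : G) * ((q : ↥L) : G) = ((q : ↥L) : G) * (z : G) := by
        have := hzc q q.2
        exact congrArg Subtype.val this
      have e1 : ((q : ↥L) : G) * x * (z : G) * ((q : ↥L) : G)⁻¹ = x * (z : G) := by
        rw [← hq1, mul_assoc x, ← hq2, ← mul_assoc, mul_inv_cancel_right]
      calc x⁻¹ * ((g * (q : ↥L) : ↥L) : G) * x * (z : G) * ((g * (q : ↥L) : ↥L) : G)⁻¹
          = x⁻¹ * (g : G) * (((q : ↥L) : G) * x * (z : G) * ((q : ↥L) : G)⁻¹) * (g : G)⁻¹ := by
            rw [Subgroup.coe_mul]; group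
        _ = x⁻¹ * (g : G) * (x * (z : G)) * (g : G)⁻¹ := by rw [e1]
        _ = x⁻¹ * ((g : G) * (x * (z : G)) * (g : G)⁻¹) := by group
        _ = x⁻¹ * (x * (l : G)) := by rw [← hl]
        _ = (l : G) := by group
    have hcard := Nat.card_le_card_of_surjective _ hsurj
    rw [Nat.card_prod, ← Subgroup.index_eq_card] at hcard
    have h2 := Subgroup.index_mul_card (Q 1)
    have hidx : 0 < (Q 1).index := Nat.pos_of_ne_zero Subgroup.index_ne_zero_of_finite
    have h3 : Nat.card ↥(Q 1) ≤ Nat.card ↥Zs := by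
      rw [← h2] at hcard
      exact Nat.le_of_mul_le_mul_left hcard hidx
    have h4 : Zs = Q 1 := Subgroup.eq_of_le_of_card_ge hZle h3
    intro a ha b hb
    have haZ : a ∈ Zs := h4 ▸ ha
    exact ((Subgroup.mem_centralizer_iff.mp (Subgroup.mem_inf.mp haZ).2) b hb).symm
  -- (B5) Burnside
  have hPn : Subgroup.normalizer ((P : Subgroup ↥L) : Set ↥L) ≤
      Subgroup.centralizer ((P : Subgroup ↥L) : Set ↥L) := by
    rw [hP]
    intro g hg
    have hgQ := hQn 1 hg
    rw [Subgroup.mem_centralizer_iff]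
    intro h hh
    exact hab h hh g hgQ
  obtain ⟨K', hK', hKP⟩ := exists_normal_pComplement P hPn
  have hp : p.Prime := Fact.out
  refine ⟨K'.map L.subtype, ?_, ?_, ?_, ?_⟩
  · exact Subgroup.map_subtype_le K'
  · intro g k hk
    obtain ⟨k', hk', rfl⟩ := Subgroup.mem_map.mp hk
    have hL : g * (k' : G) * g⁻¹ ∈ L := ‹L.Normal›.conj_mem _ k'.2 g
    refine Subgroup.mem_map.mpr ⟨⟨_, hL⟩, ?_, rfl⟩
    rw [hK'] at hk' ⊢
    rw [← Subgroup.orderOf_coe] at hk' ⊢
    have e : orderOf (g * (k' : G) * g⁻¹) = orderOf (k' : G) :=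
      orderOf_injective (MulAut.conj g).toMonoidHom (MulAut.conj g).injective (k' : G)
    show ¬ p ∣ orderOf (g * (k' : G) * g⁻¹)
    rwa [e]
  · intro k hk hxk
    obtain ⟨k', hk', rfl⟩ := Subgroup.mem_map.mp hk
    have hkQ : k' ∈ Q 1 := (hQ1 k').mpr hxk
    obtain ⟨j, hj⟩ := hQp 1 ⟨k', hkQ⟩
    have hj' : k' ^ p ^ j = 1 := by
      have := congrArg Subtype.val hj
      simpa using this
    have h1 : orderOf k' ∣ p ^ j := orderOf_dvd_of_pow_eq_one hj'
    obtain ⟨i, -, hi⟩ := (Nat.dvd_prime_pow hp).mp h1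
    rw [hK'] at hk'
    by_cases hi0 : i = 0
    · rw [hi0, pow_zero, orderOf_eq_one_iff] at hi
      rw [hi]
      rfl
    · exfalso
      apply hk'
      rw [hi]
      exact dvd_pow_self p hi0
  · intro l hl
    obtain ⟨k, hk, s, hs, e⟩ := hKP ⟨l, hl⟩
    have hs' : s ∈ Q 1 := by rw [← hP]; exact hs
    exact ⟨k, Subgroup.mem_map.mpr ⟨k, hk, rfl⟩, s, s.2, (hQ1 s).mp hs', congrArg Subtype.val e⟩

theorem mem_normalizer_inf {G : Type*} [Group G] {A B : Subgroup G} {m : G}
    (hA : m ∈ Subgroup.normalizer (A : Set G)) (hB : m ∈ Subgroup.normalizer (B : Set G)) :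
    m ∈ Subgroup.normalizer ((A ⊓ B : Subgroup G) : Set G) := by
  rw [Subgroup.mem_normalizer_iff] at hA hB ⊢
  intro h
  rw [Subgroup.mem_inf, Subgroup.mem_inf, ← hA h, ← hB h]

/-- Case (a): a `p`-element with maximal centralizer acting fixed-point-freely on a normal
subgroup `L` forces `L` nilpotent (Thompson). -/
theorem isNilpotent_of_fixedPointFree_coatom {G : Type*} [Group G] [Finite G] (L : Subgroup G)
    [L.Normal] {p b : ℕ} [Fact p.Prime] {x : G} (hxb : x ^ p ^ b = 1)
    (hM : IsCoatom (Subgroup.centralizer ({x} : Set G)))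
    (hML : Subgroup.centralizer ({x} : Set G) ⊓ L = ⊥) :
    Group.IsNilpotent ↥L := by
  have hp : p.Prime := Fact.out
  by_cases hLbot : L = ⊥
  · subst hLbot
    infer_instance
  have hfix : ∀ (y : G) (g : ↥L), (MulAut.conjNormal y : MulAut ↥L) g = g ↔ y * (g : G) = (g : G) * y := by
    intro y g
    rw [Subtype.ext_iff, MulAut.conjNormal_apply]
    constructor
    · intro h
      exact mul_inv_eq_iff_eq_mul.mp h
    · intro h
      rw [h, mul_inv_cancel_right]
  have hφ1 : (MulAut.conjNormal x : MulAut ↥L) ≠ 1 := by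
    intro h1
    apply hLbot
    rw [eq_bot_iff]
    intro g hg
    have h2 : (MulAut.conjNormal x : MulAut ↥L) ⟨g, hg⟩ = ⟨g, hg⟩ := by rw [h1]; rfl
    rw [hfix] at h2
    have : g ∈ Subgroup.centralizer ({x} : Set G) ⊓ L :=
      Subgroup.mem_inf.mpr ⟨mem_centralizer_singleton.mpr h2, hg⟩
    rwa [hML] at this
  have hdvd : orderOf (MulAut.conjNormal x : MulAut ↥L) ∣ p ^ b := by
    apply orderOf_dvd_of_pow_eq_one
    rw [← map_pow, hxb, map_one]
  obtain ⟨c, -, hc⟩ := (Nat.dvd_prime_pow hp).mp hdvd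
  have hc0 : c ≠ 0 := by
    rintro rfl
    rw [pow_zero, orderOf_eq_one_iff] at hc
    exact hφ1 hc
  have hord : orderOf ((MulAut.conjNormal x : MulAut ↥L) ^ p ^ (c - 1)) = p := by
    rw [orderOf_pow_of_dvd (pow_ne_zero _ hp.ne_zero), hc]
    · have : p ^ c = p ^ (c - 1) * p := by
        rw [← pow_succ]
        congr 1
        omega
      rw [this, Nat.mul_div_cancel_left _ (pow_pos hp.pos _)]
    · rw [hc]
      exact pow_dvd_pow p (by omega)
  rw [← map_pow] at hord
  have hMy : Subgroup.centralizer ({x} : Set G) ≤ Subgroup.centralizer ({x ^ p ^ (c - 1)} : Set G) := by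
    intro m hm
    rw [mem_centralizer_singleton] at hm ⊢
    have : Commute x m := hm
    exact (this.pow_left _).eq
  have hdich := le_inf_or_le_of_isCoatom (R := Subgroup.centralizer ({x ^ p ^ (c - 1)} : Set G) ⊓ L)
    hM inf_le_right (fun m hm => mem_normalizer_inf (Subgroup.le_normalizer (hMy hm))
      (by rw [Subgroup.normalizer_eq_top]; trivial)) (inf_le_inf_right L hMy)
  rcases hdich with hd | hd
  · rw [hML] at hd
    refine Cfsg.Agent.S0033.result (MulAut.conjNormal (x ^ p ^ (c - 1)) : MulAut ↥L) ?_ p hp hord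
    intro g hg
    have hg' : (MulAut.conjNormal (x ^ p ^ (c - 1)) : MulAut ↥L) g = g := hg
    rw [hfix] at hg'
    have : (g : G) ∈ (⊥ : Subgroup G) :=
      hd (Subgroup.mem_inf.mpr ⟨mem_centralizer_singleton.mpr hg', g.2⟩)
    exact Subtype.ext (Subgroup.mem_bot.mp this)
  · exfalso
    have h1 : (MulAut.conjNormal (x ^ p ^ (c - 1)) : MulAut ↥L) = 1 := by
      ext g
      have : (MulAut.conjNormal (x ^ p ^ (c - 1)) : MulAut ↥L) g = g := by
        rw [hfix]
        exact mem_centralizer_singleton.mp (hd g.2).1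
      rw [this]
      rfl
    rw [h1, orderOf_one] at hord
    exact hp.one_lt.ne hord

/-- **Key lemma.** A minimal normal subgroup `L ≤ N` not centralized by `x ∉ N` is solvable. -/
theorem isSolvable_of_minimal_normal {G : Type*} [Group G] [Finite G] (N : Subgroup G) [N.Normal]
    (h : ∀ x : G, x ∉ N → IsPrimePow (orderOf x) ∧ IsCoatom (Subgroup.centralizer ({x} : Set G)))
    (L : Subgroup G) [L.Normal] (hLN : L ≤ N)
    (hmin : ∀ K : Subgroup G, K.Normal → K ≤ L → K = ⊥ ∨ K = L)
    {x : G} (hx : x ∉ N) (hLx : ¬ L ≤ Subgroup.centralizer ({x} : Set G)) :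
    Group.IsSolvable ↥L := by
  obtain ⟨p, a, hp0, ha, hpa⟩ := (h x hx).1
  have hp : p.Prime := Nat.prime_iff.mpr hp0
  haveI : Fact p.Prime := ⟨hp⟩
  have hxa : x ^ p ^ a = 1 := by rw [hpa]; exact pow_orderOf_eq_one x
  have hprime : ∀ x : G, x ∉ N → IsPrimePow (orderOf x) := fun x hx => (h x hx).1
  by_cases hPG : ∀ y ∈ L, ∃ k : ℕ, y ^ p ^ k = 1
  · have hL : IsPGroup p ↥L := by
      intro y
      obtain ⟨k, hk⟩ := hPG y y.2
      exact ⟨k, Subtype.ext (by simpa using hk)⟩
    have := hL.isNilpotent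
    exact IsNilpotent.to_isSolvable
  push Not at hPG
  obtain ⟨y₀, hy₀L, hy₀⟩ := hPG
  have hxl : ∀ l ∈ L, x * l ∉ N := fun l hl h' =>
    hx ((Subgroup.mul_mem_cancel_right N (hLN hl)).mp h')
  have hxlp : ∀ l ∈ L, ∃ b : ℕ, (x * l) ^ p ^ b = 1 := fun l hl =>
    exists_pow_eq_one_of_coset N hprime hx hp hxa (hLN hl)
  have hpg : ∀ l ∈ L, ∀ y ∈ L, (x * l) * y = y * (x * l) → ∃ k : ℕ, y ^ p ^ k = 1 := by
    intro l hl y hy hc
    obtain ⟨b, hb⟩ := hxlp l hl
    exact exists_pow_eq_one_of_commute N hprime (hxl l hl) hp hb (hLN hy) hc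
  have hnle : ∀ l ∈ L, ¬ L ≤ Subgroup.centralizer ({x * l} : Set G) := by
    intro l hl hle
    obtain ⟨k, hk⟩ := hpg l hl y₀ hy₀L (mem_centralizer_singleton.mp (hle hy₀L))
    exact hy₀ k hk
  by_cases hcase : ∀ l ∈ L, Subgroup.normalizer
      ((Subgroup.centralizer ({x * l} : Set G) ⊓ L : Subgroup G) : Set G) ⊓ L ≤
        Subgroup.centralizer ({x * l} : Set G) ⊓ L
  · -- case (b)
    exfalso
    obtain ⟨K, hKL, hKn, hK1, hK2⟩ := exists_complement_of_selfNormalizing L x hpg hcase
    have hKnormal : K.Normal := ⟨fun k hk g => hKn g k hk⟩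
    rcases hmin K hKnormal hKL with hK | hK
    · apply hLx
      intro l hl
      obtain ⟨k, hk, s, hs, hxs, rfl⟩ := hK2 l hl
      rw [hK, Subgroup.mem_bot] at hk
      rw [hk, one_mul]
      exact mem_centralizer_singleton.mpr hxs
    · have hbot : Subgroup.centralizer ({x * 1} : Set G) ⊓ L = ⊥ := by
        rw [eq_bot_iff]
        rintro k ⟨hk1, hk2⟩
        rw [mul_one] at hk1
        rw [Subgroup.mem_bot]
        exact hK1 k (hK ▸ hk2) (mem_centralizer_singleton.mp hk1)
      have h1 := hcase 1 L.one_mem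
      rw [hbot] at h1
      apply hLx
      intro l hl
      have h2 : l ∈ Subgroup.normalizer (((⊥ : Subgroup G) : Subgroup G) : Set G) ⊓ L := by
        refine Subgroup.mem_inf.mpr ⟨?_, hl⟩
        rw [Subgroup.mem_normalizer_iff]
        intro g
        simp [Subgroup.mem_bot]
      have h3 : l ∈ (⊥ : Subgroup G) := h1 h2
      rw [Subgroup.mem_bot] at h3
      rw [h3]
      exact Subgroup.one_mem _
  · -- case (a)
    push Not at hcase
    obtain ⟨l, hl, hl2⟩ := hcase
    have hM := (h (x * l) (hxl l hl)).2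
    have hMn : Subgroup.centralizer ({x * l} : Set G) ≤ Subgroup.normalizer
        ((Subgroup.centralizer ({x * l} : Set G) ⊓ L : Subgroup G) : Set G) := fun m hm =>
      mem_normalizer_inf (Subgroup.le_normalizer hm) (by rw [Subgroup.normalizer_eq_top]; trivial)
    have hdich := le_inf_or_le_of_isCoatom (R := Subgroup.normalizer
        ((Subgroup.centralizer ({x * l} : Set G) ⊓ L : Subgroup G) : Set G) ⊓ L) hM inf_le_right
      (fun m hm => mem_normalizer_inf (Subgroup.le_normalizer (hMn hm))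
        (by rw [Subgroup.normalizer_eq_top]; trivial))
      (le_inf Subgroup.le_normalizer inf_le_right)
    rcases hdich with hd | hd
    · exact absurd hd hl2
    · have hLn : L ≤ Subgroup.normalizer
          ((Subgroup.centralizer ({x * l} : Set G) ⊓ L : Subgroup G) : Set G) :=
        fun g hg => (hd hg).1
      have hsup : Subgroup.centralizer ({x * l} : Set G) ⊔ L = ⊤ :=
        hM.2 _ (lt_of_le_of_ne le_sup_left (fun h' => hnle l hl (h' ▸ le_sup_right)))
      have hCn : (Subgroup.centralizer ({x * l} : Set G) ⊓ L).Normal := by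
        rw [← Subgroup.normalizer_eq_top_iff, eq_top_iff, ← hsup]
        exact sup_le hMn hLn
      rcases hmin _ hCn inf_le_right with hC | hC
      · obtain ⟨b, hb⟩ := hxlp l hl
        have := isNilpotent_of_fixedPointFree_coatom L hb hM hC
        exact IsNilpotent.to_isSolvable
      · exfalso
        apply hnle l hl
        rw [← hC]
        exact inf_le_left

/-- Main induction. -/
theorem isSolvable_of_primePow_coatom_aux.{u} : ∀ (n : ℕ) (G : Type u) [Group G] [Finite G]
    (N : Subgroup G) [N.Normal], Nat.card G = n → N ≠ ⊤ →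
    (∀ x : G, x ∉ N → IsPrimePow (orderOf x) ∧ IsCoatom (Subgroup.centralizer ({x} : Set G))) →
    Group.IsSolvable ↥N := by
  intro n
  induction n using Nat.strong_induction_on with
  | _ n ih =>
  intro G _ _ N _ hcard hN h
  by_cases hNbot : N = ⊥
  · subst hNbot
    infer_instance
  have hprime : ∀ x : G, x ∉ N → IsPrimePow (orderOf x) := fun x hx => (h x hx).1
  obtain ⟨x₁, hx₁⟩ : ∃ x, x ∉ N := by
    by_contra hcon
    push Not at hcon
    exact hN (eq_top_iff.mpr (fun x _ => hcon x))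
  -- minimal normal subgroup
  obtain ⟨L, ⟨hLnorm, hLN, hLbot⟩, hLmin⟩ := Set.exists_min_image
    {K : Subgroup G | K.Normal ∧ K ≤ N ∧ K ≠ ⊥} (fun K => Nat.card ↥K) (Set.toFinite _)
    ⟨N, inferInstance, le_refl N, hNbot⟩
  haveI := hLnorm
  have hmin : ∀ K : Subgroup G, K.Normal → K ≤ L → K = ⊥ ∨ K = L := by
    intro K hK hKL
    by_cases hKb : K = ⊥
    · exact Or.inl hKb
    · right
      exact Subgroup.eq_of_le_of_card_ge hKL (hLmin K ⟨hK, hKL.trans hLN, hKb⟩)
  -- Step 1
  have hLsolv : Group.IsSolvable ↥L := by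
    by_cases hLx : L ≤ Subgroup.centralizer ({x₁} : Set G)
    · obtain ⟨p, a, hp0, ha, hpa⟩ := hprime x₁ hx₁
      have hp : p.Prime := Nat.prime_iff.mpr hp0
      haveI : Fact p.Prime := ⟨hp⟩
      have hxa : x₁ ^ p ^ a = 1 := by rw [hpa]; exact pow_orderOf_eq_one x₁
      have hL : IsPGroup p ↥L := by
        intro y
        obtain ⟨k, hk⟩ := exists_pow_eq_one_of_commute N hprime hx₁ hp hxa (hLN y.2)
          (mem_centralizer_singleton.mp (hLx y.2))
        exact ⟨k, Subtype.ext (by simpa using hk)⟩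
      have := hL.isNilpotent
      exact IsNilpotent.to_isSolvable
    · exact isSolvable_of_minimal_normal N h L hLN hmin hx₁ hLx
  -- Step 2
  have hπ : Function.Surjective (QuotientGroup.mk' L) := QuotientGroup.mk'_surjective L
  haveI : (N.map (QuotientGroup.mk' L)).Normal := Subgroup.Normal.map inferInstance _ hπ
  have hmemN : ∀ x : G, QuotientGroup.mk' L x ∈ N.map (QuotientGroup.mk' L) → x ∈ N := by
    intro x hx
    obtain ⟨n, hn, hnx⟩ := Subgroup.mem_map.mp hx
    have h1 : n⁻¹ * x ∈ L := QuotientGroup.eq.mp hnx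
    have h2 : x = n * (n⁻¹ * x) := by group
    rw [h2]
    exact N.mul_mem hn (hLN h1)
  have hQsolv : Group.IsSolvable ↥(N.map (QuotientGroup.mk' L)) := by
    by_cases hA : ∃ x₀ : G, x₀ ∉ N ∧ ∀ g : G, QuotientGroup.mk' L x₀ * QuotientGroup.mk' L g =
        QuotientGroup.mk' L g * QuotientGroup.mk' L x₀
    · obtain ⟨x₀, hx₀, hcomm⟩ := hA
      obtain ⟨p, a, hp0, ha, hpa⟩ := hprime x₀ hx₀
      have hp : p.Prime := Nat.prime_iff.mpr hp0
      haveI : Fact p.Prime := ⟨hp⟩
      have hxa : x₀ ^ p ^ a = 1 := by rw [hpa]; exact pow_orderOf_eq_one x₀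
      have hPG : IsPGroup p ↥(N.map (QuotientGroup.mk' L)) := by
        rintro ⟨y, hy⟩
        obtain ⟨n, hn, rfl⟩ := Subgroup.mem_map.mp hy
        obtain ⟨b, hb⟩ := exists_pow_eq_one_of_coset N hprime hx₀ hp hxa hn
        refine ⟨a + b, Subtype.ext ?_⟩
        show (QuotientGroup.mk' L n) ^ p ^ (a + b) = 1
        apply pow_eq_one_of_commute_mul (hcomm n)
        · rw [← map_mul, ← map_pow, hb, map_one]
        · rw [← map_pow, hxa, map_one]
      have := hPG.isNilpotent
      exact IsNilpotent.to_isSolvable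
    · push Not at hA
      have hlt : Nat.card (G ⧸ L) < n := by
        rw [← hcard, Subgroup.card_eq_card_quotient_mul_card_subgroup L]
        have h1 : 1 < Nat.card ↥L := (Subgroup.one_lt_card_iff_ne_bot L).mpr hLbot
        have h2 : 0 < Nat.card (G ⧸ L) := Nat.card_pos
        nlinarith
      refine ih (Nat.card (G ⧸ L)) hlt (G ⧸ L) (N.map (QuotientGroup.mk' L)) rfl ?_ ?_
      · intro htop
        apply hx₁
        apply hmemN
        rw [htop]
        trivial
      · intro xbar hxbar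
        obtain ⟨x, rfl⟩ := hπ xbar
        have hx : x ∉ N := fun hx => hxbar (Subgroup.mem_map_of_mem _ hx)
        obtain ⟨g₀, hg₀⟩ := hA x hx
        constructor
        · obtain ⟨p, a, hp0, ha, hpa⟩ := hprime x hx
          have hp : p.Prime := Nat.prime_iff.mpr hp0
          have hdvd : orderOf (QuotientGroup.mk' L x) ∣ p ^ a := by
            rw [hpa]
            exact orderOf_map_dvd _ _
          obtain ⟨i, -, hi⟩ := (Nat.dvd_prime_pow hp).mp hdvd
          have hi0 : i ≠ 0 := by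
            rintro rfl
            rw [pow_zero, orderOf_eq_one_iff] at hi
            apply hxbar
            rw [hi]
            exact Subgroup.one_mem _
          exact ⟨p, i, hp0, Nat.pos_of_ne_zero hi0, hi.symm⟩
        · have hM := (h x hx).2
          have hle : Subgroup.centralizer ({x} : Set G) ≤
              (Subgroup.centralizer ({QuotientGroup.mk' L x} : Set (G ⧸ L))).comap
                (QuotientGroup.mk' L) := by
            intro m hm
            rw [Subgroup.mem_comap, mem_centralizer_singleton]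
            rw [mem_centralizer_singleton] at hm
            rw [← map_mul, hm, map_mul]
          have hne : Subgroup.centralizer ({QuotientGroup.mk' L x} : Set (G ⧸ L)) ≠ ⊤ := by
            intro htop
            apply hg₀
            have : QuotientGroup.mk' L g₀ ∈
                Subgroup.centralizer ({QuotientGroup.mk' L x} : Set (G ⧸ L)) := by
              rw [htop]
              trivial
            exact mem_centralizer_singleton.mp this
          have hcomap : (Subgroup.centralizer ({QuotientGroup.mk' L x} : Set (G ⧸ L))).comap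
              (QuotientGroup.mk' L) = Subgroup.centralizer ({x} : Set G) := by
            by_contra hne'
            have hlt' := lt_of_le_of_ne hle (Ne.symm hne')
            have htop := hM.2 _ hlt'
            apply hne
            apply Subgroup.comap_injective hπ
            rw [htop, Subgroup.comap_top]
          refine ⟨hne, ?_⟩
          intro D hD
          apply Subgroup.comap_injective hπ
          rw [Subgroup.comap_top]
          apply hM.2
          rw [← hcomap]
          exact (Subgroup.comap_lt_comap_of_surjective hπ).mpr hD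
  -- Step 3
  exact Group.isSolvable_of_ker_le_range (Subgroup.inclusion hLN)
    ((QuotientGroup.mk' L).subgroupMap N) (by
      intro n hn
      rw [MonoidHom.mem_ker] at hn
      have h1 : QuotientGroup.mk' L (n : G) = 1 := congrArg Subtype.val hn
      have h2 : (n : G) ∈ L := (QuotientGroup.eq_one_iff _).mp h1
      exact ⟨⟨n, h2⟩, Subtype.ext rfl⟩)

/-- If every element outside the proper normal subgroup `N` has prime power order and maximal
centralizer, then `N` is solvable. -/
theorem isSolvable_of_primePow_coatom {G : Type*} [Group G] [Finite G] (N : Subgroup G) [N.Normal]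
    (hN : N ≠ ⊤)
    (h : ∀ x : G, x ∉ N → IsPrimePow (orderOf x) ∧ IsCoatom (Subgroup.centralizer ({x} : Set G))) :
    Group.IsSolvable ↥N :=
  isSolvable_of_primePow_coatom_aux (Nat.card G) G N rfl hN h

end Cfsg.Agent.H68
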