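import Mathlib
import Cfsg.Agent.H68.MaxCent
import Cfsg.Agent.S0035

set_option autoImplicit false

/-!
# Groups in which every non-central element has a maximal centralizer (helper68)
-/

namespace Cfsg.Agent.H68

open scoped Pointwise

section CM

variable {G : Type*} [Group G]

theorem center_le_centralizer_singleton (x : G) :
    Subgroup.center G ≤ Subgroup.centralizer ({x} : Set G) := by
  intro z hz
  rw [mem_centralizer_singleton]
  exact (Subgroup.mem_center_iff.mp hz x)

/-- Two maximal centralizers, one inside the other, coincide. -/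
theorem centralizer_eq_of_le (h : ∀ x : G, x ∉ Subgroup.center G →
    IsCoatom (Subgroup.centralizer ({x} : Set G))) {x y : G} (hx : x ∉ Subgroup.center G)
    (hy : y ∉ Subgroup.center G)
    (hle : Subgroup.centralizer ({x} : Set G) ≤ Subgroup.centralizer ({y} : Set G)) :
    Subgroup.centralizer ({x} : Set G) = Subgroup.centralizer ({y} : Set G) := by
  rcases (h x hx).le_iff.mp hle with h1 | h1
  · exact absurd h1 (h y hy).1
  · exact h1.symm

theorem centralizer_le_centralizer_pow (x : G) (k : ℕ) :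
    Subgroup.centralizer ({x} : Set G) ≤ Subgroup.centralizer ({x ^ k} : Set G) := by
  intro g hg
  rw [mem_centralizer_singleton] at hg ⊢
  have : Commute x g := hg
  exact (this.pow_left k).eq

theorem centralizer_mul_center {a b : G} (ha : a ∈ Subgroup.center G) :
    Subgroup.centralizer ({a * b} : Set G) = Subgroup.centralizer ({b} : Set G) := by
  ext g
  rw [mem_centralizer_singleton, mem_centralizer_singleton]
  have h1 : a * g = g * a := (Subgroup.mem_center_iff.mp ha g).symm
  constructor
  · intro h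
    have h2 : a * (b * g) = a * (g * b) := by
      calc a * (b * g) = a * b * g := by rw [mul_assoc]
        _ = g * (a * b) := h
        _ = g * a * b := by rw [mul_assoc]
        _ = a * g * b := by rw [h1]
        _ = a * (g * b) := by rw [mul_assoc]
    exact mul_left_cancel h2
  · intro h
    rw [mul_assoc, h, ← mul_assoc, h1, mul_assoc]

/-- If `b ^ p` and `b ^ q` are central for distinct primes then `b` is central. -/
theorem mem_center_of_pow_mem_of_coprime {b : G} {p q : ℕ} (hpq : Nat.Coprime p q)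
    (hp : b ^ p ∈ Subgroup.center G) (hq : b ^ q ∈ Subgroup.center G) :
    b ∈ Subgroup.center G := by
  have h1 : (b ^ p) ^ (Nat.gcdA p q) * (b ^ q) ^ (Nat.gcdB p q) = b := by
    rw [← zpow_natCast b p, ← zpow_natCast b q, ← zpow_mul, ← zpow_mul, ← zpow_add]
    have h2 := Nat.gcd_eq_gcd_ab p q
    rw [hpq] at h2
    rw [← h2]
    simp
  rw [← h1]
  exact Subgroup.mul_mem _ (Subgroup.zpow_mem _ hp _) (Subgroup.zpow_mem _ hq _)

theorem prime_eq_of_pow_mem_center {b : G} {p q : ℕ} (hp : p.Prime) (hq : q.Prime)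
    (hb : b ∉ Subgroup.center G) (hbp : b ^ p ∈ Subgroup.center G)
    (hbq : b ^ q ∈ Subgroup.center G) : p = q := by
  by_contra hne
  exact hb (mem_center_of_pow_mem_of_coprime ((Nat.coprime_primes hp hq).mpr hne) hbp hbq)

/-- Step 1 of Lemma P. -/
theorem pow_mem_center_of_commute (h : ∀ x : G, x ∉ Subgroup.center G →
    IsCoatom (Subgroup.centralizer ({x} : Set G))) {a b : G} (ha : a ∉ Subgroup.center G)
    (hb : b ∉ Subgroup.center G) (hab : a * b = b * a)
    (hne : Subgroup.centralizer ({a} : Set G) ≠ Subgroup.centralizer ({b} : Set G)) (m : ℕ)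
    (ham : a ^ m ∈ Subgroup.center G) : b ^ m ∈ Subgroup.center G := by
  by_contra hbm
  have habZ : a * b ∉ Subgroup.center G := by
    intro habZ
    apply hne
    apply centralizer_eq_of_le h ha hb
    intro g hg
    rw [mem_centralizer_singleton] at hg ⊢
    have h1 : (a * b) * g = g * (a * b) := (Subgroup.mem_center_iff.mp habZ g).symm
    have h2 : a * (b * g) = a * (g * b) := by
      rw [← mul_assoc, h1, ← mul_assoc, ← mul_assoc, hg]
    exact mul_left_cancel h2
  have hpow : (a * b) ^ m = a ^ m * b ^ m := (show Commute a b from hab).mul_pow m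
  have h1 : Subgroup.centralizer ({a * b} : Set G) ≤ Subgroup.centralizer ({b ^ m} : Set G) := by
    have := centralizer_le_centralizer_pow (a * b) m
    rwa [hpow, centralizer_mul_center ham] at this
  have h2 : Subgroup.centralizer ({b} : Set G) ≤ Subgroup.centralizer ({b ^ m} : Set G) :=
    centralizer_le_centralizer_pow b m
  have e1 := centralizer_eq_of_le h habZ hbm h1
  have e2 := centralizer_eq_of_le h hb hbm h2
  apply hne
  symm
  apply centralizer_eq_of_le h hb ha
  intro g hg
  have hg' : g ∈ Subgroup.centralizer ({a * b} : Set G) := by rw [e1, ← e2]; exact hg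
  rw [mem_centralizer_singleton] at hg hg' ⊢
  have h3 : a * g * b = g * a * b := by
    calc a * g * b = a * (g * b) := by rw [mul_assoc]
      _ = a * (b * g) := by rw [hg]
      _ = (a * b) * g := by rw [mul_assoc]
      _ = g * (a * b) := hg'
      _ = g * a * b := by rw [mul_assoc]
  exact mul_right_cancel h3

/-- **Lemma P.** Commuting non-central elements with different (maximal) centralizers have the
same prime order modulo the centre. -/
theorem exists_prime_pow_mem_center [Finite G] (h : ∀ x : G, x ∉ Subgroup.center G →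
    IsCoatom (Subgroup.centralizer ({x} : Set G))) {a b : G} (ha : a ∉ Subgroup.center G)
    (hb : b ∉ Subgroup.center G) (hab : a * b = b * a)
    (hne : Subgroup.centralizer ({a} : Set G) ≠ Subgroup.centralizer ({b} : Set G)) :
    ∃ p : ℕ, p.Prime ∧ a ^ p ∈ Subgroup.center G ∧ b ^ p ∈ Subgroup.center G := by
  classical
  have hex : ∃ m : ℕ, 0 < m ∧ a ^ m ∈ Subgroup.center G :=
    ⟨orderOf a, orderOf_pos a, by rw [pow_orderOf_eq_one]; exact Subgroup.one_mem _⟩
  obtain ⟨hm0, hmZ⟩ := Nat.find_spec hex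
  have hmin : ∀ k : ℕ, 0 < k → a ^ k ∈ Subgroup.center G → Nat.find hex ≤ k :=
    fun k hk hkZ => Nat.find_min' hex ⟨hk, hkZ⟩
  set m := Nat.find hex with hm
  have hm1 : m ≠ 1 := by
    intro h1
    rw [h1, pow_one] at hmZ
    exact ha hmZ
  obtain ⟨r, hr, hrm⟩ := Nat.exists_prime_and_dvd hm1
  obtain ⟨m', hm'⟩ := hrm
  have hm'0 : 0 < m' := by
    rcases Nat.eq_zero_or_pos m' with h0 | h0
    · rw [h0, mul_zero] at hm'
      omega
    · exact h0
  have harZ : a ^ r ∈ Subgroup.center G := by
    by_contra harZ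
    have e1 : Subgroup.centralizer ({a ^ r} : Set G) = Subgroup.centralizer ({a} : Set G) :=
      (centralizer_eq_of_le h ha harZ (centralizer_le_centralizer_pow a r)).symm
    have hc : a ^ r * b = b * a ^ r := ((show Commute a b from hab).pow_left r).eq
    have h1 : (a ^ r) ^ m' ∈ Subgroup.center G := by rw [← pow_mul, ← hm']; exact hmZ
    have h2 := pow_mem_center_of_commute h harZ hb hc (by rw [e1]; exact hne) m' h1
    have h3 := pow_mem_center_of_commute h hb ha hab.symm (Ne.symm hne) m' h2
    have h4 := hmin m' hm'0 h3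
    have h5 : m' < m := by
      rw [hm']
      have := hr.one_lt
      nlinarith
    omega
  exact ⟨r, hr, harZ, pow_mem_center_of_commute h ha hb hab hne r harZ⟩

/-- **Lemma NA.** A non-abelian maximal centralizer has prime exponent modulo the centre. -/
theorem exists_prime_forall_pow_mem_center [Finite G] (h : ∀ x : G, x ∉ Subgroup.center G →
    IsCoatom (Subgroup.centralizer ({x} : Set G))) {x : G} (hx : x ∉ Subgroup.center G)
    (hna : ∃ b ∈ Subgroup.centralizer ({x} : Set G), ∃ c ∈ Subgroup.centralizer ({x} : Set G),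
      b * c ≠ c * b) :
    ∃ p : ℕ, p.Prime ∧ ∀ m ∈ Subgroup.centralizer ({x} : Set G), m ^ p ∈ Subgroup.center G := by
  obtain ⟨b, hb, c, hc, hbc⟩ := hna
  have hbZ : b ∉ Subgroup.center G := fun hbZ => hbc (Subgroup.mem_center_iff.mp hbZ c).symm
  have hne : Subgroup.centralizer ({x} : Set G) ≠ Subgroup.centralizer ({b} : Set G) := by
    intro e
    rw [e] at hc
    exact hbc (mem_centralizer_singleton.mp hc)
  have hxb : x * b = b * x := mem_centralizer_singleton.mp hb
  obtain ⟨p, hp, hxp, hbp⟩ := exists_prime_pow_mem_center h hx hbZ hxb hne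
  refine ⟨p, hp, ?_⟩
  intro m hm
  by_cases hmZ : m ∈ Subgroup.center G
  · exact Subgroup.pow_mem _ hmZ p
  by_cases hmx : Subgroup.centralizer ({m} : Set G) = Subgroup.centralizer ({x} : Set G)
  · have hmb : m * b = b * m := by
      rw [← hmx] at hb
      exact mem_centralizer_singleton.mp hb
    obtain ⟨p', hp', hmp', hbp'⟩ := exists_prime_pow_mem_center h hmZ hbZ hmb (by rw [hmx]; exact hne)
    have : p = p' := prime_eq_of_pow_mem_center hp hp' hbZ hbp hbp'
    rw [this]
    exact hmp'
  · have hxm : x * m = m * x := mem_centralizer_singleton.mp hm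
    obtain ⟨p', hp', hxp', hmp'⟩ := exists_prime_pow_mem_center h hx hmZ hxm (Ne.symm hmx)
    have : p = p' := prime_eq_of_pow_mem_center hp hp' hx hxp hxp'
    rw [this]
    exact hmp'

/-- If `x * n = c * (n * x)` with `c` central then `x ^ i * n = c ^ i * (n * x ^ i)`. -/
theorem pow_mul_of_central {x n c : G} (hc : c ∈ Subgroup.center G) (h : x * n = c * (n * x))
    (i : ℕ) : x ^ i * n = c ^ i * (n * x ^ i) := by
  have hcx : ∀ g : G, g * c = c * g := fun g => Subgroup.mem_center_iff.mp hc g
  induction i with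
  | zero => simp
  | succ i ih =>
    calc x ^ (i + 1) * n = x ^ i * (x * n) := by rw [pow_succ, mul_assoc]
      _ = x ^ i * (c * (n * x)) := by rw [h]
      _ = c * (x ^ i * n) * x := by
        rw [← mul_assoc (x ^ i) c, hcx (x ^ i), mul_assoc c, ← mul_assoc (x ^ i) n x, ← mul_assoc c]
      _ = c * (c ^ i * (n * x ^ i)) * x := by rw [ih]
      _ = c ^ (i + 1) * (n * x ^ (i + 1)) := by
        rw [pow_succ c, pow_succ x, (Commute.pow_self c i).eq]
        simp only [mul_assoc]

/-- If `x * n = c * (n * x)` with `c` central then `x * n ^ j = c ^ j * (n ^ j * x)`. -/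
theorem mul_pow_of_central {x n c : G} (hc : c ∈ Subgroup.center G) (h : x * n = c * (n * x))
    (j : ℕ) : x * n ^ j = c ^ j * (n ^ j * x) := by
  have hcx : ∀ g : G, g * c = c * g := fun g => Subgroup.mem_center_iff.mp hc g
  induction j with
  | zero => simp
  | succ j ih =>
    calc x * n ^ (j + 1) = (x * n ^ j) * n := by rw [pow_succ, mul_assoc]
      _ = c ^ j * (n ^ j * x) * n := by rw [ih]
      _ = c ^ j * (n ^ j * (x * n)) := by simp only [mul_assoc]
      _ = c ^ j * (n ^ j * (c * (n * x))) := by rw [h]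
      _ = c ^ j * (c * (n ^ j * (n * x))) := by
        rw [← mul_assoc (n ^ j) c, hcx (n ^ j), mul_assoc c]
      _ = c ^ (j + 1) * (n ^ (j + 1) * x) := by
        rw [pow_succ c, pow_succ n]
        simp only [mul_assoc]

theorem pow_mul_pow_of_central {x n c : G} (hc : c ∈ Subgroup.center G) (h : x * n = c * (n * x))
    (i j : ℕ) : x ^ i * n ^ j = c ^ (j * i) * (n ^ j * x ^ i) := by
  rw [pow_mul]
  exact pow_mul_of_central (Subgroup.pow_mem _ hc j) (mul_pow_of_central hc h j) i

/-- **Case I.** If all centralizers of non-central elements are maximal and normal, then `G/Z(G)`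
is elementary abelian. -/
theorem exists_prime_of_normal_centralizers [Finite G] (h : ∀ x : G, x ∉ Subgroup.center G →
    IsCoatom (Subgroup.centralizer ({x} : Set G)))
    (hn : ∀ x : G, x ∉ Subgroup.center G → (Subgroup.centralizer ({x} : Set G)).Normal) :
    ∃ p : ℕ, p.Prime ∧ (∀ a b : G, a * b * a⁻¹ * b⁻¹ ∈ Subgroup.center G) ∧
      ∀ g : G, g ^ p ∈ Subgroup.center G := by
  classical
  -- (I.1) commutators are central
  have hcomm : ∀ a b : G, a * b * a⁻¹ * b⁻¹ ∈ Subgroup.center G := by
    intro a b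
    rw [Subgroup.mem_center_iff]
    intro x
    by_cases hx : x ∈ Subgroup.center G
    · exact (Subgroup.mem_center_iff.mp hx _).symm
    · have hN := hn x hx
      have hco := h x hx
      suffices hmem : a * b * a⁻¹ * b⁻¹ ∈ Subgroup.centralizer ({x} : Set G) from
        mem_centralizer_singleton.mp hmem
      by_cases ha : a ∈ Subgroup.centralizer ({x} : Set G)
      · have e : a * b * a⁻¹ * b⁻¹ = a * (b * a⁻¹ * b⁻¹) := by group
        rw [e]
        exact Subgroup.mul_mem _ ha (hN.conj_mem _ (Subgroup.inv_mem _ ha) b)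
      · have hsup : Subgroup.centralizer ({x} : Set G) ⊔ Subgroup.zpowers a = ⊤ := by
          apply hco.2
          apply lt_of_le_of_ne le_sup_left
          intro e
          apply ha
          rw [e]
          exact Subgroup.mem_sup_right (Subgroup.mem_zpowers a)
        have hb : b ∈ ((Subgroup.centralizer ({x} : Set G) ⊔ Subgroup.zpowers a : Subgroup G) :
            Set G) := by
          rw [hsup]
          trivial
        rw [Subgroup.normal_mul] at hb
        obtain ⟨n, hn', z, hz, rfl⟩ := hb
        obtain ⟨k, rfl⟩ := Subgroup.mem_zpowers_iff.mp hz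
        have e : a * (n * a ^ k) * a⁻¹ * (n * a ^ k)⁻¹ = (a * n * a⁻¹) * n⁻¹ := by group
        rw [e]
        exact Subgroup.mul_mem _ (hN.conj_mem _ hn' a) (Subgroup.inv_mem _ hn')
  -- (I.2) every non-central element has prime order modulo the centre
  have hprime : ∀ x : G, x ∉ Subgroup.center G → ∃ r : ℕ, r.Prime ∧ x ^ r ∈ Subgroup.center G := by
    intro x hx
    have hex : ∃ m : ℕ, 0 < m ∧ x ^ m ∈ Subgroup.center G :=
      ⟨orderOf x, orderOf_pos x, by rw [pow_orderOf_eq_one]; exact Subgroup.one_mem _⟩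
    obtain ⟨hm0, hmZ⟩ := Nat.find_spec hex
    have hmin : ∀ k : ℕ, 0 < k → x ^ k ∈ Subgroup.center G → Nat.find hex ≤ k :=
      fun k hk hkZ => Nat.find_min' hex ⟨hk, hkZ⟩
    set m := Nat.find hex with hm
    have hm1 : m ≠ 1 := by
      intro h1
      rw [h1, pow_one] at hmZ
      exact hx hmZ
    obtain ⟨r, hr, hrm⟩ := Nat.exists_prime_and_dvd hm1
    obtain ⟨m', hm'⟩ := hrm
    have hm'0 : 0 < m' := by
      rcases Nat.eq_zero_or_pos m' with h0 | h0
      · rw [h0, mul_zero] at hm'
        omega
      · exact h0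
    refine ⟨r, hr, ?_⟩
    by_contra hxr
    have e1 : Subgroup.centralizer ({x ^ r} : Set G) = Subgroup.centralizer ({x} : Set G) :=
      (centralizer_eq_of_le h hx hxr (centralizer_le_centralizer_pow x r)).symm
    have hxm' : x ^ m' ∈ Subgroup.center G := by
      rw [Subgroup.mem_center_iff]
      intro n
      have hc := hcomm x n
      have hxn : x * n = (x * n * x⁻¹ * n⁻¹) * (n * x) := by group
      generalize x * n * x⁻¹ * n⁻¹ = c at hc hxn
      -- c ^ m = 1
      have h1 := pow_mul_of_central hc hxn m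
      have h2 : x ^ m * n = n * x ^ m := (Subgroup.mem_center_iff.mp hmZ n).symm
      have hcm : c ^ m = 1 := by
        rw [h2] at h1
        exact (mul_eq_right.mp h1.symm)
      -- n ^ m' centralizes x ^ r
      have h3 := pow_mul_pow_of_central hc hxn r m'
      rw [mul_comm m' r, ← hm', hcm, one_mul] at h3
      have h4 : n ^ m' ∈ Subgroup.centralizer ({x} : Set G) := by
        rw [← e1]
        exact mem_centralizer_singleton.mpr h3
      have h5 := mul_pow_of_central hc hxn m'
      rw [mem_centralizer_singleton.mp h4] at h5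
      have hcm' : c ^ m' = 1 := mul_eq_right.mp h5.symm
      have h6 := pow_mul_of_central hc hxn m'
      rw [hcm', one_mul] at h6
      exact h6.symm
    have h7 := hmin m' hm'0 hxm'
    have h8 : m' < m := by
      rw [hm']
      have := hr.one_lt
      nlinarith
    omega
  -- (I.3) a single prime
  by_cases hZ : ∀ x : G, x ∈ Subgroup.center G
  · exact ⟨2, Nat.prime_two, hcomm, fun g => hZ _⟩
  push Not at hZ
  obtain ⟨x₀, hx₀⟩ := hZ
  obtain ⟨r₀, hr₀, hx₀r⟩ := hprime x₀ hx₀
  refine ⟨r₀, hr₀, hcomm, ?_⟩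
  intro g
  by_cases hg : g ∈ Subgroup.center G
  · exact Subgroup.pow_mem _ hg _
  obtain ⟨s, hs, hgs⟩ := hprime g hg
  by_cases hsr : s = r₀
  · rw [← hsr]
    exact hgs
  exfalso
  haveI : Fact r₀.Prime := ⟨hr₀⟩
  haveI : Fact s.Prime := ⟨hs⟩
  have ho1 : orderOf (QuotientGroup.mk' (Subgroup.center G) x₀) = r₀ := by
    apply orderOf_eq_prime
    · rw [← map_pow]
      exact (QuotientGroup.eq_one_iff _).mpr hx₀r
    · intro h1
      exact hx₀ ((QuotientGroup.eq_one_iff _).mp h1)
  have ho2 : orderOf (QuotientGroup.mk' (Subgroup.center G) g) = s := by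
    apply orderOf_eq_prime
    · rw [← map_pow]
      exact (QuotientGroup.eq_one_iff _).mpr hgs
    · intro h1
      exact hg ((QuotientGroup.eq_one_iff _).mp h1)
  have hcm : Commute (QuotientGroup.mk' (Subgroup.center G) x₀)
      (QuotientGroup.mk' (Subgroup.center G) g) := by
    have h1 : QuotientGroup.mk' (Subgroup.center G) (x₀ * g * x₀⁻¹ * g⁻¹) = 1 :=
      (QuotientGroup.eq_one_iff _).mpr (hcomm x₀ g)
    rw [map_mul, map_mul, map_mul, map_inv, map_inv] at h1
    show _ * _ = _ * _
    have h2 := mul_inv_eq_one.mp h1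
    exact mul_inv_eq_iff_eq_mul.mp h2
  have ho3 : orderOf (QuotientGroup.mk' (Subgroup.center G) (x₀ * g)) = r₀ * s := by
    rw [map_mul, hcm.orderOf_mul_eq_mul_orderOf_of_coprime (by
      rw [ho1, ho2]
      exact (Nat.coprime_primes hr₀ hs).mpr (Ne.symm hsr)), ho1, ho2]
  by_cases hxg : x₀ * g ∈ Subgroup.center G
  · have h1 : QuotientGroup.mk' (Subgroup.center G) (x₀ * g) = 1 :=
      (QuotientGroup.eq_one_iff _).mpr hxg
    rw [h1, orderOf_one] at ho3
    have := hr₀.one_lt
    have := hs.one_lt
    nlinarith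
  · obtain ⟨t, ht, hxgt⟩ := hprime (x₀ * g) hxg
    have h1 : orderOf (QuotientGroup.mk' (Subgroup.center G) (x₀ * g)) ∣ t := by
      apply orderOf_dvd_of_pow_eq_one
      rw [← map_pow]
      exact (QuotientGroup.eq_one_iff _).mpr hxgt
    rw [ho3] at h1
    have h2 : r₀ = t := (Nat.prime_dvd_prime_iff_eq hr₀ ht).mp (dvd_trans (dvd_mul_right r₀ s) h1)
    have h3 : s = t := (Nat.prime_dvd_prime_iff_eq hs ht).mp (dvd_trans (dvd_mul_left s r₀) h1)
    exact hsr (h3.trans h2.symm)

/-- A group all of whose elements of a subgroup `H` have `p`-th power in the centre: `H` is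
nilpotent. -/
theorem isNilpotent_of_pow_mem_center [Finite G] {p : ℕ} [Fact p.Prime] (H : Subgroup G)
    (hp : ∀ m ∈ H, m ^ p ∈ Subgroup.center G) : Group.IsNilpotent ↥H := by
  have hker : ((QuotientGroup.mk' (Subgroup.center G)).comp H.subtype).rangeRestrict.ker ≤
      Subgroup.center ↥H := by
    intro x hx
    rw [MonoidHom.mem_ker] at hx
    have h1 : ((QuotientGroup.mk' (Subgroup.center G)).comp H.subtype) x = 1 :=
      congrArg Subtype.val hx
    have h2 : (x : G) ∈ Subgroup.center G := (QuotientGroup.eq_one_iff _).mp h1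
    rw [Subgroup.mem_center_iff]
    intro g
    apply Subtype.ext
    exact Subgroup.mem_center_iff.mp h2 g
  have hpg : IsPGroup p ↥((QuotientGroup.mk' (Subgroup.center G)).comp H.subtype).range := by
    rintro ⟨y, x, rfl⟩
    refine ⟨1, Subtype.ext ?_⟩
    show (((QuotientGroup.mk' (Subgroup.center G)).comp H.subtype) x) ^ p ^ 1 = 1
    rw [pow_one, ← map_pow]
    exact (QuotientGroup.eq_one_iff _).mpr (hp x x.2)
  have := hpg.isNilpotent
  exact Subgroup.isNilpotent_of_ker_le_center _ hker

/-- Normalizers grow in nilpotent subgroups. -/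
theorem exists_mem_normalizer_not_mem_of_isNilpotent {H : Type*} [Group H]
    {Q P : Subgroup H} [hnil : Group.IsNilpotent ↥P] (hQP : Q < P) :
    ∃ g ∈ P, g ∉ Q ∧ g ∈ Subgroup.normalizer (Q : Set H) := by
  have hlt : Q.subgroupOf P < ⊤ := by
    rw [lt_top_iff_ne_top]
    intro h
    rw [Subgroup.subgroupOf_eq_top] at h
    exact lt_irrefl _ (lt_of_lt_of_le hQP h)
  have h1 := Group.normalizerCondition_of_isNilpotent (G := ↥P) (Q.subgroupOf P) hlt
  obtain ⟨g, hgN, hgQ⟩ := SetLike.exists_of_lt h1
  refine ⟨g, g.2, fun h => hgQ (Subgroup.mem_subgroupOf.mpr h), ?_⟩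
  rw [Subgroup.mem_normalizer_iff]
  rw [Subgroup.mem_normalizer_iff] at hgN
  intro h
  constructor
  · intro hh
    have := (hgN ⟨h, hQP.le hh⟩).mp (Subgroup.mem_subgroupOf.mpr hh)
    exact Subgroup.mem_subgroupOf.mp this
  · intro hh
    have hhP : h ∈ P := by
      have : h = (g : H)⁻¹ * ((g : H) * h * (g : H)⁻¹) * (g : H) := by group
      rw [this]
      exact P.mul_mem (P.mul_mem (P.inv_mem g.2) (hQP.le hh)) g.2
    have := (hgN ⟨h, hhP⟩).mpr (Subgroup.mem_subgroupOf.mpr hh)
    exact Subgroup.mem_subgroupOf.mp this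

/-- A non-abelian nilpotent group has a non-central element all of whose commutators are
central. -/
theorem exists_not_mem_center_commutator_mem_center {H : Type*} [Group H] [Group.IsNilpotent H]
    (hna : ∃ a b : H, a * b ≠ b * a) :
    ∃ x : H, x ∉ Subgroup.center H ∧ ∀ y : H, x * y * x⁻¹ * y⁻¹ ∈ Subgroup.center H := by
  by_contra hcon
  push Not at hcon
  have h2 : ∀ n : ℕ, Subgroup.upperCentralSeries H (n + 1) ≤ Subgroup.center H := by
    intro n
    induction n with
    | zero => rw [zero_add, Subgroup.upperCentralSeries_one]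
    | succ n ih =>
      intro x hx
      rw [Subgroup.mem_upperCentralSeries_succ_iff] at hx
      by_contra hxc
      obtain ⟨y, hy⟩ := hcon x hxc
      exact hy (ih (hx y))
  obtain ⟨n, hn⟩ := Group.IsNilpotent.nilpotent H
  have htop : (⊤ : Subgroup H) ≤ Subgroup.center H := by
    rw [← hn]
    exact le_trans (Subgroup.upperCentralSeries_mono H (Nat.le_succ n)) (h2 n)
  obtain ⟨a, b, hab⟩ := hna
  exact hab (Subgroup.mem_center_iff.mp (htop (Subgroup.mem_top a)) b).symm

/-- **Case III.** A non-normal maximal centralizer cannot be non-abelian when all non-normal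
centralizers are non-abelian. -/
theorem false_of_nonabelian_nonnormal [Finite G] (h : ∀ x : G, x ∉ Subgroup.center G →
    IsCoatom (Subgroup.centralizer ({x} : Set G)))
    (hall : ∀ x : G, x ∉ Subgroup.center G → ¬ (Subgroup.centralizer ({x} : Set G)).Normal →
      ∃ b ∈ Subgroup.centralizer ({x} : Set G), ∃ c ∈ Subgroup.centralizer ({x} : Set G), b * c ≠ c * b)
    {a₀ : G} (ha₀ : a₀ ∉ Subgroup.center G) (hnn : ¬ (Subgroup.centralizer ({a₀} : Set G)).Normal) : False := by
  have hM := h a₀ ha₀
  have hMna := hall a₀ ha₀ hnn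
  obtain ⟨p, hp, hMp⟩ := exists_prime_forall_pow_mem_center h ha₀ hMna
  haveI : Fact p.Prime := ⟨hp⟩
  have hself : ∀ x : G, x ∈ Subgroup.centralizer ({x} : Set G) := fun x => mem_centralizer_singleton.mpr rfl
  -- (III.0) `M` is self-normalizing
  have hMnorm : ∀ g : G, g ∈ Subgroup.normalizer ((Subgroup.centralizer ({a₀} : Set G) : Subgroup G) : Set G) →
      g ∈ Subgroup.centralizer ({a₀} : Set G) := by
    intro g hg
    by_contra hgM
    apply hnn
    rw [← Subgroup.normalizer_eq_top_iff]
    apply hM.2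
    exact lt_of_le_of_ne Subgroup.le_normalizer (fun e => hgM (e ▸ hg))
  -- (III.1) centralizers of non-central elements of `M` have exponent `p` mod `Z`
  have hx1 : ∀ x ∈ Subgroup.centralizer ({a₀} : Set G), x ∉ Subgroup.center G → ∀ m ∈ Subgroup.centralizer ({x} : Set G), m ^ p ∈ Subgroup.center G := by
    intro x hxM hxZ
    by_cases hcx : Subgroup.centralizer ({x} : Set G) = Subgroup.centralizer ({a₀} : Set G)
    · rw [hcx]
      exact hMp
    have hxna : ∃ b ∈ Subgroup.centralizer ({x} : Set G), ∃ c ∈ Subgroup.centralizer ({x} : Set G), b * c ≠ c * b := by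
      by_contra hab
      push Not at hab
      apply hcx
      apply centralizer_eq_of_le h hxZ ha₀
      intro g hg
      rw [mem_centralizer_singleton]
      have ha₀x : a₀ ∈ Subgroup.centralizer ({x} : Set G) :=
        mem_centralizer_singleton.mpr (mem_centralizer_singleton.mp hxM).symm
      exact hab a₀ ha₀x g hg
    obtain ⟨p', hp', hxp'⟩ := exists_prime_forall_pow_mem_center h hxZ hxna
    have hpp : p = p' := prime_eq_of_pow_mem_center hp hp' hxZ (hMp x hxM) (hxp' x (hself x))
    rw [hpp]
    exact hxp'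
  have hZM : Subgroup.center G ≤ (Subgroup.centralizer ({a₀} : Set G)).normalCore :=
    Subgroup.normal_le_normalCore.mpr (center_le_centralizer_singleton a₀)
  by_cases hK : (Subgroup.centralizer ({a₀} : Set G)).normalCore ≤ Subgroup.center G
  · -- (III.4) the second centre argument
    haveI hMnil : Group.IsNilpotent ↥(Subgroup.centralizer ({a₀} : Set G)) := isNilpotent_of_pow_mem_center _ hMp
    obtain ⟨b, hb, c, hc, hbc⟩ := hMna
    obtain ⟨x, hxc, hxcomm⟩ := exists_not_mem_center_commutator_mem_center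
      (H := ↥(Subgroup.centralizer ({a₀} : Set G))) ⟨⟨b, hb⟩, ⟨c, hc⟩, fun e => hbc (congrArg Subtype.val e)⟩
    have hxZ : (x : G) ∉ Subgroup.center G := by
      intro hz
      apply hxc
      rw [Subgroup.mem_center_iff]
      intro g
      exact Subtype.ext (Subgroup.mem_center_iff.mp hz g)
    have hne : Subgroup.centralizer ({(x : G)} : Set G) ≠ Subgroup.centralizer ({a₀} : Set G) := by
      intro e
      apply hxc
      rw [Subgroup.mem_center_iff]
      intro g
      have hg : (g : G) ∈ Subgroup.centralizer ({(x : G)} : Set G) := by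
        rw [e]
        exact g.2
      exact Subtype.ext (mem_centralizer_singleton.mp hg).symm
    -- commutators of `x` with `M` commute with `M`
    have hcw : ∀ m ∈ Subgroup.centralizer ({a₀} : Set G), ∀ w ∈ Subgroup.centralizer ({a₀} : Set G),
        ((x : G) * m * (x : G)⁻¹ * m⁻¹) * w = w * ((x : G) * m * (x : G)⁻¹ * m⁻¹) := by
      intro m hm w hw
      have h1 := Subgroup.mem_center_iff.mp (hxcomm ⟨m, hm⟩) ⟨w, hw⟩
      exact (congrArg Subtype.val h1).symm
    have key : ∀ m ∈ Subgroup.centralizer ({a₀} : Set G), ∀ d ∈ Subgroup.centralizer ({a₀} : Set G) ⊓ Subgroup.centralizer ({(x : G)} : Set G),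
        m * d * m⁻¹ ∈ Subgroup.centralizer ({a₀} : Set G) ⊓ Subgroup.centralizer ({(x : G)} : Set G) := by
      intro m hm d hd
      have hdM := (Subgroup.mem_inf.mp hd).1
      have hdx : (x : G) * d = d * (x : G) := mem_centralizer_singleton.mp (Subgroup.mem_inf.mp hd).2
      have hwM : m * d * m⁻¹ ∈ Subgroup.centralizer ({a₀} : Set G) :=
        Subgroup.mul_mem _ (Subgroup.mul_mem _ hm hdM) (Subgroup.inv_mem _ hm)
      refine Subgroup.mem_inf.mpr ⟨hwM, ?_⟩
      rw [mem_centralizer_singleton]
      have hd' : (x : G) * d * (x : G)⁻¹ = d := by rw [hdx, mul_inv_cancel_right]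
      have e1 : (x : G) * (m * d * m⁻¹) * (x : G)⁻¹ =
          ((x : G) * m * (x : G)⁻¹ * m⁻¹) * (m * ((x : G) * d * (x : G)⁻¹) * m⁻¹) *
            ((x : G) * m * (x : G)⁻¹ * m⁻¹)⁻¹ := by group
      rw [hd', hcw m hm _ hwM, mul_inv_cancel_right] at e1
      exact mul_inv_eq_iff_eq_mul.mp e1
    have hMD : Subgroup.centralizer ({a₀} : Set G) ≤ Subgroup.normalizer
        ((Subgroup.centralizer ({a₀} : Set G) ⊓ Subgroup.centralizer ({(x : G)} : Set G) : Subgroup G) : Set G) := by
      intro m hm
      rw [Subgroup.mem_normalizer_iff]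
      intro d
      constructor
      · exact key m hm d
      · intro hd
        have := key m⁻¹ (Subgroup.inv_mem _ hm) _ hd
        have e : m⁻¹ * (m * d * m⁻¹) * m⁻¹⁻¹ = d := by group
        rwa [e] at this
    have hxD : (x : G) ∈ Subgroup.centralizer ({a₀} : Set G) ⊓ Subgroup.centralizer ({(x : G)} : Set G) := Subgroup.mem_inf.mpr ⟨x.2, hself _⟩
    have hnormD : Subgroup.normalizer ((Subgroup.centralizer ({a₀} : Set G) ⊓ Subgroup.centralizer ({(x : G)} : Set G) : Subgroup G) : Set G) =
        Subgroup.centralizer ({a₀} : Set G) := by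
      rcases hM.le_iff.mp hMD with h1 | h1
      · exfalso
        haveI : (Subgroup.centralizer ({a₀} : Set G) ⊓ Subgroup.centralizer ({(x : G)} : Set G)).Normal := Subgroup.normalizer_eq_top_iff.mp h1
        have h2 : Subgroup.centralizer ({a₀} : Set G) ⊓ Subgroup.centralizer ({(x : G)} : Set G) ≤ (Subgroup.centralizer ({a₀} : Set G)).normalCore :=
          Subgroup.normal_le_normalCore.mpr inf_le_left
        exact hxZ (hK (h2 hxD))
      · exact h1
    haveI : Group.IsNilpotent ↥(Subgroup.centralizer ({(x : G)} : Set G)) :=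
      isNilpotent_of_pow_mem_center _ (hx1 x x.2 hxZ)
    have hlt : Subgroup.centralizer ({a₀} : Set G) ⊓ Subgroup.centralizer ({(x : G)} : Set G) < Subgroup.centralizer ({(x : G)} : Set G) := by
      apply lt_of_le_of_ne inf_le_right
      intro e
      apply hne
      apply centralizer_eq_of_le h hxZ ha₀
      rw [← e]
      exact inf_le_left
    obtain ⟨g, hgM2, hgD, hgN⟩ := exists_mem_normalizer_not_mem_of_isNilpotent hlt
    rw [hnormD] at hgN
    exact hgD (Subgroup.mem_inf.mpr ⟨hgN, hgM2⟩)
  · -- (III.3) the core is not central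
    obtain ⟨v, hvK, hvZ⟩ := SetLike.not_le_iff_exists.mp hK
    have hKM : (Subgroup.centralizer ({a₀} : Set G)).normalCore ≤ Subgroup.centralizer ({a₀} : Set G) := Subgroup.normalCore_le _
    haveI hKn : ((Subgroup.centralizer ({a₀} : Set G)).normalCore).Normal := Subgroup.normalCore_normal _
    have hy : ∃ y : G, ∃ q : ℕ, q.Prime ∧ q ≠ p ∧ y ∉ Subgroup.center G ∧
        y ^ q ∈ Subgroup.center G := by
      by_contra hcon
      push Not at hcon
      have hpg : IsPGroup p (G ⧸ Subgroup.center G) := by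
        intro gbar
        obtain ⟨g, rfl⟩ := QuotientGroup.mk'_surjective (Subgroup.center G) gbar
        by_contra hnot
        have hn0 : orderOf (QuotientGroup.mk' (Subgroup.center G) g) ≠ 0 := (orderOf_pos _).ne'
        have hq : ∃ q : ℕ, q.Prime ∧ q ∣ orderOf (QuotientGroup.mk' (Subgroup.center G) g) ∧
            q ≠ p := by
          by_contra hq
          push Not at hq
          have h3 := Nat.eq_prime_pow_of_unique_prime_dvd hn0 (fun {d} hd hdvd => hq d hd hdvd)
          exact hnot ⟨_, by rw [← h3]; exact pow_orderOf_eq_one _⟩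
        obtain ⟨q, hq, ⟨t, ht⟩, hqp⟩ := hq
        have ht0 : 0 < t := by
          rcases Nat.eq_zero_or_pos t with h0 | h0
          · rw [h0, mul_zero] at ht
            exact absurd ht hn0
          · exact h0
        apply hcon (g ^ t) q hq hqp
        · intro hyZ
          have h1 : (QuotientGroup.mk' (Subgroup.center G) g) ^ t = 1 := by
            rw [← map_pow]
            exact (QuotientGroup.eq_one_iff _).mpr hyZ
          have h2 := orderOf_dvd_of_pow_eq_one h1
          rw [ht] at h2
          have h3 : q * t ≤ t := Nat.le_of_dvd ht0 h2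
          have := hq.one_lt
          nlinarith
        · rw [← pow_mul]
          apply (QuotientGroup.eq_one_iff _).mp
          have h4 : (QuotientGroup.mk' (Subgroup.center G) g) ^ (t * q) = 1 := by
            rw [mul_comm, ← ht, pow_orderOf_eq_one]
          rw [← h4, ← map_pow]
          rfl
      have := hpg.isNilpotent
      haveI : Group.IsNilpotent G :=
        Subgroup.isNilpotent_of_ker_le_center (QuotientGroup.mk' (Subgroup.center G))
          (by rw [QuotientGroup.ker_mk'])
      have hlt := Group.normalizerCondition_of_isNilpotent (Subgroup.centralizer ({a₀} : Set G))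
        (lt_top_iff_ne_top.mpr hM.1)
      obtain ⟨g, hgN, hgM⟩ := SetLike.exists_of_lt hlt
      exact hgM (hMnorm g hgN)
    obtain ⟨y, q, hq, hqp, hyZ, hyq⟩ := hy
    have hC := h y hyZ
    have hpq : Nat.Coprime p q := (Nat.coprime_primes hp hq).mpr (Ne.symm hqp)
    -- (a) `C ∩ K ≤ Z`
    have hCK : ∀ x : G, x ∈ Subgroup.centralizer ({y} : Set G) → x ∈ (Subgroup.centralizer ({a₀} : Set G)).normalCore → x ∈ Subgroup.center G := by
      intro x hxC hxK
      by_contra hxZ
      have h1 := hx1 x (hKM hxK) hxZ y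
        (mem_centralizer_singleton.mpr (mem_centralizer_singleton.mp hxC).symm)
      exact hyZ (mem_center_of_pow_mem_of_coprime hpq h1 hyq)
    -- (b) `C` is not normal
    have hCnn : ¬ (Subgroup.centralizer ({y} : Set G)).Normal := by
      intro hCn
      have hc : v * y * v⁻¹ * y⁻¹ ∈ Subgroup.center G := by
        apply hCK
        · exact Subgroup.mul_mem _ (hCn.conj_mem y (hself y) v) (Subgroup.inv_mem _ (hself y))
        · have e : v * y * v⁻¹ * y⁻¹ = v * (y * v⁻¹ * y⁻¹) := by group
          rw [e]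
          exact Subgroup.mul_mem _ hvK (hKn.conj_mem _ (Subgroup.inv_mem _ hvK) y)
      have hvy : v * y = (v * y * v⁻¹ * y⁻¹) * (y * v) := by group
      generalize v * y * v⁻¹ * y⁻¹ = c at hc hvy
      have h1 := pow_mul_of_central hc hvy p
      have h2 : v ^ p * y = y * v ^ p := (Subgroup.mem_center_iff.mp (hMp v (hKM hvK)) y).symm
      have hcp : c ^ p = 1 := by
        rw [h2] at h1
        exact mul_eq_right.mp h1.symm
      have h3 := mul_pow_of_central hc hvy q
      have h4 : v * y ^ q = y ^ q * v := Subgroup.mem_center_iff.mp hyq v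
      have hcq : c ^ q = 1 := by
        rw [h4] at h3
        exact mul_eq_right.mp h3.symm
      have hc1 : c = 1 := by
        have h5 : orderOf c ∣ Nat.gcd p q :=
          Nat.dvd_gcd (orderOf_dvd_of_pow_eq_one hcp) (orderOf_dvd_of_pow_eq_one hcq)
        rw [hpq] at h5
        exact orderOf_eq_one_iff.mp (Nat.dvd_one.mp h5)
      rw [hc1, one_mul] at hvy
      exact hvZ (hCK v (mem_centralizer_singleton.mpr hvy.symm) hvK)
    obtain ⟨q', hq', hCq'⟩ := exists_prime_forall_pow_mem_center h hyZ (hall y hyZ hCnn)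
    have hqq : q = q' := prime_eq_of_pow_mem_center hq hq' hyZ hyq (hCq' y (hself y))
    -- (c) `C K = G`
    have hsup : Subgroup.centralizer ({y} : Set G) ⊔ (Subgroup.centralizer ({a₀} : Set G)).normalCore = ⊤ := by
      apply hC.2
      apply lt_of_le_of_ne le_sup_left
      intro e
      have hvC : v ∈ Subgroup.centralizer ({y} : Set G) := by
        rw [e]
        exact Subgroup.mem_sup_right hvK
      exact hvZ (hCK v hvC hvK)
    -- (d) `M ≤ K`
    have hMK : Subgroup.centralizer ({a₀} : Set G) ≤ (Subgroup.centralizer ({a₀} : Set G)).normalCore := by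
      intro m hm
      have hm' : m ∈ ((Subgroup.centralizer ({y} : Set G) ⊔ (Subgroup.centralizer ({a₀} : Set G)).normalCore : Subgroup G) : Set G) := by
        rw [hsup]
        trivial
      rw [Subgroup.mul_normal] at hm'
      obtain ⟨c, hcC, k, hkK, rfl⟩ := hm'
      have hcM : c ∈ Subgroup.centralizer ({a₀} : Set G) := by
        have e : c = (c * k) * k⁻¹ := by group
        rw [e]
        exact Subgroup.mul_mem _ hm (Subgroup.inv_mem _ (hKM hkK))
      have hcZ : c ∈ Subgroup.center G :=
        mem_center_of_pow_mem_of_coprime (hqq ▸ hpq) (hMp c hcM) (hCq' c hcC)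
      exact Subgroup.mul_mem _ (hZM hcZ) hkK
    apply hnn
    have e : Subgroup.centralizer ({a₀} : Set G) = (Subgroup.centralizer ({a₀} : Set G)).normalCore := le_antisymm hMK hKM
    rw [e]
    exact hKn

/-- A non-central element has a power of prime order modulo the centre. -/
theorem exists_pow_prime_mem_center [Finite G] {a : G} (ha : a ∉ Subgroup.center G) :
    ∃ (j q : ℕ), q.Prime ∧ a ^ j ∉ Subgroup.center G ∧ (a ^ j) ^ q ∈ Subgroup.center G := by
  classical
  have hex : ∃ m : ℕ, 0 < m ∧ a ^ m ∈ Subgroup.center G :=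
    ⟨orderOf a, orderOf_pos a, by rw [pow_orderOf_eq_one]; exact Subgroup.one_mem _⟩
  obtain ⟨hm0, hmZ⟩ := Nat.find_spec hex
  have hmin : ∀ k : ℕ, 0 < k → a ^ k ∈ Subgroup.center G → Nat.find hex ≤ k :=
    fun k hk hkZ => Nat.find_min' hex ⟨hk, hkZ⟩
  set m := Nat.find hex with hm
  have hm1 : m ≠ 1 := by
    intro h1
    rw [h1, pow_one] at hmZ
    exact ha hmZ
  obtain ⟨r, hr, hrm⟩ := Nat.exists_prime_and_dvd hm1
  obtain ⟨m', hm'⟩ := hrm
  have hm'0 : 0 < m' := by
    rcases Nat.eq_zero_or_pos m' with h0 | h0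
    · rw [h0, mul_zero] at hm'
      omega
    · exact h0
  refine ⟨m', r, hr, ?_, ?_⟩
  · intro hc
    have h1 := hmin m' hm'0 hc
    have h2 : m' < m := by
      rw [hm']
      have := hr.one_lt
      nlinarith
    omega
  · rw [← pow_mul, mul_comm, ← hm']
    exact hmZ

/-- **Case II.** A non-normal abelian maximal centralizer forces `G/Z(G)` to be a minimal
non-abelian group of order `p ^ a * q` with a normal Sylow `p`-subgroup. -/
theorem minimalNonabelian_of_abelian_nonnormal [Finite G] (h : ∀ x : G, x ∉ Subgroup.center G →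
    IsCoatom (Subgroup.centralizer ({x} : Set G)))
    {a : G} (ha : a ∉ Subgroup.center G) (hnn : ¬ (Subgroup.centralizer ({a} : Set G)).Normal)
    (hab : ∀ u ∈ Subgroup.centralizer ({a} : Set G), ∀ v ∈ Subgroup.centralizer ({a} : Set G), u * v = v * u) :
    ¬ IsMulCommutative (G ⧸ Subgroup.center G) ∧
    (∀ H : Subgroup (G ⧸ Subgroup.center G), H ≠ ⊤ → IsMulCommutative ↥H) ∧
      ∃ p q n : ℕ, p.Prime ∧ q.Prime ∧ p ≠ q ∧ Nat.card (G ⧸ Subgroup.center G) = p ^ n * q ∧
        ∀ P : Subgroup (G ⧸ Subgroup.center G), Nat.card ↥P = p ^ n → P.Normal := by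
  have hA := h a ha
  have hself : ∀ x : G, x ∈ Subgroup.centralizer ({x} : Set G) := fun x => mem_centralizer_singleton.mpr rfl
  have hZn : (Subgroup.center G).Normal := inferInstance
  have hZA : Subgroup.center G ≤ Subgroup.centralizer ({a} : Set G) := center_le_centralizer_singleton a
  -- (II.0) `A` is self-normalizing
  have hAnorm : ∀ g : G, g ∈ Subgroup.normalizer ((Subgroup.centralizer ({a} : Set G) : Subgroup G) : Set G) →
      g ∈ Subgroup.centralizer ({a} : Set G) := by
    intro g hg
    by_contra hgM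
    apply hnn
    rw [← Subgroup.normalizer_eq_top_iff]
    apply hA.2
    exact lt_of_le_of_ne Subgroup.le_normalizer (fun e => hgM (e ▸ hg))
  -- (II.1)
  have hcentA : ∀ y ∈ Subgroup.centralizer ({a} : Set G), y ∉ Subgroup.center G → Subgroup.centralizer ({y} : Set G) = Subgroup.centralizer ({a} : Set G) := by
    intro y hyA hyZ
    exact (centralizer_eq_of_le h ha hyZ
      (fun g hg => mem_centralizer_singleton.mpr (hab y hyA g hg))).symm
  -- (II.2) `A / Z` is malnormal
  have hTI : ∀ g : G, g ∉ Subgroup.centralizer ({a} : Set G) → ∀ w ∈ Subgroup.centralizer ({a} : Set G), g⁻¹ * w * g ∈ Subgroup.centralizer ({a} : Set G) →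
      w ∈ Subgroup.center G := by
    intro g hg w hw hu
    by_contra hwZ
    have huZ : g⁻¹ * w * g ∉ Subgroup.center G := by
      intro huZ
      apply hwZ
      have := hZn.conj_mem _ huZ g
      have e : g * (g⁻¹ * w * g) * g⁻¹ = w := by group
      rwa [e] at this
    have e1 := hcentA w hw hwZ
    have e2 := hcentA _ hu huZ
    apply hg
    apply hAnorm
    rw [Subgroup.mem_normalizer_iff]
    intro h'
    constructor
    · intro hh
      rw [← e2, mem_centralizer_singleton] at hh
      rw [← e1, mem_centralizer_singleton]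
      have e : w * (g * h' * g⁻¹) = g * ((g⁻¹ * w * g) * h') * g⁻¹ := by group
      rw [e, hh]
      group
    · intro hh
      rw [← e1, mem_centralizer_singleton] at hh
      rw [← e2, mem_centralizer_singleton]
      have e : (g⁻¹ * w * g) * h' = g⁻¹ * (w * (g * h' * g⁻¹)) * g := by group
      rw [e, hh]
      group
  -- the quotient
  have hπ : Function.Surjective (QuotientGroup.mk' (Subgroup.center G)) :=
    QuotientGroup.mk'_surjective _
  have hπ1 : ∀ g : G, QuotientGroup.mk' (Subgroup.center G) g = 1 ↔ g ∈ Subgroup.center G :=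
    fun g => QuotientGroup.eq_one_iff g
  have hmemA : ∀ g : G, QuotientGroup.mk' (Subgroup.center G) g ∈
      (Subgroup.centralizer ({a} : Set G)).map (QuotientGroup.mk' (Subgroup.center G)) ↔ g ∈ Subgroup.centralizer ({a} : Set G) := by
    intro g
    constructor
    · intro hg
      obtain ⟨a', ha', he⟩ := Subgroup.mem_map.mp hg
      have h1 : a'⁻¹ * g ∈ Subgroup.center G := QuotientGroup.eq.mp he
      have e : g = a' * (a'⁻¹ * g) := by group
      rw [e]
      exact Subgroup.mul_mem _ ha' (hZA h1)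
    · intro hg
      exact Subgroup.mem_map_of_mem _ hg
  have hconj : ∀ g w : G, QuotientGroup.mk' (Subgroup.center G) w ∈
      MulAut.conj (QuotientGroup.mk' (Subgroup.center G) g) •
        (Subgroup.centralizer ({a} : Set G)).map (QuotientGroup.mk' (Subgroup.center G)) ↔ g⁻¹ * w * g ∈ Subgroup.centralizer ({a} : Set G) := by
    intro g w
    rw [Subgroup.mem_pointwise_smul_iff_inv_smul_mem, MulAut.smul_def, MulAut.conj_inv_apply,
      ← map_inv, ← map_mul, ← map_mul, hmemA]
  have haπ : QuotientGroup.mk' (Subgroup.center G) a ≠ 1 := fun e => ha ((hπ1 a).mp e)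
  have hFC : Cfsg.IsFrobeniusComplement
      ((Subgroup.centralizer ({a} : Set G)).map (QuotientGroup.mk' (Subgroup.center G))) := by
    refine ⟨?_, ?_, ?_⟩
    · intro e
      have h1 : QuotientGroup.mk' (Subgroup.center G) a ∈
          (Subgroup.centralizer ({a} : Set G)).map (QuotientGroup.mk' (Subgroup.center G)) := (hmemA a).mpr (hself a)
      rw [e, Subgroup.mem_bot] at h1
      exact haπ h1
    · intro e
      apply hA.1
      rw [eq_top_iff]
      intro g _
      rw [← hmemA, e]
      trivial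
    · intro gbar hgbar
      obtain ⟨g, rfl⟩ := hπ gbar
      rw [hmemA] at hgbar
      rw [eq_bot_iff]
      intro wbar hwbar
      obtain ⟨w, rfl⟩ := hπ wbar
      obtain ⟨hw1, hw2⟩ := Subgroup.mem_inf.mp hwbar
      rw [hmemA] at hw1
      rw [hconj] at hw2
      rw [Subgroup.mem_bot, hπ1]
      exact hTI g hgbar w hw1 hw2
  obtain ⟨Kb, hKker, hKbn, hKc⟩ := Cfsg.Agent.S0035.result _ hFC
  have hdisj : ∀ x : G ⧸ Subgroup.center G, x ∈ Kb →
      x ∈ (Subgroup.centralizer ({a} : Set G)).map (QuotientGroup.mk' (Subgroup.center G)) → x = 1 :=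
    fun x hx1 hx2 => Subgroup.disjoint_def.mp hKc.disjoint hx1 hx2
  have hsupb := hKc.sup_eq_top
  have hmemK : ∀ x : G ⧸ Subgroup.center G, x ∈ Kb ↔ (x = 1 ∨ ∀ g : G ⧸ Subgroup.center G,
      x ∉ MulAut.conj g • (Subgroup.centralizer ({a} : Set G)).map (QuotientGroup.mk' (Subgroup.center G))) := by
    intro x
    have : x ∈ (Kb : Set (G ⧸ Subgroup.center G)) ↔ x ∈ Cfsg.frobeniusKernel
        ((Subgroup.centralizer ({a} : Set G)).map (QuotientGroup.mk' (Subgroup.center G))) := by rw [hKker]
    exact this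
  -- `K`, the preimage of the kernel
  haveI hKn : (Kb.comap (QuotientGroup.mk' (Subgroup.center G))).Normal := hKbn.comap _
  have hZK : Subgroup.center G ≤ Kb.comap (QuotientGroup.mk' (Subgroup.center G)) := by
    intro z hz
    rw [Subgroup.mem_comap, (hπ1 z).mpr hz]
    exact Subgroup.one_mem _
  have hKA : ∀ x : G, x ∈ Kb.comap (QuotientGroup.mk' (Subgroup.center G)) → x ∈ Subgroup.centralizer ({a} : Set G) →
      x ∈ Subgroup.center G := by
    intro x hxK hxA
    rw [← hπ1]
    exact hdisj _ (Subgroup.mem_comap.mp hxK) ((hmemA x).mpr hxA)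
  have hcentK : ∀ k : G, k ∈ Kb.comap (QuotientGroup.mk' (Subgroup.center G)) →
      k ∉ Subgroup.center G → Subgroup.centralizer ({k} : Set G) ≤ Kb.comap (QuotientGroup.mk' (Subgroup.center G)) := by
    intro k hkK hkZ w hw
    by_contra hwK
    rw [Subgroup.mem_comap, hmemK] at hwK
    push Not at hwK
    obtain ⟨hw1, gbar, hgbar⟩ := hwK
    obtain ⟨g, rfl⟩ := hπ gbar
    rw [hconj] at hgbar
    have hwZ : w ∉ Subgroup.center G := fun hz => hw1 ((hπ1 w).mpr hz)
    have huZ : g⁻¹ * w * g ∉ Subgroup.center G := by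
      intro huZ
      apply hwZ
      have := hZn.conj_mem _ huZ g
      have e : g * (g⁻¹ * w * g) * g⁻¹ = w := by group
      rwa [e] at this
    have e2 := hcentA _ hgbar huZ
    have hkw : k * w = w * k := mem_centralizer_singleton.mp hw
    have h1 : g⁻¹ * k * g ∈ Subgroup.centralizer ({a} : Set G) := by
      rw [← e2, mem_centralizer_singleton]
      have e : (g⁻¹ * w * g) * (g⁻¹ * k * g) = g⁻¹ * (w * k) * g := by group
      rw [e, ← hkw]
      group
    have h2 : g⁻¹ * k * g ∈ Kb.comap (QuotientGroup.mk' (Subgroup.center G)) := by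
      have := hKn.conj_mem _ hkK g⁻¹
      simpa using this
    have h3 := hKA _ h2 h1
    apply hkZ
    have := hZn.conj_mem _ h3 g
    have e : g * (g⁻¹ * k * g) * g⁻¹ = k := by group
    rwa [e] at this
  have hKtop : Kb.comap (QuotientGroup.mk' (Subgroup.center G)) ≠ ⊤ := by
    intro e
    apply ha
    apply hKA a _ (hself a)
    rw [e]
    trivial
  have hKeq : ∀ k : G, k ∈ Kb.comap (QuotientGroup.mk' (Subgroup.center G)) →
      k ∉ Subgroup.center G → Subgroup.centralizer ({k} : Set G) = Kb.comap (QuotientGroup.mk' (Subgroup.center G)) := by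
    intro k hkK hkZ
    rcases (h k hkZ).le_iff.mp (hcentK k hkK hkZ) with h1 | h1
    · exact absurd h1 hKtop
    · exact h1.symm
  -- decomposition `G = K A`
  have hdec : ∀ g : G, ∃ k ∈ Kb.comap (QuotientGroup.mk' (Subgroup.center G)),
      ∃ a' ∈ Subgroup.centralizer ({a} : Set G), g = k * a' := by
    intro g
    have hg : QuotientGroup.mk' (Subgroup.center G) g ∈
        ((Kb ⊔ (Subgroup.centralizer ({a} : Set G)).map (QuotientGroup.mk' (Subgroup.center G)) :
          Subgroup (G ⧸ Subgroup.center G)) : Set (G ⧸ Subgroup.center G)) := by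
      rw [hsupb]
      trivial
    rw [Subgroup.normal_mul] at hg
    obtain ⟨kb, hkb, ab, hab', he⟩ := hg
    obtain ⟨k, rfl⟩ := hπ kb
    obtain ⟨a', rfl⟩ := hπ ab
    rw [SetLike.mem_coe, hmemA] at hab'
    have h1 : (k * a')⁻¹ * g ∈ Subgroup.center G := by
      apply QuotientGroup.eq.mp
      exact he
    refine ⟨k, hkb, a' * ((k * a')⁻¹ * g), Subgroup.mul_mem _ hab' (hZA h1), ?_⟩
    group
  have hKZ : ∃ k ∈ Kb.comap (QuotientGroup.mk' (Subgroup.center G)), k ∉ Subgroup.center G := by
    by_contra hcon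
    push Not at hcon
    apply hA.1
    rw [eq_top_iff]
    intro g _
    obtain ⟨k, hk, a', ha', rfl⟩ := hdec g
    exact Subgroup.mul_mem _ (hZA (hcon k hk)) ha'
  obtain ⟨k₀, hk₀K, hk₀Z⟩ := hKZ
  have hKco : IsCoatom (Kb.comap (QuotientGroup.mk' (Subgroup.center G))) := by
    rw [← hKeq k₀ hk₀K hk₀Z]
    exact h k₀ hk₀Z
  have hKab : ∀ u ∈ Kb.comap (QuotientGroup.mk' (Subgroup.center G)),
      ∀ v ∈ Kb.comap (QuotientGroup.mk' (Subgroup.center G)), u * v = v * u := by
    intro u hu v hv
    by_cases huZ : u ∈ Subgroup.center G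
    · exact (Subgroup.mem_center_iff.mp huZ v).symm
    · rw [← hKeq u hu huZ] at hv
      exact mem_centralizer_singleton.mp hv
  -- minimality of `K / Z`
  have hKmin : ∀ L : Subgroup G, L.Normal → Subgroup.center G ≤ L →
      L ≤ Kb.comap (QuotientGroup.mk' (Subgroup.center G)) → (∃ l ∈ L, l ∉ Subgroup.center G) →
      Kb.comap (QuotientGroup.mk' (Subgroup.center G)) ≤ L := by
    intro L hLn hZL hLK ⟨l, hl, hlZ⟩
    have := hLn
    have hsup : Subgroup.centralizer ({a} : Set G) ⊔ L = ⊤ := by
      apply hA.2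
      apply lt_of_le_of_ne le_sup_left
      intro e
      have hlA : l ∈ Subgroup.centralizer ({a} : Set G) := by
        rw [e]
        exact Subgroup.mem_sup_right hl
      exact hlZ (hKA l (hLK hl) hlA)
    intro k hk
    have hk' : k ∈ ((Subgroup.centralizer ({a} : Set G) ⊔ L : Subgroup G) : Set G) := by
      rw [hsup]
      trivial
    rw [Subgroup.mul_normal] at hk'
    obtain ⟨a', ha', l', hl', rfl⟩ := hk'
    have ha'K : a' ∈ Kb.comap (QuotientGroup.mk' (Subgroup.center G)) := by
      have e : a' = (a' * l') * l'⁻¹ := by group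
      rw [e]
      exact Subgroup.mul_mem _ hk (Subgroup.inv_mem _ (hLK hl'))
    exact Subgroup.mul_mem _ (hZL (hKA a' ha'K ha')) hl'
  -- an element `y ∈ A` of prime order `q` modulo `Z`
  obtain ⟨j, q, hq, hyZ, hyq⟩ := exists_pow_prime_mem_center ha
  have hyA : a ^ j ∈ Subgroup.centralizer ({a} : Set G) := Subgroup.pow_mem _ (hself a) j
  have hyK : a ^ j ∉ Kb.comap (QuotientGroup.mk' (Subgroup.center G)) :=
    fun hc => hyZ (hKA _ hc hyA)
  have hgen : ∀ g : G, ∃ k ∈ Kb.comap (QuotientGroup.mk' (Subgroup.center G)), ∃ i : ℤ,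
      g = k * (a ^ j) ^ i := by
    intro g
    have hsup : Kb.comap (QuotientGroup.mk' (Subgroup.center G)) ⊔ Subgroup.zpowers (a ^ j) = ⊤ := by
      apply hKco.2
      apply lt_of_le_of_ne le_sup_left
      intro e
      apply hyK
      rw [e]
      exact Subgroup.mem_sup_right (Subgroup.mem_zpowers _)
    have hg : g ∈ ((Kb.comap (QuotientGroup.mk' (Subgroup.center G)) ⊔ Subgroup.zpowers (a ^ j) :
        Subgroup G) : Set G) := by
      rw [hsup]
      trivial
    rw [Subgroup.normal_mul] at hg
    obtain ⟨k, hk, z, hz, rfl⟩ := hg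
    obtain ⟨i, rfl⟩ := Subgroup.mem_zpowers_iff.mp hz
    exact ⟨k, hk, i, rfl⟩
  haveI : Fact q.Prime := ⟨hq⟩
  have hordy : orderOf (QuotientGroup.mk' (Subgroup.center G) (a ^ j)) = q := by
    apply orderOf_eq_prime
    · rw [← map_pow]
      exact (hπ1 _).mpr hyq
    · intro e
      exact hyZ ((hπ1 _).mp e)
  -- `A / Z` is generated by the image of `y`
  have hAz : (Subgroup.centralizer ({a} : Set G)).map (QuotientGroup.mk' (Subgroup.center G)) =
      Subgroup.zpowers (QuotientGroup.mk' (Subgroup.center G) (a ^ j)) := by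
    apply le_antisymm
    · intro xb hxb
      obtain ⟨x, rfl⟩ := hπ xb
      rw [hmemA] at hxb
      obtain ⟨k, hk, i, rfl⟩ := hgen x
      have hkA : k ∈ Subgroup.centralizer ({a} : Set G) := by
        have e : k = (k * (a ^ j) ^ i) * ((a ^ j) ^ i)⁻¹ := by group
        rw [e]
        exact Subgroup.mul_mem _ hxb (Subgroup.inv_mem _ (Subgroup.zpow_mem _ hyA i))
      have hkZ := hKA k hk hkA
      rw [map_mul, (hπ1 k).mpr hkZ, one_mul, map_zpow]
      exact Subgroup.zpow_mem _ (Subgroup.mem_zpowers _) i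
    · rw [Subgroup.zpowers_le]
      exact (hmemA _).mpr hyA
  have hcardA : Nat.card ↥((Subgroup.centralizer ({a} : Set G)).map (QuotientGroup.mk' (Subgroup.center G))) = q := by
    rw [hAz, Nat.card_zpowers, hordy]
  have hcardQ := hKc.card_mul_card
  rw [hcardA] at hcardQ
  -- `K / Z` has prime exponent `p`
  have hKb1 : Nat.card ↥Kb ≠ 1 := by
    intro e
    have h1 : Kb = ⊥ := Subgroup.card_eq_one.mp e
    apply hk₀Z
    rw [← hπ1]
    have : QuotientGroup.mk' (Subgroup.center G) k₀ ∈ Kb := hk₀K
    rw [h1, Subgroup.mem_bot] at this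
    exact this
  obtain ⟨p, hp, hpK⟩ := Nat.exists_prime_and_dvd hKb1
  haveI : Fact p.Prime := ⟨hp⟩
  obtain ⟨xb, hxb⟩ := exists_prime_orderOf_dvd_card' (G := ↥Kb) p hpK
  obtain ⟨l₀, hl₀⟩ := hπ (xb : G ⧸ Subgroup.center G)
  have hl₀K : l₀ ∈ Kb.comap (QuotientGroup.mk' (Subgroup.center G)) := by
    rw [Subgroup.mem_comap, hl₀]
    exact xb.2
  have hxb1 : (xb : G ⧸ Subgroup.center G) ≠ 1 := by
    intro e
    have h1 : xb = 1 := Subtype.ext e
    rw [h1, orderOf_one] at hxb
    exact hp.one_lt.ne hxb
  have hl₀Z : l₀ ∉ Subgroup.center G := by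
    intro hz
    apply hxb1
    rw [← hl₀]
    exact (hπ1 l₀).mpr hz
  have hl₀p : l₀ ^ p ∈ Subgroup.center G := by
    rw [← hπ1, map_pow, hl₀, ← Subgroup.coe_pow, ← hxb, pow_orderOf_eq_one]
    rfl
  have hKp : ∀ k ∈ Kb.comap (QuotientGroup.mk' (Subgroup.center G)), k ^ p ∈ Subgroup.center G := by
    let L : Subgroup G :=
      { carrier := {k | k ∈ Kb.comap (QuotientGroup.mk' (Subgroup.center G)) ∧
          k ^ p ∈ Subgroup.center G}
        mul_mem' := by
          rintro u v ⟨hu, hup⟩ ⟨hv, hvp⟩
          refine ⟨Subgroup.mul_mem _ hu hv, ?_⟩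
          rw [(show Commute u v from hKab u hu v hv).mul_pow]
          exact Subgroup.mul_mem _ hup hvp
        one_mem' := ⟨Subgroup.one_mem _, by rw [one_pow]; exact Subgroup.one_mem _⟩
        inv_mem' := by
          rintro u ⟨hu, hup⟩
          refine ⟨Subgroup.inv_mem _ hu, ?_⟩
          rw [inv_pow]
          exact Subgroup.inv_mem _ hup }
    have hLn : L.Normal := by
      constructor
      rintro u ⟨hu, hup⟩ g
      refine ⟨hKn.conj_mem u hu g, ?_⟩
      rw [conj_pow]
      exact hZn.conj_mem _ hup g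
    have hZL : Subgroup.center G ≤ L := fun z hz => ⟨hZK hz, Subgroup.pow_mem _ hz p⟩
    have hLK : L ≤ Kb.comap (QuotientGroup.mk' (Subgroup.center G)) := fun u hu => hu.1
    have := hKmin L hLn hZL hLK ⟨l₀, ⟨hl₀K, hl₀p⟩, hl₀Z⟩
    intro k hk
    exact (this hk).2
  have hKpg : IsPGroup p ↥Kb := by
    rintro ⟨xb', hxb'⟩
    obtain ⟨x, rfl⟩ := hπ xb'
    refine ⟨1, Subtype.ext ?_⟩
    show (QuotientGroup.mk' (Subgroup.center G) x) ^ p ^ 1 = 1
    rw [pow_one, ← map_pow]
    exact (hπ1 _).mpr (hKp x hxb')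
  obtain ⟨n, hn⟩ := IsPGroup.iff_card.mp hKpg
  rw [hn] at hcardQ
  -- `p ≠ q`
  have hpq : p ≠ q := by
    intro e
    have hQ : IsPGroup p (G ⧸ Subgroup.center G) := by
      apply IsPGroup.of_card (n := n + 1)
      rw [← hcardQ, e, pow_succ]
    have := hQ.isNilpotent
    have hlt := Group.normalizerCondition_of_isNilpotent
      ((Subgroup.centralizer ({a} : Set G)).map (QuotientGroup.mk' (Subgroup.center G))) (lt_top_iff_ne_top.mpr hFC.2.1)
    obtain ⟨gb, hgN, hgA⟩ := SetLike.exists_of_lt hlt
    have h1 := hFC.2.2 gb hgA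
    have h2 : QuotientGroup.mk' (Subgroup.center G) a ∈
        (Subgroup.centralizer ({a} : Set G)).map (QuotientGroup.mk' (Subgroup.center G)) ⊓
          MulAut.conj gb • (Subgroup.centralizer ({a} : Set G)).map (QuotientGroup.mk' (Subgroup.center G)) := by
      refine Subgroup.mem_inf.mpr ⟨(hmemA a).mpr (hself a), ?_⟩
      rw [Subgroup.mem_pointwise_smul_iff_inv_smul_mem, MulAut.smul_def, MulAut.conj_inv_apply]
      have h3 := Subgroup.inv_mem _ hgN
      rw [Subgroup.mem_normalizer_iff] at h3
      have h4 := (h3 (QuotientGroup.mk' (Subgroup.center G) a)).mp ((hmemA a).mpr (hself a))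
      rwa [inv_inv] at h4
    rw [h1, Subgroup.mem_bot] at h2
    exact haπ h2
  -- commutators lie in `K`
  have hcommK : ∀ x y : G, x * y * x⁻¹ * y⁻¹ ∈ Kb.comap (QuotientGroup.mk' (Subgroup.center G)) := by
    intro x y
    obtain ⟨k₁, hk₁, i₁, rfl⟩ := hgen x
    obtain ⟨k₂, hk₂, i₂, rfl⟩ := hgen y
    rw [← QuotientGroup.eq_one_iff (N := Kb.comap (QuotientGroup.mk' (Subgroup.center G)))]
    have e1 : ((k₁ : G) : G ⧸ Kb.comap (QuotientGroup.mk' (Subgroup.center G))) = 1 :=
      (QuotientGroup.eq_one_iff _).mpr hk₁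
    have e2 : ((k₂ : G) : G ⧸ Kb.comap (QuotientGroup.mk' (Subgroup.center G))) = 1 :=
      (QuotientGroup.eq_one_iff _).mpr hk₂
    simp only [QuotientGroup.mk_mul, QuotientGroup.mk_inv, QuotientGroup.mk_zpow, e1, e2, one_mul]
    group
  refine ⟨?_, ?_, p, q, n, hp, hq, hpq, hcardQ.symm, ?_⟩
  · -- not commutative
    intro hc
    obtain ⟨g, hg⟩ : ∃ g : G, g ∉ Subgroup.centralizer ({a} : Set G) := by
      by_contra hcon
      push Not at hcon
      exact hA.1 (eq_top_iff.mpr (fun g _ => hcon g))
    have h1 := hFC.2.2 (QuotientGroup.mk' (Subgroup.center G) g) (fun hc' => hg ((hmemA g).mp hc'))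
    have h2 : QuotientGroup.mk' (Subgroup.center G) a ∈
        (Subgroup.centralizer ({a} : Set G)).map (QuotientGroup.mk' (Subgroup.center G)) ⊓
          MulAut.conj (QuotientGroup.mk' (Subgroup.center G) g) •
            (Subgroup.centralizer ({a} : Set G)).map (QuotientGroup.mk' (Subgroup.center G)) := by
      refine Subgroup.mem_inf.mpr ⟨(hmemA a).mpr (hself a), ?_⟩
      rw [Subgroup.mem_pointwise_smul_iff_inv_smul_mem, MulAut.smul_def, MulAut.conj_inv_apply,
        mul_assoc, hc.is_comm.comm _ (QuotientGroup.mk' (Subgroup.center G) g), ← mul_assoc,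
        inv_mul_cancel, one_mul]
      exact (hmemA a).mpr (hself a)
    rw [h1, Subgroup.mem_bot] at h2
    exact haπ h2
  · -- proper subgroups are commutative
    intro H hH
    by_cases hHK : H ≤ Kb
    · refine ⟨⟨fun x y => Subtype.ext ?_⟩⟩
      obtain ⟨x', hx'⟩ := hπ (x : G ⧸ Subgroup.center G)
      obtain ⟨y', hy'⟩ := hπ (y : G ⧸ Subgroup.center G)
      have hx'K : x' ∈ Kb.comap (QuotientGroup.mk' (Subgroup.center G)) := by
        rw [Subgroup.mem_comap, hx']
        exact hHK x.2
      have hy'K : y' ∈ Kb.comap (QuotientGroup.mk' (Subgroup.center G)) := by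
        rw [Subgroup.mem_comap, hy']
        exact hHK y.2
      show (x : G ⧸ Subgroup.center G) * (y : G ⧸ Subgroup.center G) =
        (y : G ⧸ Subgroup.center G) * (x : G ⧸ Subgroup.center G)
      rw [← hx', ← hy', ← map_mul, ← map_mul, hKab x' hx'K y' hy'K]
    · -- `H ∩ K` is trivial
      have hHn : ((H.comap (QuotientGroup.mk' (Subgroup.center G))) ⊓
          Kb.comap (QuotientGroup.mk' (Subgroup.center G))).Normal := by
        have hsup : Kb.comap (QuotientGroup.mk' (Subgroup.center G)) ⊔
            H.comap (QuotientGroup.mk' (Subgroup.center G)) = ⊤ := by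
          apply hKco.2
          apply lt_of_le_of_ne le_sup_left
          intro e
          apply hHK
          intro xb hxb
          obtain ⟨x, rfl⟩ := hπ xb
          have : x ∈ Kb.comap (QuotientGroup.mk' (Subgroup.center G)) := by
            rw [e]
            exact Subgroup.mem_sup_right (Subgroup.mem_comap.mpr hxb)
          exact this
        constructor
        intro l hl g
        obtain ⟨hlH, hlK⟩ := Subgroup.mem_inf.mp hl
        have hg : g ∈ ((Kb.comap (QuotientGroup.mk' (Subgroup.center G)) ⊔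
            H.comap (QuotientGroup.mk' (Subgroup.center G)) : Subgroup G) : Set G) := by
          rw [hsup]
          trivial
        rw [Subgroup.normal_mul] at hg
        obtain ⟨k, hk, h', hh', rfl⟩ := hg
        have h1 : h' * l * h'⁻¹ ∈ Kb.comap (QuotientGroup.mk' (Subgroup.center G)) :=
          hKn.conj_mem l hlK h'
        have h2 : h' * l * h'⁻¹ ∈ H.comap (QuotientGroup.mk' (Subgroup.center G)) :=
          Subgroup.mul_mem _ (Subgroup.mul_mem _ hh' hlH) (Subgroup.inv_mem _ hh')
        have e : k * h' * l * (k * h')⁻¹ = h' * l * h'⁻¹ := by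
          have e1 : k * h' * l * (k * h')⁻¹ = (k * (h' * l * h'⁻¹)) * k⁻¹ := by group
          rw [e1, hKab k hk _ h1, mul_inv_cancel_right]
        rw [e]
        exact Subgroup.mem_inf.mpr ⟨h2, h1⟩
      have hHKZ : ∀ x : G, x ∈ H.comap (QuotientGroup.mk' (Subgroup.center G)) →
          x ∈ Kb.comap (QuotientGroup.mk' (Subgroup.center G)) → x ∈ Subgroup.center G := by
        intro x hxH hxK
        by_contra hxZ
        have hZH : Subgroup.center G ≤ H.comap (QuotientGroup.mk' (Subgroup.center G)) := by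
          intro z hz
          rw [Subgroup.mem_comap, (hπ1 z).mpr hz]
          exact Subgroup.one_mem _
        have h1 := hKmin _ hHn (le_inf hZH hZK) inf_le_right
          ⟨x, Subgroup.mem_inf.mpr ⟨hxH, hxK⟩, hxZ⟩
        have h2 : Kb.comap (QuotientGroup.mk' (Subgroup.center G)) ≤
            H.comap (QuotientGroup.mk' (Subgroup.center G)) := le_trans h1 inf_le_left
        rcases hKco.le_iff.mp h2 with h3 | h3
        · apply hH
          rw [eq_top_iff]
          intro xb _
          obtain ⟨x', rfl⟩ := hπ xb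
          have : x' ∈ H.comap (QuotientGroup.mk' (Subgroup.center G)) := by
            rw [h3]
            trivial
          exact this
        · apply hHK
          intro xb hxb
          obtain ⟨x', rfl⟩ := hπ xb
          have : x' ∈ Kb.comap (QuotientGroup.mk' (Subgroup.center G)) := by
            rw [← h3]
            exact Subgroup.mem_comap.mpr hxb
          exact this
      refine ⟨⟨fun x y => Subtype.ext ?_⟩⟩
      obtain ⟨x', hx'⟩ := hπ (x : G ⧸ Subgroup.center G)
      obtain ⟨y', hy'⟩ := hπ (y : G ⧸ Subgroup.center G)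
      have hx'H : x' ∈ H.comap (QuotientGroup.mk' (Subgroup.center G)) := by
        rw [Subgroup.mem_comap, hx']
        exact x.2
      have hy'H : y' ∈ H.comap (QuotientGroup.mk' (Subgroup.center G)) := by
        rw [Subgroup.mem_comap, hy']
        exact y.2
      have hcH : x' * y' * x'⁻¹ * y'⁻¹ ∈ H.comap (QuotientGroup.mk' (Subgroup.center G)) :=
        Subgroup.mul_mem _ (Subgroup.mul_mem _ (Subgroup.mul_mem _ hx'H hy'H)
          (Subgroup.inv_mem _ hx'H)) (Subgroup.inv_mem _ hy'H)
      have hcZ := hHKZ _ hcH (hcommK x' y')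
      have h1 : QuotientGroup.mk' (Subgroup.center G) (x' * y' * x'⁻¹ * y'⁻¹) = 1 :=
        (hπ1 _).mpr hcZ
      rw [map_mul, map_mul, map_mul, map_inv, map_inv, hx', hy'] at h1
      show (x : G ⧸ Subgroup.center G) * (y : G ⧸ Subgroup.center G) =
        (y : G ⧸ Subgroup.center G) * (x : G ⧸ Subgroup.center G)
      exact mul_inv_eq_iff_eq_mul.mp (mul_inv_eq_one.mp h1)
  · -- subgroups of order `p ^ n` are normal
    intro P hP
    have hPK : P ≤ Kb := by
      intro xb hxb
      obtain ⟨x, rfl⟩ := hπ xb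
      have h1 : (QuotientGroup.mk' (Subgroup.center G) x) ^ p ^ n = 1 := by
        have := pow_card_eq_one' (G := ↥P) (x := ⟨_, hxb⟩)
        rw [hP] at this
        exact congrArg Subtype.val this
      have hxpn : x ^ p ^ n ∈ Kb.comap (QuotientGroup.mk' (Subgroup.center G)) := by
        apply hZK
        rw [← hπ1, map_pow]
        exact h1
      obtain ⟨k, hk, i, hx⟩ := hgen x
      have e1 : ((k : G) : G ⧸ Kb.comap (QuotientGroup.mk' (Subgroup.center G))) = 1 :=
        (QuotientGroup.eq_one_iff _).mpr hk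
      have e2 : ((x : G) : G ⧸ Kb.comap (QuotientGroup.mk' (Subgroup.center G))) =
          (((a ^ j : G) : G ⧸ Kb.comap (QuotientGroup.mk' (Subgroup.center G)))) ^ i := by
        rw [hx, QuotientGroup.mk_mul, e1, one_mul, QuotientGroup.mk_zpow]
      have e3 : (((a ^ j : G) : G ⧸ Kb.comap (QuotientGroup.mk' (Subgroup.center G)))) ^ q = 1 := by
        rw [← QuotientGroup.mk_pow]
        exact (QuotientGroup.eq_one_iff _).mpr (hZK hyq)
      have e4 : ((x : G) : G ⧸ Kb.comap (QuotientGroup.mk' (Subgroup.center G))) ^ q = 1 := by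
        rw [e2, ← zpow_natCast, ← zpow_mul, mul_comm, zpow_mul, zpow_natCast, e3, one_zpow]
      have e5 : ((x : G) : G ⧸ Kb.comap (QuotientGroup.mk' (Subgroup.center G))) ^ p ^ n = 1 := by
        rw [← QuotientGroup.mk_pow]
        exact (QuotientGroup.eq_one_iff _).mpr hxpn
      have h2 : orderOf ((x : G) : G ⧸ Kb.comap (QuotientGroup.mk' (Subgroup.center G))) ∣
          Nat.gcd (p ^ n) q :=
        Nat.dvd_gcd (orderOf_dvd_of_pow_eq_one e5) (orderOf_dvd_of_pow_eq_one e4)
      have h3 : Nat.gcd (p ^ n) q = 1 :=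
        Nat.Coprime.pow_left n ((Nat.coprime_primes hp hq).mpr hpq)
      rw [h3] at h2
      have h4 := orderOf_eq_one_iff.mp (Nat.dvd_one.mp h2)
      exact (QuotientGroup.eq_one_iff x).mp h4
    have hPeq : P = Kb := Subgroup.eq_of_le_of_card_ge hPK (by rw [hP, hn])
    rw [hPeq]
    exact hKbn

/-- **Main theorem.** If every non-central element has a maximal centralizer, then `G/Z(G)` is
elementary abelian or minimal non-abelian of order `p ^ n * q` with a normal Sylow `p`-subgroup. -/
theorem cm_group_structure [Finite G] (h : ∀ x : G, x ∉ Subgroup.center G →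
    IsCoatom (Subgroup.centralizer ({x} : Set G))) :
    (∃ p : ℕ, p.Prime ∧ Cfsg.IsElementaryAbelian p (⊤ : Subgroup (G ⧸ Subgroup.center G))) ∨
    (¬ IsMulCommutative (G ⧸ Subgroup.center G) ∧
      (∀ H : Subgroup (G ⧸ Subgroup.center G), H ≠ ⊤ → IsMulCommutative ↥H) ∧
      ∃ p q n : ℕ, p.Prime ∧ q.Prime ∧ p ≠ q ∧ Nat.card (G ⧸ Subgroup.center G) = p ^ n * q ∧
        ∀ P : Subgroup (G ⧸ Subgroup.center G), Nat.card ↥P = p ^ n → P.Normal) := by
  have hπ : Function.Surjective (QuotientGroup.mk' (Subgroup.center G)) :=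
    QuotientGroup.mk'_surjective _
  by_cases hall_n : ∀ x : G, x ∉ Subgroup.center G →
      (Subgroup.centralizer ({x} : Set G)).Normal
  · left
    obtain ⟨p, hp, hcomm, hpow⟩ := exists_prime_of_normal_centralizers h hall_n
    refine ⟨p, hp, ⟨⟨fun x y => Subtype.ext ?_⟩⟩, ?_⟩
    · obtain ⟨x', hx'⟩ := hπ (x : G ⧸ Subgroup.center G)
      obtain ⟨y', hy'⟩ := hπ (y : G ⧸ Subgroup.center G)
      have h1 : QuotientGroup.mk' (Subgroup.center G) (x' * y' * x'⁻¹ * y'⁻¹) = 1 :=
        (QuotientGroup.eq_one_iff _).mpr (hcomm x' y')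
      rw [map_mul, map_mul, map_mul, map_inv, map_inv, hx', hy'] at h1
      show (x : G ⧸ Subgroup.center G) * (y : G ⧸ Subgroup.center G) =
        (y : G ⧸ Subgroup.center G) * (x : G ⧸ Subgroup.center G)
      exact mul_inv_eq_iff_eq_mul.mp (mul_inv_eq_one.mp h1)
    · intro a _
      obtain ⟨a', rfl⟩ := hπ a
      rw [← map_pow]
      exact (QuotientGroup.eq_one_iff _).mpr (hpow a')
  · push Not at hall_n
    obtain ⟨a₀, ha₀, hnn⟩ := hall_n
    by_cases hab : ∃ a : G, a ∉ Subgroup.center G ∧
        ¬ (Subgroup.centralizer ({a} : Set G)).Normal ∧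
        ∀ u ∈ Subgroup.centralizer ({a} : Set G), ∀ v ∈ Subgroup.centralizer ({a} : Set G),
          u * v = v * u
    · right
      obtain ⟨a, ha, hnn', hab'⟩ := hab
      exact minimalNonabelian_of_abelian_nonnormal h ha hnn' hab'
    · exfalso
      push Not at hab
      exact false_of_nonabelian_nonnormal h hab ha₀ hnn

end CM

end Cfsg.Agent.H68
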