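import Mathlib
import Cfsg.Agent.H68.LsDefs

/-!
# S2343 team project (helper68): the abstract trace-sum argument

`abs : StProj → StAbs`: a finite simple group with subgroups `Z ≤ A` (`A` commutative, `|Z| = q`,
`|A| = q²`, `q ≡ 3 mod 8`), `Z ∖ 1` a single class, `a z ∼ a` for `a ∈ A ∖ Z`, an involution `J`
inverting `Z`, one class of involutions and an elementary abelian subgroup of order `8` has no
non-trivial irreducible complex representation of degree `< q² - q + 1`.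
-/

set_option autoImplicit false

namespace Cfsg.Agent.H68.Ls

universe u

/-- the character of a representation on `Fin k → ℂ` -/
noncomputable def tr {G : Type u} [Group G] {k : ℕ} (ρ : Representation ℂ G (Fin k → ℂ)) (g : G) :
    ℂ :=
  LinearMap.trace ℂ (Fin k → ℂ) (ρ g)

theorem tr_conj {G : Type u} [Group G] {k : ℕ} (ρ : Representation ℂ G (Fin k → ℂ)) (g x : G) :
    tr ρ (g * x * g⁻¹) = tr ρ x := by
  unfold tr
  rw [map_mul ρ (g * x) g⁻¹, map_mul ρ g x, LinearMap.trace_mul_comm, ← mul_assoc, ← map_mul ρ,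
    inv_mul_cancel, map_one, one_mul]

theorem tr_one {G : Type u} [Group G] {k : ℕ} (ρ : Representation ℂ G (Fin k → ℂ)) :
    tr ρ 1 = (k : ℂ) := by
  unfold tr
  rw [map_one, LinearMap.trace_one, Module.finrank_fin_fun]

/-- characters of a finite commutative group separate the elements from `1` -/
theorem exists_char (B : Type u) [Group B] [Finite B] (hc : ∀ a b : B, a * b = b * a) (z : B)
    (hz : z ≠ 1) : ∃ μ : B →* ℂˣ, μ z ≠ 1 := by
  letI : CommGroup B := { (inferInstance : Group B) with mul_comm := hc }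
  haveI : NeZero (Monoid.exponent B) := ⟨Monoid.exponent_ne_zero_of_finite⟩
  exact CommGroup.exists_apply_ne_one_of_hasEnoughRootsOfUnity B ℂ hz

/-- an irreducible representation on which the group acts trivially has degree at most one
(after helper8's `finrank_le_one_of_trivial`) -/
theorem le_one_of_trivial {G : Type u} [Group G] {k : ℕ} (ρ : Representation ℂ G (Fin k → ℂ))
    (hall : ∀ g, ρ g = 1) (hirr : ρ.IsIrreducible) : k ≤ 1 := by
  by_contra hlt
  have hk : 1 < Module.finrank ℂ (Fin k → ℂ) := by rw [Module.finrank_fin_fun]; omega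
  have hnt : Nontrivial (Fin k → ℂ) := Module.nontrivial_of_finrank_pos (R := ℂ) (by omega)
  obtain ⟨v, hv⟩ := exists_ne (0 : Fin k → ℂ)
  have hL : ∀ (g : G) ⦃w : Fin k → ℂ⦄, w ∈ Submodule.span ℂ {v} →
      ρ g w ∈ Submodule.span ℂ {v} := by
    intro g w hw
    rw [hall g]; exact hw
  rcases hirr.eq_bot_or_eq_top (⟨Submodule.span ℂ {v}, hL⟩ : Subrepresentation ρ) with h | h
  · have h4 := congrArg Subrepresentation.toSubmodule h
    have h5 : Submodule.span ℂ {v} = ⊥ := h4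
    rw [Submodule.span_singleton_eq_bot] at h5
    exact hv h5
  · have h4 := congrArg Subrepresentation.toSubmodule h
    have h5 : Submodule.span ℂ {v} = ⊤ := h4
    have h6 := finrank_span_singleton (K := ℂ) hv
    rw [h5, finrank_top] at h6
    omega

/-- LS-ABS from LS-PROJ -/
theorem abs (hP : StProj.{u}) : StAbs.{u} := by
  intro G _ _ _ q hq Z A J hZA hZ hA hAc hZc hAcj hJ1 hJ2 hJz hinv E hE hE2 k ρ hirr hk
  classical
  have : Fintype ↥Z := Fintype.ofFinite _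
  have : Fintype ↥A := Fintype.ofFinite _
  have : Fintype ↥E := Fintype.ofFinite _
  have hq3 : 3 ≤ q := by omega
  have hqC : (q : ℂ) ≠ 0 := by exact_mod_cast (by omega : q ≠ 0)
  have hcZ : Fintype.card ↥Z = q := by rw [← Nat.card_eq_fintype_card]; exact hZ
  have hcA : Fintype.card ↥A = q * q := by rw [← Nat.card_eq_fintype_card]; exact hA
  have hcE : Fintype.card ↥E = 8 := by rw [← Nat.card_eq_fintype_card]; exact hE
  -- a non-trivial element of `Z`
  obtain ⟨z₀, hz₀Z, hz₀1⟩ : ∃ z₀ : G, z₀ ∈ Z ∧ z₀ ≠ 1 := by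
    have h1 : 1 < Fintype.card ↥Z := by rw [hcZ]; omega
    obtain ⟨x, hx⟩ := Fintype.exists_ne_of_one_lt_card h1 (1 : ↥Z)
    exact ⟨x, x.2, fun h => hx (Subtype.ext h)⟩
  obtain ⟨c, hc⟩ : ∃ c : ℂ, c = tr ρ z₀ := ⟨_, rfl⟩
  have hTZ : ∀ z ∈ Z, z ≠ 1 → tr ρ z = c := by
    intro z hz hz1
    obtain ⟨g, hg⟩ := hZc z₀ hz₀Z hz₀1 z hz hz1
    rw [← hg, tr_conj, hc]
  have hTZ' : ∀ z : ↥Z, tr ρ (z : G) = c + (if z = 1 then (k : ℂ) - c else 0) := by
    intro z
    by_cases h : z = 1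
    · rw [if_pos h, h, Subgroup.coe_one, tr_one]; ring
    · rw [if_neg h, add_zero]
      exact hTZ z z.2 (fun h' => h (Subtype.ext h'))
  -- the fixed points of `Z`
  obtain ⟨n₀, hn₀, hn₀z, hn₀k⟩ := hP ↥Z k (ρ.comp Z.subtype) 1
  have hsumZ : ∑ z : ↥Z, tr ρ (z : G) = (q : ℂ) * c + ((k : ℂ) - c) := by
    rw [Finset.sum_congr rfl (fun z _ => hTZ' z), Finset.sum_add_distrib, Finset.sum_const,
      Finset.card_univ, hcZ]
    simp
  have e0 : (q : ℂ) * c + ((k : ℂ) - c) = (q : ℂ) * (n₀ : ℂ) := by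
    rw [← hsumZ, ← hcZ, ← hn₀]
    apply Finset.sum_congr rfl
    intro z _
    simp [tr]
  -- a character of `A`, non-trivial on `Z`
  obtain ⟨μ, hμ⟩ := exists_char ↥A (fun a b => Subtype.ext (hAc a a.2 b b.2)) ⟨z₀, hZA hz₀Z⟩
    (fun h => hz₀1 (congrArg Subtype.val h))
  obtain ⟨n₁, hn₁, -, -⟩ := hP ↥A k (ρ.comp A.subtype) μ
  obtain ⟨Z', hZ'⟩ : ∃ Z' : Subgroup ↥A, Z' = Z.subgroupOf A := ⟨_, rfl⟩
  have hmemZ' : ∀ a : ↥A, a ∈ Z' ↔ (a : G) ∈ Z := by
    intro a; rw [hZ']; exact Subgroup.mem_subgroupOf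
  have : Fintype ↥Z' := Fintype.ofFinite _
  have hcZ' : Fintype.card ↥Z' = q := by
    rw [← Nat.card_eq_fintype_card, ← hZ, hZ']
    exact Nat.card_congr (Subgroup.subgroupOfEquivOfLe hZA).toEquiv
  obtain ⟨F, hF⟩ : ∃ F : ↥A → ℂ, F = fun a => ((μ a : ℂˣ) : ℂ)⁻¹ * tr ρ (a : G) := ⟨_, rfl⟩
  have hμsum : ∑ z : ↥Z', ((μ (z : ↥A) : ℂˣ) : ℂ)⁻¹ = 0 := by
    have h0 := sum_hom_units_eq_zero ((Units.coeHom ℂ).comp ((μ.comp Z'.subtype)⁻¹)) (by
      intro h
      have h1 := DFunLike.congr_fun h ⟨⟨z₀, hZA hz₀Z⟩, (hmemZ' _).2 hz₀Z⟩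
      simp at h1
      exact hμ h1)
    simpa using h0
  have hout : ∀ a : ↥A, a ∉ Z' → ∑ z : ↥Z', F (a * (z : ↥A)) = 0 := by
    intro a ha
    have h1 : ∀ z : ↥Z', F (a * (z : ↥A)) =
        (((μ a : ℂˣ) : ℂ)⁻¹ * tr ρ (a : G)) * ((μ (z : ↥A) : ℂˣ) : ℂ)⁻¹ := by
      intro z
      have hzZ : ((z : ↥A) : G) ∈ Z := (hmemZ' _).1 z.2
      have haZ : (a : G) ∉ Z := fun h => ha ((hmemZ' _).2 h)
      obtain ⟨g, hg⟩ := hAcj a a.2 haZ _ hzZ
      have h2 : tr ρ ((a * (z : ↥A) : ↥A) : G) = tr ρ (a : G) := by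
        rw [Subgroup.coe_mul, ← hg, tr_conj]
      rw [hF]
      simp only [h2, map_mul, Units.val_mul, mul_inv]
      ring
    rw [Finset.sum_congr rfl (fun z _ => h1 z), ← Finset.mul_sum, hμsum, mul_zero]
  have hin : ∀ a : ↥A, a ∈ Z' → ∑ z : ↥Z', F (a * (z : ↥A)) = ∑ z : ↥Z', F (z : ↥A) := by
    intro a ha
    exact Fintype.sum_equiv (Equiv.mulLeft (⟨a, ha⟩ : ↥Z')) _ _ (fun z => rfl)
  have hshift : ∀ z : ↥Z', ∑ a : ↥A, F (a * (z : ↥A)) = ∑ a : ↥A, F a := by
    intro z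
    exact Fintype.sum_equiv (Equiv.mulRight (z : ↥A)) _ _ (fun a => rfl)
  have hfc : (Finset.univ.filter (fun a : ↥A => a ∈ Z')).card = q := by
    rw [← hcZ', ← Fintype.card_subtype]
  have hdouble : (q : ℂ) * ∑ a : ↥A, F a = (q : ℂ) * ∑ z : ↥Z', F (z : ↥A) := by
    calc (q : ℂ) * ∑ a : ↥A, F a = ∑ z : ↥Z', ∑ a : ↥A, F (a * (z : ↥A)) := by
          rw [Finset.sum_congr rfl (fun z _ => hshift z), Finset.sum_const, Finset.card_univ, hcZ',
            nsmul_eq_mul]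
      _ = ∑ a : ↥A, ∑ z : ↥Z', F (a * (z : ↥A)) := Finset.sum_comm
      _ = ∑ a : ↥A, (if a ∈ Z' then ∑ z : ↥Z', F (z : ↥A) else 0) := by
          apply Finset.sum_congr rfl
          intro a _
          by_cases ha : a ∈ Z'
          · rw [if_pos ha, hin a ha]
          · rw [if_neg ha, hout a ha]
      _ = (q : ℂ) * ∑ z : ↥Z', F (z : ↥A) := by
          rw [← Finset.sum_filter, Finset.sum_const, nsmul_eq_mul, hfc]
  have hS' : ∑ z : ↥Z', F (z : ↥A) = (k : ℂ) - c := by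
    have h1 : ∀ z : ↥Z', F (z : ↥A) =
        c * ((μ (z : ↥A) : ℂˣ) : ℂ)⁻¹ + (if z = 1 then (k : ℂ) - c else 0) := by
      intro z
      by_cases h : z = 1
      · rw [if_pos h, h, hF]
        simp only [Subgroup.coe_one, map_one, Units.val_one, inv_one, one_mul, mul_one, tr_one]
        ring
      · rw [if_neg h, add_zero, hF]
        have hzZ : ((z : ↥A) : G) ∈ Z := (hmemZ' _).1 z.2
        have hz1 : ((z : ↥A) : G) ≠ 1 := fun h' => h (Subtype.ext (Subtype.ext h'))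
        simp only []
        rw [hTZ _ hzZ hz1]; ring
    rw [Finset.sum_congr rfl (fun z _ => h1 z), Finset.sum_add_distrib, ← Finset.mul_sum, hμsum]
    simp
  have e1 : (k : ℂ) - c = (q : ℂ) * q * (n₁ : ℂ) := by
    have h1 : ∑ a : ↥A, F a = (k : ℂ) - c := by
      rw [← hS']; exact mul_left_cancel₀ hqC hdouble
    rw [← h1]
    have h2 : ((Fintype.card ↥A : ℕ) : ℂ) = (q : ℂ) * q := by rw [hcA]; push_cast; ring
    rw [← h2, ← hn₁, hF]
    apply Finset.sum_congr rfl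
    intro a _
    simp [tr]
  have e2 : (k : ℂ) = (n₀ : ℂ) + ((q : ℂ) - 1) * q * n₁ := by
    have hc' : c = (k : ℂ) - (q : ℂ) * q * n₁ := by linear_combination -e1
    have h1 : (q : ℂ) * (k : ℂ) = (q : ℂ) * ((n₀ : ℂ) + ((q : ℂ) - 1) * q * n₁) := by
      rw [hc'] at e0; linear_combination e0
    exact mul_left_cancel₀ hqC h1
  have e3 : k = n₀ + (q - 1) * q * n₁ := by
    have h1 : ((k : ℕ) : ℂ) = ((n₀ + (q - 1) * q * n₁ : ℕ) : ℂ) := by
      rw [e2]; push_cast [Nat.cast_sub (by omega : 1 ≤ q)]; ring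
    exact_mod_cast h1
  -- `Z` does not act trivially
  have hn₁ne : n₁ ≠ 0 := by
    intro h0
    have hk0 : n₀ = k := by rw [e3, h0]; simp
    have hZt : ∀ z : ↥Z, ρ (z : G) = 1 := by
      intro z
      have h1 := hn₀k hk0 z
      simpa using h1
    have hker : MonoidHom.ker ρ = ⊤ := by
      rcases (MonoidHom.normal_ker ρ).eq_bot_or_eq_top with h | h
      · exfalso
        have h3 : z₀ ∈ MonoidHom.ker ρ := MonoidHom.mem_ker.2 (hZt ⟨z₀, hz₀Z⟩)
        rw [h] at h3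
        exact hz₀1 (Subgroup.mem_bot.1 h3)
      · exact h
    have hall : ∀ g, ρ g = 1 := fun g => MonoidHom.mem_ker.1 (by rw [hker]; trivial)
    have h9 := le_one_of_trivial ρ hall hirr
    omega
  by_contra hlt
  have hqq : (q - 1) * q = q ^ 2 - q := by
    rw [Nat.sub_mul, one_mul, sq]
  rw [← hqq] at hlt
  have hpos : 0 < (q - 1) * q := Nat.mul_pos (by omega) (by omega)
  have hn₁1 : n₁ = 1 := by
    by_contra h
    have h2 : 2 ≤ n₁ := by omega
    have h3 : (q - 1) * q * 2 ≤ (q - 1) * q * n₁ := Nat.mul_le_mul_left _ h2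
    omega
  have hn₀0 : n₀ = 0 := by
    rw [hn₁1, mul_one] at e3; omega
  have hkq : k = (q - 1) * q := by rw [e3, hn₀0, hn₁1]; ring
  -- the involution `J` has trace `0`
  have hS0 : ∑ z : ↥Z, ρ (z : G) = 0 := by
    have h1 := hn₀z hn₀0
    simpa using h1
  have hTJ : tr ρ J = 0 := by
    have h1 : ∀ z : ↥Z, tr ρ ((z : G) * J) = tr ρ J := by
      intro z
      obtain ⟨w, hw⟩ : ∃ w : G, w = (z : G) ^ ((q + 1) / 2) := ⟨_, rfl⟩
      have hwZ : w ∈ Z := by rw [hw]; exact Z.pow_mem z.2 _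
      have hzq : (z : G) ^ q = 1 := by
        have h2 := pow_card_eq_one' (G := ↥Z) (x := z)
        rw [hZ] at h2
        have h3 := congrArg Subtype.val h2
        simpa using h3
      have hww : w * w = (z : G) := by
        rw [hw, ← pow_add, show (q + 1) / 2 + (q + 1) / 2 = q + 1 by omega, pow_succ, hzq,
          one_mul]
      have hJw : J * w⁻¹ = w * J := by
        have h2 := hJz w hwZ
        have h3 : J * w⁻¹ * J⁻¹ = w := by
          rw [← inv_inj]
          simp only [mul_inv_rev, inv_inv]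
          rw [← mul_assoc]; exact h2
        calc J * w⁻¹ = J * w⁻¹ * J⁻¹ * J := by group
          _ = w * J := by rw [h3]
      have h4 : (z : G) * J = w * J * w⁻¹ := by
        rw [mul_assoc w J, hJw, ← mul_assoc, hww]
      rw [h4, tr_conj]
    have h2 : ∑ z : ↥Z, tr ρ ((z : G) * J) = 0 := by
      have h3 : ∑ z : ↥Z, tr ρ ((z : G) * J) =
          LinearMap.trace ℂ (Fin k → ℂ) ((∑ z : ↥Z, ρ (z : G)) * ρ J) := by
        rw [Finset.sum_mul, map_sum]
        apply Finset.sum_congr rfl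
        intro z _
        rw [tr, map_mul]
      rw [h3, hS0, zero_mul, map_zero]
    rw [Finset.sum_congr rfl (fun z _ => h1 z), Finset.sum_const, Finset.card_univ, hcZ,
      nsmul_eq_mul] at h2
    exact (mul_eq_zero.1 h2).resolve_left hqC
  -- the Sylow 2-subgroup
  have hTE : ∀ e : ↥E, tr ρ (e : G) = if e = 1 then (k : ℂ) else 0 := by
    intro e
    by_cases h : e = 1
    · rw [if_pos h, h, Subgroup.coe_one, tr_one]
    · rw [if_neg h]
      have he1 : (e : G) ≠ 1 := fun h' => h (Subtype.ext h')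
      obtain ⟨g, hg⟩ := hinv J e hJ1 hJ2 he1 (hE2 e e.2)
      rw [← hg, tr_conj, hTJ]
  obtain ⟨n₂, hn₂, -, -⟩ := hP ↥E k (ρ.comp E.subtype) 1
  have e4 : (k : ℂ) = 8 * (n₂ : ℂ) := by
    have h1 : ∑ e : ↥E, tr ρ (e : G) = (k : ℂ) := by
      rw [Finset.sum_congr rfl (fun e _ => hTE e)]; simp
    rw [← h1]
    have h2 : ((Fintype.card ↥E : ℕ) : ℂ) = 8 := by rw [hcE]; norm_num
    rw [← h2, ← hn₂]
    apply Finset.sum_congr rfl
    intro e _
    simp [tr]
  have e5 : k = 8 * n₂ := by exact_mod_cast e4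
  have h6 : (q - 1) * q % 8 = 6 := by
    have h1 : (q - 1) % 8 = 2 := by omega
    rw [Nat.mul_mod, h1, hq]
  omega

end Cfsg.Agent.H68.Ls
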