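import Mathlib
import Cfsg.Agent.H68.NilCover

set_option autoImplicit false

/-!
# Nilpotent subgroups of groups between `PSL_n(F)` and `PGL_n(F)` (helper68)

General tools: lifts to `GL`, the action on projective space, fixed lines of `p`-subgroups,
and the fact that the lifts of a nilpotent subgroup containing a `p`-element with a unique fixed
line preserve that line.
-/

open scoped LinearAlgebra.Projectivization

namespace Cfsg.Agent.H68

variable {F : Type*} [Field F] {n : ℕ}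

/-- Two lifts of the same element of `PGL` differ by a nonzero scalar. -/
theorem pgl_mk_eq_iff {g g' : GL (Fin n) F} :
    (QuotientGroup.mk' (Subgroup.center (GL (Fin n) F)) g =
      QuotientGroup.mk' (Subgroup.center (GL (Fin n) F)) g') ↔
      ∃ c : F, c ≠ 0 ∧ g'.val = c • g.val := by
  have h := Matrix.ProjGenLinGroup.mk_eq_mk_iff (g₁ := g) (g₂ := g')
  constructor
  · intro hh
    obtain ⟨u, hu⟩ := h.mp hh
    refine ⟨u, u.ne_zero, ?_⟩
    rw [← hu]
    ext i j
    simp [Matrix.GeneralLinearGroup.scalar, Matrix.mul_apply, Matrix.diagonal_apply, mul_comm]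
  · rintro ⟨c, hc, hcg⟩
    refine h.mpr ⟨Units.mk0 c hc, ?_⟩
    apply Units.ext
    rw [hcg]
    ext i j
    simp [Matrix.GeneralLinearGroup.scalar, Matrix.mul_apply, Matrix.diagonal_apply, mul_comm]

theorem gl_mulVec_ne_zero (g : GL (Fin n) F) {v : Fin n → F} (hv : v ≠ 0) :
    g.val.mulVec v ≠ 0 := by
  intro h
  apply hv
  have h1 : (g⁻¹).val.mulVec (g.val.mulVec v) = v := by
    rw [Matrix.mulVec_mulVec, ← Units.val_mul, inv_mul_cancel, Units.val_one, Matrix.one_mulVec]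
  rw [← h1, h, Matrix.mulVec_zero]

theorem gl_inv_mulVec (g : GL (Fin n) F) (v : Fin n → F) :
    (g⁻¹).val.mulVec (g.val.mulVec v) = v := by
  rw [Matrix.mulVec_mulVec, ← Units.val_mul, inv_mul_cancel, Units.val_one, Matrix.one_mulVec]

theorem gl_mulVec_inv (g : GL (Fin n) F) (v : Fin n → F) :
    g.val.mulVec ((g⁻¹).val.mulVec v) = v := by
  rw [Matrix.mulVec_mulVec, ← Units.val_mul, mul_inv_cancel, Units.val_one, Matrix.one_mulVec]

theorem gl_pow_mulVec_eigen (g : GL (Fin n) F) {v : Fin n → F} {c : F}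
    (h : g.val.mulVec v = c • v) (m : ℕ) : (g ^ m).val.mulVec v = c ^ m • v := by
  induction m with
  | zero => simp
  | succ m ih =>
    rw [pow_succ, Units.val_mul, ← Matrix.mulVec_mulVec, h, Matrix.mulVec_smul, ih, smul_smul,
      pow_succ, mul_comm]

theorem eq_one_of_pow_char_pow_eq_one {p : ℕ} [Fact p.Prime] [CharP F p] {c : F} {k : ℕ}
    (h : c ^ p ^ k = 1) : c = 1 := by
  have h1 : (c - 1) ^ p ^ k = 0 := by
    rw [sub_pow_char_pow, h, one_pow, sub_self]
  exact sub_eq_zero.mp (pow_eq_zero_iff (pow_ne_zero _ (Fact.out : p.Prime).ne_zero) |>.mp h1)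

/-- An eigenvalue of a `p`-element in characteristic `p` is `1`. -/
theorem eigen_eq_one_of_pow_eq_one {p : ℕ} [Fact p.Prime] [CharP F p] {g : GL (Fin n) F} {k : ℕ}
    (hg : g ^ p ^ k = 1) {v : Fin n → F} (hv : v ≠ 0) {c : F} (h : g.val.mulVec v = c • v) :
    c = 1 := by
  have h1 := gl_pow_mulVec_eigen g h (p ^ k)
  rw [hg, Units.val_one, Matrix.one_mulVec] at h1
  have h2 : (1 - c ^ p ^ k) • v = 0 := by rw [sub_smul, one_smul, ← h1, sub_self]
  rcases smul_eq_zero.mp h2 with h3 | h3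
  · exact eq_one_of_pow_char_pow_eq_one (p := p) (k := k) (sub_eq_zero.mp h3).symm
  · exact absurd h3 hv

/-- The action of `GL` on projective space, as a homomorphism to permutations. -/
noncomputable def glProj (F : Type*) [Field F] (n : ℕ) :
    GL (Fin n) F →* Equiv.Perm (ℙ F (Fin n → F)) :=
  (MulAction.toPermHom (LinearMap.GeneralLinearGroup F (Fin n → F)) (ℙ F (Fin n → F))).comp
    (Matrix.GeneralLinearGroup.toLin (n := Fin n) (R := F)).toMonoidHom

theorem glProj_mk (g : GL (Fin n) F) (v : Fin n → F) (hv : v ≠ 0) :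
    glProj F n g (Projectivization.mk F v hv) =
      Projectivization.mk F (g.val.mulVec v) (gl_mulVec_ne_zero g hv) := by
  rfl

theorem glProj_center : Subgroup.center (GL (Fin n) F) ≤ (glProj F n).ker := by
  intro g hg
  obtain ⟨a, ha⟩ := Matrix.GeneralLinearGroup.mem_center_iff_val_mem_range_scalar.mp hg
  rw [MonoidHom.mem_ker]
  ext x
  induction x using Projectivization.ind with
  | h v hv =>
    rw [glProj_mk]
    have hgv : g.val.mulVec v = a • v := by
      rw [← ha]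
      ext i
      simp [Matrix.mulVec, dotProduct, Matrix.diagonal_apply]
    simp only [Equiv.Perm.coe_one, id_eq]
    rw [Projectivization.mk_eq_mk_iff']
    exact ⟨a, hgv.symm⟩

/-- The action of `PGL` on projective space. -/
noncomputable def pglProj (F : Type*) [Field F] (n : ℕ) :
    GL (Fin n) F ⧸ Subgroup.center (GL (Fin n) F) →* Equiv.Perm (ℙ F (Fin n → F)) :=
  QuotientGroup.lift _ (glProj F n) glProj_center

theorem pglProj_mk (g : GL (Fin n) F) :
    pglProj F n (QuotientGroup.mk' (Subgroup.center (GL (Fin n) F)) g) = glProj F n g := rfl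

theorem not_dvd_card_proj [Fintype F] {p : ℕ} [Fact p.Prime] [CharP F p] (hn : n ≠ 0) :
    ¬ p ∣ Nat.card (ℙ F (Fin n → F)) := by
  intro h
  have h1 := Projectivization.card' F (Fin n → F)
  have h2 : Nat.card (Fin n → F) = Nat.card F ^ n := by
    rw [Nat.card_fun]; simp
  have h3 : p ∣ Nat.card F := by
    rw [Nat.card_eq_fintype_card]
    have : (Fintype.card F : F) = 0 := Nat.cast_card_eq_zero F
    exact (CharP.cast_eq_zero_iff F p _).mp this
  have h4 : p ∣ Nat.card (Fin n → F) := by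
    rw [h2]; exact dvd_pow h3 hn
  have h5 : p ∣ Nat.card (ℙ F (Fin n → F)) * (Nat.card F - 1) := Dvd.dvd.mul_right h _
  rw [h1] at h4
  have h6 : p ∣ 1 := (Nat.dvd_add_right h5).mp h4
  exact (Fact.out : p.Prime).one_lt.ne' (Nat.dvd_one.mp h6)

/-- A `p`-group mapping to `PGL_n(F)` (char `p`) fixes a line. -/
theorem exists_fixed_line [Fintype F] {p : ℕ} [Fact p.Prime] [CharP F p] (hn : n ≠ 0)
    {R : Type*} [Group R] (hR : IsPGroup p R)
    (ψ : R →* GL (Fin n) F ⧸ Subgroup.center (GL (Fin n) F)) :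
    ∃ v : Fin n → F, v ≠ 0 ∧ ∀ (r : R) (g : GL (Fin n) F),
      QuotientGroup.mk' (Subgroup.center (GL (Fin n) F)) g = ψ r →
        ∃ c : F, g.val.mulVec v = c • v := by
  let _ : MulAction R (ℙ F (Fin n → F)) := MulAction.compHom _ ((pglProj F n).comp ψ)
  obtain ⟨x, hx⟩ := hR.nonempty_fixed_point_of_prime_not_dvd_card (ℙ F (Fin n → F))
    (not_dvd_card_proj hn)
  induction x using Projectivization.ind with
  | h v hv =>
    refine ⟨v, hv, fun r g hg => ?_⟩
    have h1 : r • (Projectivization.mk F v hv) = Projectivization.mk F v hv := hx r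
    have h2 : r • (Projectivization.mk F v hv) =
        pglProj F n (ψ r) (Projectivization.mk F v hv) := rfl
    rw [h2, ← hg, pglProj_mk, glProj_mk, Projectivization.mk_eq_mk_iff'] at h1
    obtain ⟨a, ha⟩ := h1
    exact ⟨a, ha.symm⟩

/-- **Key lemma.** Let `A` be a nilpotent subgroup of `G ≤ PGL_n(F)` containing the image of a
`p`-element `u` whose fixed vectors form the line `F v₀`. Then every lift of every element of `A`
preserves the line `F v₀`. -/
theorem lifts_preserve_line [Fintype F] {p : ℕ} [Fact p.Prime] [CharP F p] (hn : n ≠ 0)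
    (G : Subgroup (GL (Fin n) F ⧸ Subgroup.center (GL (Fin n) F))) (A : Subgroup ↥G)
    [Group.IsNilpotent ↥A] (u : GL (Fin n) F) {k : ℕ} (hu : u ^ p ^ k = 1)
    (v₀ : Fin n → F)
    (hker : ∀ w : Fin n → F, u.val.mulVec w = w → ∃ c : F, w = c • v₀)
    (huA : ∃ y : ↥G, y ∈ A ∧
      (y : GL (Fin n) F ⧸ Subgroup.center (GL (Fin n) F)) =
        QuotientGroup.mk' (Subgroup.center (GL (Fin n) F)) u)
    (x : ↥G) (hx : x ∈ A) (g : GL (Fin n) F)
    (hg : QuotientGroup.mk' (Subgroup.center (GL (Fin n) F)) g =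
      (x : GL (Fin n) F ⧸ Subgroup.center (GL (Fin n) F))) :
    ∃ c : F, g.val.mulVec v₀ = c • v₀ := by
  obtain ⟨y, hyA, hy⟩ := huA
  have hyk : (⟨y, hyA⟩ : ↥A) ^ p ^ k = 1 := by
    apply Subtype.ext
    apply Subtype.ext
    show (y : GL (Fin n) F ⧸ Subgroup.center (GL (Fin n) F)) ^ p ^ k = 1
    rw [hy, ← map_pow, hu, map_one]
  obtain ⟨Q, hQ⟩ := (isPGroup_zpowers_of_pow_eq_one hyk).exists_le_sylow
  have hyQ : (⟨y, hyA⟩ : ↥A) ∈ (Q : Subgroup ↥A) := hQ (Subgroup.mem_zpowers _)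
  have hQn : (Q : Subgroup ↥A).Normal := inferInstance
  let ψ : ↥(Q : Subgroup ↥A) →* GL (Fin n) F ⧸ Subgroup.center (GL (Fin n) F) :=
    G.subtype.comp (A.subtype.comp (Q : Subgroup ↥A).subtype)
  obtain ⟨v, hv, hfix⟩ := exists_fixed_line (p := p) hn Q.isPGroup' ψ
  -- the fixed line is `F v₀`
  obtain ⟨c₁, hc₁⟩ := hfix ⟨⟨y, hyA⟩, hyQ⟩ u hy.symm
  have hc₁1 : c₁ = 1 := eigen_eq_one_of_pow_eq_one hu hv hc₁
  rw [hc₁1, one_smul] at hc₁
  obtain ⟨c₂, hc₂⟩ := hker v hc₁
  have hc₂0 : c₂ ≠ 0 := by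
    rintro rfl
    rw [zero_smul] at hc₂
    exact hv hc₂
  -- conjugate
  have hconj : (⟨x, hx⟩ : ↥A)⁻¹ * ⟨y, hyA⟩ * (⟨x, hx⟩ : ↥A)⁻¹⁻¹ ∈ (Q : Subgroup ↥A) :=
    hQn.conj_mem _ hyQ _
  obtain ⟨c₃, hc₃⟩ := hfix ⟨_, hconj⟩ (g⁻¹ * u * g) (by
    show QuotientGroup.mk' (Subgroup.center (GL (Fin n) F)) (g⁻¹ * u * g) =
      ((x : GL (Fin n) F ⧸ Subgroup.center (GL (Fin n) F)))⁻¹ * y *
        ((x : GL (Fin n) F ⧸ Subgroup.center (GL (Fin n) F)))⁻¹⁻¹
    rw [map_mul, map_mul, map_inv, hg, hy, inv_inv])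
  have hw : u.val.mulVec (g.val.mulVec v) = c₃ • g.val.mulVec v := by
    have h1 : g.val.mulVec ((g⁻¹ * u * g).val.mulVec v) = u.val.mulVec (g.val.mulVec v) := by
      rw [Units.val_mul, Units.val_mul, ← Matrix.mulVec_mulVec, ← Matrix.mulVec_mulVec,
        gl_mulVec_inv]
    rw [← h1, hc₃, Matrix.mulVec_smul]
  have hc₃1 : c₃ = 1 := eigen_eq_one_of_pow_eq_one hu (gl_mulVec_ne_zero g hv) hw
  rw [hc₃1, one_smul] at hw
  obtain ⟨c₄, hc₄⟩ := hker _ hw
  refine ⟨c₂⁻¹ * c₄, ?_⟩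
  have h5 : g.val.mulVec v = c₂ • g.val.mulVec v₀ := by rw [hc₂, Matrix.mulVec_smul]
  have h6 : g.val.mulVec v₀ = c₂⁻¹ • g.val.mulVec v := by
    rw [h5, smul_smul, inv_mul_cancel₀ hc₂0, one_smul]
  rw [h6, hc₄, smul_smul]

/-- In a finite nilpotent group, a `p`-element commutes with every `p'`-element. -/
theorem commute_of_coprime_of_nilpotent {H : Type*} [Group H] [Finite H] [Group.IsNilpotent H]
    {p : ℕ} [Fact p.Prime] {x : H} {k : ℕ} (hx : x ^ p ^ k = 1) {a : H}
    (ha : ¬ p ∣ orderOf a) : a * x = x * a := by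
  obtain ⟨Q, hQ⟩ := (isPGroup_zpowers_of_pow_eq_one hx).exists_le_sylow
  have hxQ : x ∈ (Q : Subgroup H) := hQ (Subgroup.mem_zpowers _)
  have hn0 : orderOf a ≠ 0 := (orderOf_pos a).ne'
  let C : Subgroup H := Subgroup.centralizer {x} ⊓ Subgroup.zpowers a
  have hCle : C ≤ Subgroup.zpowers a := inf_le_right
  have hdvd : orderOf a ∣ Nat.card C := by
    rw [Nat.dvd_iff_prime_pow_dvd_dvd]
    intro q j hq hqj
    have : Fact q.Prime := ⟨hq⟩
    have hb : orderOf (a ^ (orderOf a / q ^ j)) = q ^ j := orderOf_pow_orderOf_div hn0 hqj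
    have hbq : IsPGroup q (Subgroup.zpowers (a ^ (orderOf a / q ^ j))) := by
      apply isPGroup_zpowers_of_pow_eq_one (k := j)
      have := pow_orderOf_eq_one (a ^ (orderOf a / q ^ j))
      rwa [hb] at this
    obtain ⟨Q', hQ'⟩ := hbq.exists_le_sylow
    have hbQ' : a ^ (orderOf a / q ^ j) ∈ (Q' : Subgroup H) := hQ' (Subgroup.mem_zpowers _)
    have hbx : a ^ (orderOf a / q ^ j) * x = x * a ^ (orderOf a / q ^ j) := by
      by_cases hqp : q = p
      · subst hqp
        rcases Nat.eq_zero_or_pos j with hj | hj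
        · subst hj
          simp [pow_orderOf_eq_one]
        · exact absurd (dvd_trans (dvd_pow_self q hj.ne') hqj) ha
      · exact (Subgroup.commute_of_normal_of_disjoint (Q' : Subgroup H) (Q : Subgroup H)
          inferInstance inferInstance (IsPGroup.disjoint_of_ne q p hqp _ _ Q'.isPGroup' Q.isPGroup')
          _ _ hbQ' hxQ).eq
    have hbC : a ^ (orderOf a / q ^ j) ∈ C := by
      refine ⟨?_, Subgroup.pow_mem _ (Subgroup.mem_zpowers a) _⟩
      show a ^ (orderOf a / q ^ j) ∈ Subgroup.centralizer {x}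
      rw [Subgroup.mem_centralizer_iff]
      intro h hh
      rw [Set.mem_singleton_iff] at hh
      rw [hh]
      exact hbx.symm
    have := orderOf_dvd_natCard (⟨a ^ (orderOf a / q ^ j), hbC⟩ : C)
    rwa [Subgroup.orderOf_mk, hb] at this
  have hcard : Nat.card C = orderOf a := by
    apply Nat.dvd_antisymm _ hdvd
    rw [← Nat.card_zpowers a]
    exact Subgroup.card_dvd_of_le hCle
  have hCeq : C = Subgroup.zpowers a :=
    Subgroup.eq_of_le_of_card_ge hCle (by rw [hcard, Nat.card_zpowers])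
  have haC : a ∈ C := hCeq ▸ Subgroup.mem_zpowers a
  exact (Subgroup.mem_centralizer_iff.mp haC.1 x rfl).symm

/-- The stabilizer in `G ≤ PGL_n(F)` of the line `F v`. -/
def lineStab (G : Subgroup (GL (Fin n) F ⧸ Subgroup.center (GL (Fin n) F))) (v : Fin n → F) :
    Subgroup ↥G where
  carrier := {x | ∃ g : GL (Fin n) F, QuotientGroup.mk' (Subgroup.center (GL (Fin n) F)) g =
    (x : GL (Fin n) F ⧸ Subgroup.center (GL (Fin n) F)) ∧ ∃ c : F, g.val.mulVec v = c • v}
  mul_mem' := by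
    rintro x y ⟨g, hg, c, hc⟩ ⟨h, hh, d, hd⟩
    refine ⟨g * h, ?_, c * d, ?_⟩
    · rw [map_mul, hg, hh]; rfl
    · rw [Units.val_mul, ← Matrix.mulVec_mulVec, hd, Matrix.mulVec_smul, hc, smul_smul, mul_comm]
  one_mem' := ⟨1, by simp, 1, by simp⟩
  inv_mem' := by
    rintro x ⟨g, hg, c, hc⟩
    refine ⟨g⁻¹, ?_, c⁻¹, ?_⟩
    · rw [map_inv, hg]; rfl
    · by_cases hv : v = 0
      · subst hv; simp
      · have hc0 : c ≠ 0 := by
          rintro rfl
          rw [zero_smul] at hc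
          exact gl_mulVec_ne_zero g hv hc
        have h1 : (g⁻¹).val.mulVec (g.val.mulVec v) = v := gl_inv_mulVec g v
        rw [hc, Matrix.mulVec_smul] at h1
        calc (g⁻¹).val.mulVec v = c⁻¹ • (c • (g⁻¹).val.mulVec v) := by
              rw [smul_smul, inv_mul_cancel₀ hc0, one_smul]
          _ = c⁻¹ • v := by rw [h1]

theorem mem_lineStab_iff {G : Subgroup (GL (Fin n) F ⧸ Subgroup.center (GL (Fin n) F))}
    {v : Fin n → F} {x : ↥G} :
    x ∈ lineStab G v ↔ ∀ g : GL (Fin n) F,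
      QuotientGroup.mk' (Subgroup.center (GL (Fin n) F)) g =
        (x : GL (Fin n) F ⧸ Subgroup.center (GL (Fin n) F)) → ∃ c : F, g.val.mulVec v = c • v := by
  constructor
  · rintro ⟨g, hg, c, hc⟩ g' hg'
    obtain ⟨d, -, hd⟩ := pgl_mk_eq_iff.mp (hg.trans hg'.symm)
    refine ⟨d * c, ?_⟩
    rw [hd, Matrix.smul_mulVec, hc, smul_smul]
  · intro h
    obtain ⟨g, hg⟩ := QuotientGroup.mk'_surjective (Subgroup.center (GL (Fin n) F))
      (x : GL (Fin n) F ⧸ Subgroup.center (GL (Fin n) F))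
    exact ⟨g, hg, h g hg⟩

theorem mem_lineStab_of_lift {G : Subgroup (GL (Fin n) F ⧸ Subgroup.center (GL (Fin n) F))}
    {v : Fin n → F} {x : ↥G} (g : GL (Fin n) F)
    (hg : QuotientGroup.mk' (Subgroup.center (GL (Fin n) F)) g =
        (x : GL (Fin n) F ⧸ Subgroup.center (GL (Fin n) F))) {c : F}
    (hc : g.val.mulVec v = c • v) : x ∈ lineStab G v :=
  ⟨g, hg, c, hc⟩

/-- The key lemma in terms of `lineStab`. -/
theorem le_lineStab [Fintype F] {p : ℕ} [Fact p.Prime] [CharP F p] (hn : n ≠ 0)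
    (G : Subgroup (GL (Fin n) F ⧸ Subgroup.center (GL (Fin n) F))) (A : Subgroup ↥G)
    [Group.IsNilpotent ↥A] (u : GL (Fin n) F) {k : ℕ} (hu : u ^ p ^ k = 1)
    (v₀ : Fin n → F)
    (hker : ∀ w : Fin n → F, u.val.mulVec w = w → ∃ c : F, w = c • v₀)
    (huA : ∃ y : ↥G, y ∈ A ∧
      (y : GL (Fin n) F ⧸ Subgroup.center (GL (Fin n) F)) =
        QuotientGroup.mk' (Subgroup.center (GL (Fin n) F)) u) :
    A ≤ lineStab G v₀ := by
  intro x hx
  rw [mem_lineStab_iff]
  intro g hg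
  exact lifts_preserve_line (p := p) hn G A u hu v₀ hker huA x hx g hg

end Cfsg.Agent.H68
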