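import Mathlib
import Cfsg.Agent.H68.PGLBasic

set_option autoImplicit false

/-!
# Regular unipotent elements (helper68)

The Jordan block `1 + N` and a conjugate of it: both fix exactly the line `F e₀`, but their
product is not unipotent.
-/

namespace Cfsg.Agent.H68

variable {F : Type*} [Field F] {n : ℕ}

/-- The nilpotent Jordan block. -/
def jordN (F : Type*) [Field F] (n : ℕ) : Matrix (Fin n) (Fin n) F :=
  Matrix.of fun i j => if j.val = i.val + 1 then 1 else 0

theorem jordN_apply (i j : Fin n) :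
    jordN F n i j = if j.val = i.val + 1 then 1 else 0 := rfl

theorem jordN_upper : (jordN F n).IsUpperTriangular := by
  intro i j hij
  rw [jordN_apply, if_neg]
  have := Fin.lt_def.mp hij
  simp only [id] at this
  omega

theorem jordN_pow : jordN F n ^ n = 0 := by
  have h := Matrix.aeval_self_charpoly (jordN F n)
  rw [Matrix.charpoly_of_isUpperTriangular _ jordN_upper] at h
  simpa [jordN_apply, Finset.prod_const] using h

theorem det_one_add_jordN : (1 + jordN F n).det = 1 := by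
  rw [Matrix.det_of_isUpperTriangular (Matrix.blockTriangular_one.add jordN_upper)]
  simp [jordN_apply, Matrix.add_apply]

/-- The regular unipotent element of `SL_n(F)`. -/
def jordU (F : Type*) [Field F] (n : ℕ) : Matrix.SpecialLinearGroup (Fin n) F :=
  ⟨1 + jordN F n, det_one_add_jordN⟩

theorem jordU_val : (jordU F n).val = 1 + jordN F n := rfl

theorem jordU_pow {p : ℕ} [Fact p.Prime] [CharP F p] (hn : n ≠ 0) :
    (Matrix.SpecialLinearGroup.toGL (jordU F n)) ^ p ^ n = 1 := by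
  have : Nonempty (Fin n) := ⟨⟨0, Nat.pos_of_ne_zero hn⟩⟩
  apply Units.ext
  rw [Units.val_pow_eq_pow_val, Units.val_one]
  show (1 + jordN F n) ^ p ^ n = 1
  rw [add_pow_char_pow_of_commute _ _ (Commute.one_left _), one_pow]
  have h1 : n ≤ p ^ n := (Nat.lt_pow_self (Fact.out : p.Prime).one_lt).le
  obtain ⟨m, hm⟩ := Nat.exists_eq_add_of_le h1
  rw [hm, pow_add, jordN_pow, zero_mul, add_zero]

theorem jordN_mulVec (w : Fin n → F) (i : Fin n) (h : i.val + 1 < n) :
    (jordN F n).mulVec w i = w ⟨i.val + 1, h⟩ := by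
  rw [Matrix.mulVec, dotProduct, Finset.sum_eq_single ⟨i.val + 1, h⟩]
  · simp [jordN_apply]
  · intro j _ hj
    rw [jordN_apply, if_neg, zero_mul]
    intro hj'
    exact hj (Fin.ext hj')
  · intro h'
    exact absurd (Finset.mem_univ _) h'

/-- The fixed vectors of the regular unipotent element are the multiples of `e₀`. -/
theorem jordU_fixed (hn : 0 < n) (w : Fin n → F)
    (hw : (Matrix.SpecialLinearGroup.toGL (jordU F n)).val.mulVec w = w) :
    ∃ c : F, w = c • (Pi.single (⟨0, hn⟩ : Fin n) (1 : F)) := by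
  have h1 : (jordN F n).mulVec w = 0 := by
    have : (1 + jordN F n).mulVec w = w := hw
    rw [Matrix.add_mulVec, Matrix.one_mulVec] at this
    exact add_eq_left.mp this
  refine ⟨w ⟨0, hn⟩, ?_⟩
  ext j
  by_cases hj : j = ⟨0, hn⟩
  · subst hj; simp
  · have hj1 : j.val ≠ 0 := fun h => hj (Fin.ext h)
    have hlt : (j.val - 1) + 1 < n := by have := j.isLt; omega
    have h2 := jordN_mulVec w ⟨j.val - 1, by omega⟩ hlt
    rw [h1] at h2
    have h3 : (⟨(j.val - 1) + 1, hlt⟩ : Fin n) = j := Fin.ext (by simp; omega)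
    rw [h3] at h2
    simp [hj, ← h2]

/-- The trace of a `p`-element of `GL_n(F)` in characteristic `p` is `n`. -/
theorem trace_eq_of_pow_eq_one {p : ℕ} [Fact p.Prime] [CharP F p] (hn : n ≠ 0)
    (g : GL (Fin n) F) {j : ℕ} (hg : g ^ p ^ j = 1) : Matrix.trace g.val = (n : F) := by
  have : Nonempty (Fin n) := ⟨⟨0, Nat.pos_of_ne_zero hn⟩⟩
  have h1 : (g.val - 1) ^ p ^ j = 0 := by
    rw [sub_pow_char_pow_of_commute _ _ (Commute.one_right _), one_pow,
      ← Units.val_pow_eq_pow_val, hg, Units.val_one, sub_self]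
  have h2 : IsNilpotent (g.val - 1) := ⟨p ^ j, h1⟩
  have h3 : Matrix.trace (g.val - 1) = 0 := (Matrix.isNilpotent_trace_of_isNilpotent h2).eq_zero
  rw [Matrix.trace_sub, Matrix.trace_one, Fintype.card_fin] at h3
  exact sub_eq_zero.mp h3

/-- Two `p`-elements with a common fixed vector whose images lie in a common nilpotent subgroup
have a product that is a `p`-element. -/
theorem mul_pow_eq_one_of_mem_nilpotent [Fintype F] {p : ℕ} [Fact p.Prime] [CharP F p]
    (G : Subgroup (GL (Fin n) F ⧸ Subgroup.center (GL (Fin n) F))) (A : Subgroup ↥G)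
    [Group.IsNilpotent ↥A] (u u' : GL (Fin n) F) {k k' : ℕ} (hu : u ^ p ^ k = 1)
    (hu' : u' ^ p ^ k' = 1) (v₀ : Fin n → F) (hv₀ : v₀ ≠ 0) (hv : u.val.mulVec v₀ = v₀)
    (hv' : u'.val.mulVec v₀ = v₀)
    (huA : ∃ y : ↥G, y ∈ A ∧
      (y : GL (Fin n) F ⧸ Subgroup.center (GL (Fin n) F)) =
        QuotientGroup.mk' (Subgroup.center (GL (Fin n) F)) u)
    (hu'A : ∃ y : ↥G, y ∈ A ∧
      (y : GL (Fin n) F ⧸ Subgroup.center (GL (Fin n) F)) =
        QuotientGroup.mk' (Subgroup.center (GL (Fin n) F)) u') :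
    ∃ j : ℕ, (u * u') ^ p ^ j = 1 := by
  obtain ⟨y, hyA, hy⟩ := huA
  obtain ⟨y', hy'A, hy'⟩ := hu'A
  have hyk : (⟨y, hyA⟩ : ↥A) ^ p ^ k = 1 := by
    apply Subtype.ext
    apply Subtype.ext
    show (y : GL (Fin n) F ⧸ Subgroup.center (GL (Fin n) F)) ^ p ^ k = 1
    rw [hy, ← map_pow, hu, map_one]
  have hyk' : (⟨y', hy'A⟩ : ↥A) ^ p ^ k' = 1 := by
    apply Subtype.ext
    apply Subtype.ext
    show (y' : GL (Fin n) F ⧸ Subgroup.center (GL (Fin n) F)) ^ p ^ k' = 1
    rw [hy', ← map_pow, hu', map_one]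
  obtain ⟨Q, hQ⟩ := (isPGroup_zpowers_of_pow_eq_one hyk).exists_le_sylow
  obtain ⟨Q', hQ'⟩ := (isPGroup_zpowers_of_pow_eq_one hyk').exists_le_sylow
  have hsub : Subsingleton (Sylow p ↥A) := by
    have := Sylow.unique_of_normal Q inferInstance
    infer_instance
  have hQQ : Q' = Q := Subsingleton.elim _ _
  have hyQ : (⟨y, hyA⟩ : ↥A) ∈ (Q : Subgroup ↥A) := hQ (Subgroup.mem_zpowers _)
  have hyQ' : (⟨y', hy'A⟩ : ↥A) ∈ (Q : Subgroup ↥A) := hQQ ▸ hQ' (Subgroup.mem_zpowers _)
  obtain ⟨j, hj⟩ := Q.isPGroup' ⟨_, mul_mem hyQ hyQ'⟩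
  have h1 : QuotientGroup.mk' (Subgroup.center (GL (Fin n) F)) ((u * u') ^ p ^ j) = 1 := by
    rw [map_pow, map_mul, ← hy, ← hy']
    have := congrArg (fun z : ↥(Q : Subgroup ↥A) =>
      (((z : ↥A) : ↥G) : GL (Fin n) F ⧸ Subgroup.center (GL (Fin n) F))) hj
    exact this
  have h2 : QuotientGroup.mk' (Subgroup.center (GL (Fin n) F)) (1 : GL (Fin n) F) =
      QuotientGroup.mk' (Subgroup.center (GL (Fin n) F)) ((u * u') ^ p ^ j) := by
    rw [h1, map_one]
  obtain ⟨c, hc0, hc⟩ := pgl_mk_eq_iff.mp h2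
  have h3 : (u * u').val.mulVec v₀ = (1 : F) • v₀ := by
    rw [Units.val_mul, ← Matrix.mulVec_mulVec, hv', hv, one_smul]
  have h4 := gl_pow_mulVec_eigen (u * u') h3 (p ^ j)
  rw [hc, Units.val_one, Matrix.smul_mulVec, Matrix.one_mulVec, one_pow] at h4
  have h5 : (c - 1) • v₀ = 0 := by rw [sub_smul, h4, sub_self]
  have hc1 : c = 1 := by
    rcases smul_eq_zero.mp h5 with h | h
    · exact sub_eq_zero.mp h
    · exact absurd h hv₀
  refine ⟨j, Units.ext ?_⟩
  rw [hc, hc1, one_smul]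

/-- The transvection `1 + E_{n-1,n-2}`. -/
def tvS (F : Type*) [Field F] {n : ℕ} (hn : 3 ≤ n) : Matrix.SpecialLinearGroup (Fin n) F :=
  ⟨Matrix.transvection (⟨n - 1, by omega⟩ : Fin n) ⟨n - 2, by omega⟩ 1,
    Matrix.det_transvection_of_ne _ _ (by
      intro h
      have := congrArg Fin.val h
      simp only at this
      omega) 1⟩

/-- The transvection `1 - E_{n-1,n-2}`. -/
def tvS' (F : Type*) [Field F] {n : ℕ} (hn : 3 ≤ n) : Matrix.SpecialLinearGroup (Fin n) F :=
  ⟨Matrix.transvection (⟨n - 1, by omega⟩ : Fin n) ⟨n - 2, by omega⟩ (-1),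
    Matrix.det_transvection_of_ne _ _ (by
      intro h
      have := congrArg Fin.val h
      simp only at this
      omega) (-1)⟩

theorem tvS_inv (hn : 3 ≤ n) : (tvS F hn)⁻¹ = tvS' F hn := by
  apply inv_eq_of_mul_eq_one_right
  apply Subtype.ext
  show Matrix.transvection (⟨n - 1, by omega⟩ : Fin n) ⟨n - 2, by omega⟩ (1 : F) *
    Matrix.transvection (⟨n - 1, by omega⟩ : Fin n) ⟨n - 2, by omega⟩ (-1 : F) = 1
  rw [Matrix.transvection_mul_transvection_same, add_neg_cancel, Matrix.transvection_zero]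
  intro h
  have := congrArg Fin.val h
  simp only at this
  omega

theorem tvS_mulVec (hn : 3 ≤ n) :
    (tvS F hn).val.mulVec (Pi.single (⟨0, by omega⟩ : Fin n) (1 : F)) =
      Pi.single (⟨0, by omega⟩ : Fin n) (1 : F) := by
  show (Matrix.transvection (⟨n - 1, by omega⟩ : Fin n) ⟨n - 2, by omega⟩ (1 : F)).mulVec _ = _
  rw [Matrix.transvection, Matrix.add_mulVec, Matrix.one_mulVec, Matrix.single_mulVec_eq]
  have : (Pi.single (⟨0, by omega⟩ : Fin n) (1 : F) : Fin n → F) ⟨n - 2, by omega⟩ = 0 := by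
    rw [Pi.single_apply, if_neg]
    intro h
    have := congrArg Fin.val h
    simp only at this
    omega
  rw [this, mul_zero, zero_smul, add_zero]

/-- A conjugate of the regular unipotent element. -/
def jordU' (F : Type*) [Field F] {n : ℕ} (hn : 3 ≤ n) : Matrix.SpecialLinearGroup (Fin n) F :=
  tvS F hn * jordU F n * (tvS F hn)⁻¹

theorem jordU'_pow {p : ℕ} [Fact p.Prime] [CharP F p] (hn : 3 ≤ n) :
    (Matrix.SpecialLinearGroup.toGL (jordU' F hn)) ^ p ^ n = 1 := by
  rw [jordU', map_mul, map_mul, map_inv, conj_pow, jordU_pow (by omega), mul_one,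
    mul_inv_cancel]

theorem jordU'_fixed (hn : 3 ≤ n) (w : Fin n → F)
    (hw : (Matrix.SpecialLinearGroup.toGL (jordU' F hn)).val.mulVec w = w) :
    ∃ c : F, w = c • (Pi.single (⟨0, by omega⟩ : Fin n) (1 : F)) := by
  rw [jordU', map_mul, map_mul, map_inv, Units.val_mul, Units.val_mul,
    ← Matrix.mulVec_mulVec, ← Matrix.mulVec_mulVec] at hw
  have h1 := congrArg (fun z => ((Matrix.SpecialLinearGroup.toGL (tvS F hn))⁻¹).val.mulVec z) hw
  simp only [gl_inv_mulVec] at h1
  obtain ⟨c, hc⟩ := jordU_fixed (by omega) _ h1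
  refine ⟨c, ?_⟩
  have h2 := congrArg (fun z => (Matrix.SpecialLinearGroup.toGL (tvS F hn)).val.mulVec z) hc
  simp only [gl_mulVec_inv, Matrix.mulVec_smul] at h2
  rw [h2]
  congr 1
  exact tvS_mulVec hn

theorem jordU_mulVec (hn : 0 < n) :
    (Matrix.SpecialLinearGroup.toGL (jordU F n)).val.mulVec
      (Pi.single (⟨0, hn⟩ : Fin n) (1 : F)) = Pi.single (⟨0, hn⟩ : Fin n) (1 : F) := by
  show (1 + jordN F n).mulVec _ = _
  rw [Matrix.add_mulVec, Matrix.one_mulVec, Matrix.mulVec_single_one]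
  have : (jordN F n).col ⟨0, hn⟩ = 0 := by
    ext i
    simp [Matrix.col, jordN_apply]
  rw [this, add_zero]

theorem jordU'_mulVec (hn : 3 ≤ n) :
    (Matrix.SpecialLinearGroup.toGL (jordU' F hn)).val.mulVec
      (Pi.single (⟨0, by omega⟩ : Fin n) (1 : F)) = Pi.single (⟨0, by omega⟩ : Fin n) (1 : F) := by
  have h1 : ((Matrix.SpecialLinearGroup.toGL (tvS F hn))⁻¹).val.mulVec
      (Pi.single (⟨0, by omega⟩ : Fin n) (1 : F)) = Pi.single (⟨0, by omega⟩ : Fin n) (1 : F) := by
    have := gl_inv_mulVec (Matrix.SpecialLinearGroup.toGL (tvS F hn))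
      (Pi.single (⟨0, by omega⟩ : Fin n) (1 : F))
    rw [show (Matrix.SpecialLinearGroup.toGL (tvS F hn)).val.mulVec
      (Pi.single (⟨0, by omega⟩ : Fin n) (1 : F)) = Pi.single (⟨0, by omega⟩ : Fin n) (1 : F)
      from tvS_mulVec hn] at this
    exact this
  rw [jordU', map_mul, map_mul, map_inv, Units.val_mul, Units.val_mul,
    ← Matrix.mulVec_mulVec, ← Matrix.mulVec_mulVec, h1, jordU_mulVec (by omega)]
  exact tvS_mulVec hn

theorem trace_conj_aux (a E : Matrix (Fin n) (Fin n) F) :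
    Matrix.trace (a * ((1 + E) * a * (1 - E))) =
      Matrix.trace (a * a) - Matrix.trace (a * E * a * E) := by
  have h : a * ((1 + E) * a * (1 - E)) = a * a - a * a * E + a * E * a - a * E * a * E := by
    noncomm_ring
  rw [h, Matrix.trace_sub, Matrix.trace_add, Matrix.trace_sub]
  have h2 : Matrix.trace (a * E * a) = Matrix.trace (a * a * E) := by
    rw [Matrix.trace_mul_comm (a * E) a, mul_assoc]
  rw [h2]
  ring

theorem trace_jordU_mul (hn : 3 ≤ n) :
    Matrix.trace (Matrix.SpecialLinearGroup.toGL (jordU F n) *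
      Matrix.SpecialLinearGroup.toGL (jordU' F hn)).val = (n : F) - 1 := by
  have hval : (Matrix.SpecialLinearGroup.toGL (jordU F n) *
      Matrix.SpecialLinearGroup.toGL (jordU' F hn)).val =
      (1 + jordN F n) * ((1 + Matrix.single (⟨n - 1, by omega⟩ : Fin n) ⟨n - 2, by omega⟩ (1 : F)) *
        (1 + jordN F n) *
        (1 - Matrix.single (⟨n - 1, by omega⟩ : Fin n) ⟨n - 2, by omega⟩ (1 : F))) := by
    rw [jordU', tvS_inv]
    show (1 + jordN F n) * ((Matrix.transvection (⟨n - 1, by omega⟩ : Fin n) ⟨n - 2, by omega⟩ (1 : F))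
      * (1 + jordN F n) *
      (Matrix.transvection (⟨n - 1, by omega⟩ : Fin n) ⟨n - 2, by omega⟩ (-1 : F))) = _
    rw [Matrix.transvection, Matrix.transvection, ← Matrix.single_neg, sub_eq_add_neg]
  rw [hval, trace_conj_aux]
  have h1 : Matrix.trace ((1 + jordN F n) * (1 + jordN F n)) = (n : F) := by
    have : (1 + jordN F n) * (1 + jordN F n) = 1 + jordN F n + jordN F n + jordN F n * jordN F n := by
      noncomm_ring
    rw [this, Matrix.trace_add, Matrix.trace_add, Matrix.trace_add, Matrix.trace_one,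
      Fintype.card_fin]
    have hN : Matrix.trace (jordN F n) = 0 := by
      simp [Matrix.trace, jordN_apply]
    have hNN : Matrix.trace (jordN F n * jordN F n) = 0 := by
      rw [Matrix.trace]
      apply Finset.sum_eq_zero
      intro i _
      rw [Matrix.diag_apply, Matrix.mul_apply]
      apply Finset.sum_eq_zero
      intro j _
      rw [jordN_apply, jordN_apply]
      split_ifs with h1 h2
      · omega
      · simp
      · simp
      · simp
    rw [hN, hNN]
    ring
  have h2 : Matrix.trace ((1 + jordN F n) *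
      Matrix.single (⟨n - 1, by omega⟩ : Fin n) ⟨n - 2, by omega⟩ (1 : F) * (1 + jordN F n) *
      Matrix.single (⟨n - 1, by omega⟩ : Fin n) ⟨n - 2, by omega⟩ (1 : F)) = 1 := by
    have hent : (1 + jordN F n) (⟨n - 2, by omega⟩ : Fin n) ⟨n - 1, by omega⟩ = 1 := by
      rw [Matrix.add_apply, Matrix.one_apply, jordN_apply, if_neg, if_pos, zero_add]
      · simp only; omega
      · intro h
        have := congrArg Fin.val h
        simp only at this
        omega
    rw [mul_assoc (1 + jordN F n), mul_assoc (1 + jordN F n),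
      Matrix.single_mul_mul_single, hent]
    simp only [mul_one]
    rw [Matrix.trace, Finset.sum_eq_single (⟨n - 2, by omega⟩ : Fin n)]
    · rw [Matrix.diag_apply, Matrix.mul_single_apply_same, hent, mul_one]
    · intro b _ hb
      rw [Matrix.diag_apply]
      exact Matrix.mul_single_apply_of_ne _ _ _ _ _ hb _
    · intro h
      exact absurd (Finset.mem_univ _) h
  rw [h1, h2]

/-- The stabilizer of the line `F e₀` is a proper subgroup of any `G ≥ PSL_n(F)`, `n ≥ 2`. -/
theorem lineStab_single_ne_top (hn : 2 ≤ n)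
    (G : Subgroup (GL (Fin n) F ⧸ Subgroup.center (GL (Fin n) F)))
    (hG : ((Matrix.SpecialLinearGroup.toGL :
      Matrix.SpecialLinearGroup (Fin n) F →* GL (Fin n) F).range).map
      (QuotientGroup.mk' (Subgroup.center (GL (Fin n) F))) ≤ G) :
    lineStab G (Pi.single (⟨0, by omega⟩ : Fin n) (1 : F)) ≠ ⊤ := by
  intro htop
  let τ : Matrix.SpecialLinearGroup (Fin n) F :=
    ⟨Matrix.transvection (⟨1, by omega⟩ : Fin n) ⟨0, by omega⟩ 1,
      Matrix.det_transvection_of_ne _ _ (by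
        intro h
        have := congrArg Fin.val h
        simp only at this
        omega) 1⟩
  have hmem : QuotientGroup.mk' (Subgroup.center (GL (Fin n) F))
      (Matrix.SpecialLinearGroup.toGL τ) ∈ G :=
    hG (Subgroup.mem_map_of_mem _ ⟨τ, rfl⟩)
  have h1 : (⟨_, hmem⟩ : ↥G) ∈ lineStab G (Pi.single (⟨0, by omega⟩ : Fin n) (1 : F)) := by
    rw [htop]; trivial
  obtain ⟨c, hc⟩ := mem_lineStab_iff.mp h1 (Matrix.SpecialLinearGroup.toGL τ) rfl
  have h2 : (Matrix.transvection (⟨1, by omega⟩ : Fin n) ⟨0, by omega⟩ (1 : F)).mulVec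
      (Pi.single (⟨0, by omega⟩ : Fin n) (1 : F)) =
      c • (Pi.single (⟨0, by omega⟩ : Fin n) (1 : F)) := hc
  rw [Matrix.transvection, Matrix.add_mulVec, Matrix.one_mulVec, Matrix.single_mulVec_eq] at h2
  have h3 := congrFun h2 (⟨1, by omega⟩ : Fin n)
  have hne : (⟨1, by omega⟩ : Fin n) ≠ ⟨0, by omega⟩ := by
    intro h
    have := congrArg Fin.val h
    simp only at this
    omega
  simp [hne] at h3

/-- **Case `n ≥ 3`.** -/
theorem no_nilpotent_cover_big [Fintype F] (hn : 3 ≤ n)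
    (G : Subgroup (GL (Fin n) F ⧸ Subgroup.center (GL (Fin n) F)))
    (hG : ((Matrix.SpecialLinearGroup.toGL :
      Matrix.SpecialLinearGroup (Fin n) F →* GL (Fin n) F).range).map
      (QuotientGroup.mk' (Subgroup.center (GL (Fin n) F))) ≤ G)
    (𝓐 : Finset (Subgroup ↥G)) (hprop : ∀ A ∈ 𝓐, A ≠ ⊤) (hcov : ∀ g : ↥G, ∃ A ∈ 𝓐, g ∈ A)
    (hmin : ∀ 𝓑 : Finset (Subgroup ↥G), (∀ A ∈ 𝓑, A ≠ ⊤) ∧ (∀ g : ↥G, ∃ A ∈ 𝓑, g ∈ A) →
      𝓐.card ≤ 𝓑.card)
    (hnil : ∀ A ∈ 𝓐, Group.IsNilpotent ↥A) : False := by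
  obtain ⟨p, hp⟩ := CharP.exists F
  have hpp : Fact p.Prime := ⟨CharP.char_is_prime F p⟩
  have hu := jordU_pow (F := F) (p := p) (n := n) (by omega)
  have hu' := jordU'_pow (F := F) (p := p) hn
  have hmem : QuotientGroup.mk' (Subgroup.center (GL (Fin n) F))
      (Matrix.SpecialLinearGroup.toGL (jordU F n)) ∈ G :=
    hG (Subgroup.mem_map_of_mem _ ⟨_, rfl⟩)
  have hmem' : QuotientGroup.mk' (Subgroup.center (GL (Fin n) F))
      (Matrix.SpecialLinearGroup.toGL (jordU' F hn)) ∈ G :=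
    hG (Subgroup.mem_map_of_mem _ ⟨_, rfl⟩)
  obtain ⟨A, hA, hyA⟩ := hcov ⟨_, hmem⟩
  obtain ⟨A', hA', hyA'⟩ := hcov ⟨_, hmem'⟩
  have hAn : Group.IsNilpotent ↥A := hnil A hA
  have hAn' : Group.IsNilpotent ↥A' := hnil A' hA'
  have hle : A ≤ lineStab G (Pi.single (⟨0, by omega⟩ : Fin n) (1 : F)) :=
    le_lineStab (p := p) (by omega) G A _ hu _ (jordU_fixed (by omega)) ⟨_, hyA, rfl⟩
  have hle' : A' ≤ lineStab G (Pi.single (⟨0, by omega⟩ : Fin n) (1 : F)) :=
    le_lineStab (p := p) (by omega) G A' _ hu' _ (jordU'_fixed hn) ⟨_, hyA', rfl⟩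
  have hAA : A = A' := cover_eq_of_le 𝓐 hprop hcov hmin
    (lineStab_single_ne_top (by omega) G hG) hA hA' hle hle'
  subst hAA
  have hv₀ : (Pi.single (⟨0, by omega⟩ : Fin n) (1 : F) : Fin n → F) ≠ 0 := by
    intro h
    have := congrFun h (⟨0, by omega⟩ : Fin n)
    simp at this
  obtain ⟨j, hj⟩ := mul_pow_eq_one_of_mem_nilpotent (p := p) G A _ _ hu hu' _ hv₀
    (jordU_mulVec (by omega)) (jordU'_mulVec hn) ⟨_, hyA, rfl⟩ ⟨_, hyA', rfl⟩
  have h1 := trace_eq_of_pow_eq_one (p := p) (by omega) _ hj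
  rw [trace_jordU_mul hn] at h1
  have : (1 : F) = 0 := by linear_combination -h1
  exact one_ne_zero this

end Cfsg.Agent.H68
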