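import Mathlib
import Cfsg.Agent.H68.PGLBasic

set_option autoImplicit false

/-!
# Nilpotent subgroups of `PSL_2(F) ≤ G ≤ PGL_2(F)` (helper68)
-/

namespace Cfsg.Agent.H68

variable {F : Type*} [Field F]

/-- The nilpotent matrix `w ↦ det[v,w] v`. -/
def nilV (v : Fin 2 → F) : Matrix (Fin 2) (Fin 2) F :=
  !![-(v 0 * v 1), v 0 * v 0; -(v 1 * v 1), v 0 * v 1]

theorem nilV_mulVec (v w : Fin 2 → F) :
    (nilV v).mulVec w = (v 0 * w 1 - v 1 * w 0) • v := by
  funext i
  fin_cases i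
  · simp [nilV, Matrix.mulVec, dotProduct, Fin.sum_univ_two]; ring
  · simp [nilV, Matrix.mulVec, dotProduct, Fin.sum_univ_two]; ring

theorem nilV_mul_self (v : Fin 2 → F) : nilV v * nilV v = 0 := by
  ext i j
  fin_cases i <;> fin_cases j <;> simp [nilV, Matrix.mul_apply, Fin.sum_univ_two] <;> ring

theorem det_one_add_nilV (v : Fin 2 → F) : (1 + nilV v).det = 1 := by
  simp [nilV, Matrix.det_fin_two]
  ring

/-- The transvection with axis `F v`. -/
def tvV (v : Fin 2 → F) : Matrix.SpecialLinearGroup (Fin 2) F :=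
  ⟨1 + nilV v, det_one_add_nilV v⟩

theorem tvV_mulVec (v w : Fin 2 → F) :
    (Matrix.SpecialLinearGroup.toGL (tvV v)).val.mulVec w = w + (v 0 * w 1 - v 1 * w 0) • v := by
  show (1 + nilV v).mulVec w = _
  rw [Matrix.add_mulVec, Matrix.one_mulVec, nilV_mulVec]

theorem tvV_pow {p : ℕ} [Fact p.Prime] [CharP F p] (v : Fin 2 → F) :
    (Matrix.SpecialLinearGroup.toGL (tvV v)) ^ p ^ 1 = 1 := by
  apply Units.ext
  rw [Units.val_pow_eq_pow_val, Units.val_one, pow_one]
  show (1 + nilV v) ^ p = 1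
  rw [add_pow_char_of_commute _ (Commute.one_left _), one_pow]
  have h2 : 2 ≤ p := (Fact.out : p.Prime).two_le
  obtain ⟨m, hm⟩ := Nat.exists_eq_add_of_le h2
  rw [hm, pow_add, pow_two, nilV_mul_self, zero_mul, add_zero]

theorem tvV_fixed {v : Fin 2 → F} (hv : v ≠ 0) (w : Fin 2 → F)
    (hw : (Matrix.SpecialLinearGroup.toGL (tvV v)).val.mulVec w = w) :
    ∃ c : F, w = c • v := by
  rw [tvV_mulVec] at hw
  have h1 : (v 0 * w 1 - v 1 * w 0) • v = 0 := add_eq_left.mp hw
  have h2 : v 0 * w 1 - v 1 * w 0 = 0 := by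
    rcases smul_eq_zero.mp h1 with h | h
    · exact h
    · exact absurd h hv
  by_cases hv0 : v 0 = 0
  · have hv1 : v 1 ≠ 0 := by
      intro hv1
      apply hv
      funext i
      fin_cases i
      · exact hv0
      · exact hv1
    refine ⟨w 1 / v 1, ?_⟩
    funext i
    fin_cases i
    · simp only [Fin.zero_eta, Pi.smul_apply, smul_eq_mul]
      rw [hv0] at h2 ⊢
      have : v 1 * w 0 = 0 := by linear_combination -h2
      rcases mul_eq_zero.mp this with h | h
      · exact absurd h hv1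
      · rw [h]; simp
    · simp only [Fin.mk_one, Pi.smul_apply, smul_eq_mul]
      field_simp
  · refine ⟨w 0 / v 0, ?_⟩
    funext i
    fin_cases i
    · simp only [Fin.zero_eta, Pi.smul_apply, smul_eq_mul]
      field_simp
    · simp only [Fin.mk_one, Pi.smul_apply, smul_eq_mul]
      field_simp
      linear_combination h2

/-- If `y` commutes with `nilV v` and has `v` as an eigenvector with eigenvalue `α`, then
`det y = α ^ 2`. -/
theorem det_eq_sq_of_commute_nilV {v : Fin 2 → F} (hv : v ≠ 0) (y : Matrix (Fin 2) (Fin 2) F)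
    {α : F} (hy : y.mulVec v = α • v) (hc : y * nilV v = nilV v * y) : y.det = α ^ 2 := by
  have h1 : y 0 0 * v 0 + y 0 1 * v 1 = α * v 0 := by
    have := congrFun hy 0
    simpa [Matrix.mulVec, dotProduct, Fin.sum_univ_two] using this
  have h2 : y 1 0 * v 0 + y 1 1 * v 1 = α * v 1 := by
    have := congrFun hy 1
    simpa [Matrix.mulVec, dotProduct, Fin.sum_univ_two] using this
  have c00 := congrFun (congrFun hc 0) 0
  have c01 := congrFun (congrFun hc 0) 1
  have c10 := congrFun (congrFun hc 1) 0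
  have c11 := congrFun (congrFun hc 1) 1
  simp only [nilV, Matrix.mul_apply, Fin.sum_univ_two, Matrix.of_apply, Matrix.cons_val',
    Matrix.cons_val_zero, Matrix.cons_val_one, Matrix.cons_val_fin_one] at c00 c01 c10 c11
  rw [Matrix.det_fin_two]
  by_cases hv0 : v 0 = 0
  · have hv1 : v 1 ≠ 0 := by
      intro hv1
      apply hv
      funext i
      fin_cases i
      · exact hv0
      · exact hv1
    have h3 : v 0 * y 1 0 - v 1 * y 0 0 + α * v 1 = 0 := by
      apply mul_left_cancel₀ hv1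
      linear_combination (-1 : F) * c10 - v 1 * h2
    have h4 : v 0 * y 1 1 - v 1 * y 0 1 - α * v 0 = 0 := by
      apply mul_left_cancel₀ hv1
      linear_combination (-1 : F) * c11 + v 0 * h2
    apply mul_left_cancel₀ hv1
    linear_combination (-(y 1 1)) * h3 + α * h2 + y 1 0 * h4
  · have h3 : v 0 * y 1 0 - v 1 * y 0 0 + α * v 1 = 0 := by
      apply mul_left_cancel₀ hv0
      linear_combination (-1 : F) * c00 - v 1 * h1
    have h4 : v 0 * y 1 1 - v 1 * y 0 1 - α * v 0 = 0 := by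
      apply mul_left_cancel₀ hv0
      linear_combination (-1 : F) * c01 + v 0 * h1
    apply mul_left_cancel₀ (mul_ne_zero hv0 hv0)
    linear_combination (v 0 * y 1 1 - v 1 * y 0 1) * h1 + (α * v 0 - y 0 1 * v 1) * h4
      - v 0 * y 0 1 * h3

theorem tvV_mulVec_self (v : Fin 2 → F) :
    (Matrix.SpecialLinearGroup.toGL (tvV v)).val.mulVec v = v := by
  rw [tvV_mulVec]
  have : v 0 * v 1 - v 1 * v 0 = 0 := by ring
  rw [this, zero_smul, add_zero]

/-- The image of a transvection with axis `F v'` does not stabilize a different line `F v`. -/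
theorem tvV_not_mem_lineStab (G : Subgroup (GL (Fin 2) F ⧸ Subgroup.center (GL (Fin 2) F)))
    {v v' : Fin 2 → F} (hvv' : v 0 * v' 1 - v 1 * v' 0 ≠ 0) (x : ↥G)
    (hx : (x : GL (Fin 2) F ⧸ Subgroup.center (GL (Fin 2) F)) =
      QuotientGroup.mk' (Subgroup.center (GL (Fin 2) F))
        (Matrix.SpecialLinearGroup.toGL (tvV v'))) : x ∉ lineStab G v := by
  intro h
  obtain ⟨c, hc⟩ := mem_lineStab_iff.mp h (Matrix.SpecialLinearGroup.toGL (tvV v')) hx.symm
  rw [tvV_mulVec] at hc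
  have hc0 := congrFun hc 0
  have hc1 := congrFun hc 1
  simp only [Pi.add_apply, Pi.smul_apply, smul_eq_mul] at hc0 hc1
  have hd : (v 0 * v' 1 - v 1 * v' 0) * (v 0 * v' 1 - v 1 * v' 0) = 0 := by
    linear_combination v 1 * hc0 - v 0 * hc1
  rcases mul_eq_zero.mp hd with h | h <;> exact hvv' h

/-- In a nilpotent subgroup containing the image of the transvection `tvV v`, the lifts of
`p'`-elements commute with `nilV v`. -/
theorem commute_nilV_of_coprime [Fintype F] {p : ℕ} [Fact p.Prime] [CharP F p]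
    (G : Subgroup (GL (Fin 2) F ⧸ Subgroup.center (GL (Fin 2) F))) (A : Subgroup ↥G)
    [Group.IsNilpotent ↥A] {v : Fin 2 → F} (hv : v ≠ 0)
    (hvA : ∃ y : ↥G, y ∈ A ∧ (y : GL (Fin 2) F ⧸ Subgroup.center (GL (Fin 2) F)) =
      QuotientGroup.mk' (Subgroup.center (GL (Fin 2) F)) (Matrix.SpecialLinearGroup.toGL (tvV v)))
    (x : ↥G) (hx : x ∈ A) {m : ℕ} (hxm : x ^ m = 1) (hm : ¬ p ∣ m) (g : GL (Fin 2) F)
    (hg : QuotientGroup.mk' (Subgroup.center (GL (Fin 2) F)) g =
      (x : GL (Fin 2) F ⧸ Subgroup.center (GL (Fin 2) F))) :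
    g.val * nilV v = nilV v * g.val := by
  obtain ⟨α, hα⟩ := lifts_preserve_line (p := p) (by norm_num) G A _ (tvV_pow v) v
    (tvV_fixed hv) hvA x hx g hg
  obtain ⟨y, hyA, hy⟩ := hvA
  have hyp : (⟨y, hyA⟩ : ↥A) ^ p ^ 1 = 1 := by
    apply Subtype.ext
    apply Subtype.ext
    show (y : GL (Fin 2) F ⧸ Subgroup.center (GL (Fin 2) F)) ^ p ^ 1 = 1
    rw [hy, ← map_pow, tvV_pow, map_one]
  have hord : ¬ p ∣ orderOf (⟨x, hx⟩ : ↥A) := by
    intro h
    apply hm
    apply dvd_trans h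
    apply orderOf_dvd_of_pow_eq_one
    apply Subtype.ext
    exact hxm
  have hcomm := commute_of_coprime_of_nilpotent hyp hord
  have hcomm' : (x : GL (Fin 2) F ⧸ Subgroup.center (GL (Fin 2) F)) * y = y * x :=
    congrArg (fun z : ↥A => (((z : ↥A) : ↥G) : GL (Fin 2) F ⧸ Subgroup.center (GL (Fin 2) F)))
      hcomm
  rw [← hg, hy, ← map_mul, ← map_mul] at hcomm'
  obtain ⟨c, hc0, hc⟩ := pgl_mk_eq_iff.mp hcomm'
  have hα0 : α ≠ 0 := by
    rintro rfl
    rw [zero_smul] at hα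
    exact gl_mulVec_ne_zero g hv hα
  have h1 := congrArg (fun M : Matrix (Fin 2) (Fin 2) F => M.mulVec v) hc
  simp only [Units.val_mul, Matrix.smul_mulVec, ← Matrix.mulVec_mulVec] at h1
  rw [hα, Matrix.mulVec_smul, tvV_mulVec_self, hα, smul_smul] at h1
  have h2 : (α - c * α) • v = 0 := by rw [sub_smul, ← h1, sub_self]
  have hc1 : c = 1 := by
    rcases smul_eq_zero.mp h2 with h | h
    · have : α * (1 - c) = 0 := by linear_combination h
      rcases mul_eq_zero.mp this with h' | h'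
      · exact absurd h' hα0
      · exact (sub_eq_zero.mp h').symm
    · exact absurd h hv
  rw [hc1, one_smul, Units.val_mul, Units.val_mul] at hc
  have h3 : (1 + nilV v) * g.val = g.val * (1 + nilV v) := hc
  rw [add_mul, mul_add, one_mul, mul_one] at h3
  exact (add_left_cancel h3).symm

/-- A nilpotent subgroup containing the image of a transvection lies in the image of `SL_2`. -/
theorem exists_sl_lift_of_tvV_mem [Fintype F] {p : ℕ} [Fact p.Prime] [CharP F p]
    (G : Subgroup (GL (Fin 2) F ⧸ Subgroup.center (GL (Fin 2) F))) (A : Subgroup ↥G)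
    [Group.IsNilpotent ↥A] {v : Fin 2 → F} (hv : v ≠ 0)
    (hvA : ∃ y : ↥G, y ∈ A ∧ (y : GL (Fin 2) F ⧸ Subgroup.center (GL (Fin 2) F)) =
      QuotientGroup.mk' (Subgroup.center (GL (Fin 2) F)) (Matrix.SpecialLinearGroup.toGL (tvV v)))
    (x : ↥G) (hx : x ∈ A) :
    ∃ s : Matrix.SpecialLinearGroup (Fin 2) F,
      QuotientGroup.mk' (Subgroup.center (GL (Fin 2) F)) (Matrix.SpecialLinearGroup.toGL s) =
        (x : GL (Fin 2) F ⧸ Subgroup.center (GL (Fin 2) F)) := by
  obtain ⟨g, hg⟩ := QuotientGroup.mk'_surjective (Subgroup.center (GL (Fin 2) F))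
    (x : GL (Fin 2) F ⧸ Subgroup.center (GL (Fin 2) F))
  obtain ⟨α, hα⟩ := lifts_preserve_line (p := p) (by norm_num) G A _ (tvV_pow v) v
    (tvV_fixed hv) hvA x hx g hg
  have hα0 : α ≠ 0 := by
    rintro rfl
    rw [zero_smul] at hα
    exact gl_mulVec_ne_zero g hv hα
  obtain ⟨K, r, hr, hKr⟩ := Nat.exists_eq_pow_mul_and_not_dvd (orderOf_pos x).ne' p
    (Fact.out : p.Prime).ne_one
  have hxr : (x ^ p ^ K) ^ r = 1 := by
    rw [← pow_mul, ← hKr, pow_orderOf_eq_one]
  have hg' : QuotientGroup.mk' (Subgroup.center (GL (Fin 2) F)) (g ^ p ^ K) =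
      ((x ^ p ^ K : ↥G) : GL (Fin 2) F ⧸ Subgroup.center (GL (Fin 2) F)) := by
    rw [map_pow, hg]; rfl
  have hc := commute_nilV_of_coprime (p := p) G A hv hvA (x ^ p ^ K) (pow_mem hx _) hxr hr
    (g ^ p ^ K) hg'
  have heig := gl_pow_mulVec_eigen g hα (p ^ K)
  have hdet := det_eq_sq_of_commute_nilV hv _ heig hc
  rw [Units.val_pow_eq_pow_val, Matrix.det_pow] at hdet
  have hdet' : g.val.det = α ^ 2 := by
    have h1 : (g.val.det / α ^ 2) ^ p ^ K = 1 := by
      rw [div_pow, hdet, ← pow_mul, ← pow_mul, mul_comm 2, div_self]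
      exact pow_ne_zero _ hα0
    have h2 := eq_one_of_pow_char_pow_eq_one (p := p) h1
    field_simp at h2
    exact h2
  refine ⟨⟨α⁻¹ • g.val, ?_⟩, ?_⟩
  · rw [Matrix.det_smul, Fintype.card_fin, hdet']
    field_simp
  · rw [← hg]
    symm
    exact pgl_mk_eq_iff.mpr ⟨α⁻¹, inv_ne_zero hα0, rfl⟩

/-- **Case `n = 2`, `G ≠ PSL_2(F)`.** -/
theorem no_nilpotent_cover_two_of_ne [Fintype F]
    (G : Subgroup (GL (Fin 2) F ⧸ Subgroup.center (GL (Fin 2) F)))
    (hG : ((Matrix.SpecialLinearGroup.toGL :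
      Matrix.SpecialLinearGroup (Fin 2) F →* GL (Fin 2) F).range).map
      (QuotientGroup.mk' (Subgroup.center (GL (Fin 2) F))) ≤ G)
    (hne : ∃ x : ↥G, ¬ ∃ s : Matrix.SpecialLinearGroup (Fin 2) F,
      QuotientGroup.mk' (Subgroup.center (GL (Fin 2) F)) (Matrix.SpecialLinearGroup.toGL s) =
        (x : GL (Fin 2) F ⧸ Subgroup.center (GL (Fin 2) F)))
    (𝓐 : Finset (Subgroup ↥G)) (hprop : ∀ A ∈ 𝓐, A ≠ ⊤) (hcov : ∀ g : ↥G, ∃ A ∈ 𝓐, g ∈ A)
    (hmin : ∀ 𝓑 : Finset (Subgroup ↥G), (∀ A ∈ 𝓑, A ≠ ⊤) ∧ (∀ g : ↥G, ∃ A ∈ 𝓑, g ∈ A) →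
      𝓐.card ≤ 𝓑.card)
    (hnil : ∀ A ∈ 𝓐, Group.IsNilpotent ↥A) : False := by
  obtain ⟨p, hp⟩ := CharP.exists F
  have hpp : Fact p.Prime := ⟨CharP.char_is_prime F p⟩
  let S : Subgroup ↥G := (((Matrix.SpecialLinearGroup.toGL :
      Matrix.SpecialLinearGroup (Fin 2) F →* GL (Fin 2) F).range).map
      (QuotientGroup.mk' (Subgroup.center (GL (Fin 2) F)))).subgroupOf G
  have hS : ∀ x : ↥G, x ∈ S ↔ ∃ s : Matrix.SpecialLinearGroup (Fin 2) F,
      QuotientGroup.mk' (Subgroup.center (GL (Fin 2) F)) (Matrix.SpecialLinearGroup.toGL s) =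
        (x : GL (Fin 2) F ⧸ Subgroup.center (GL (Fin 2) F)) := by
    intro x
    rw [Subgroup.mem_subgroupOf, Subgroup.mem_map]
    constructor
    · rintro ⟨g, ⟨s, rfl⟩, hg⟩
      exact ⟨s, hg⟩
    · rintro ⟨s, hs⟩
      exact ⟨_, ⟨s, rfl⟩, hs⟩
  have hStop : S ≠ ⊤ := by
    intro h
    obtain ⟨x, hx⟩ := hne
    exact hx ((hS x).mp (h ▸ Subgroup.mem_top x))
  have he0 : (![1, 0] : Fin 2 → F) ≠ 0 := by
    intro h
    have := congrFun h 0
    simp at this
  have he1 : (![0, 1] : Fin 2 → F) ≠ 0 := by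
    intro h
    have := congrFun h 1
    simp at this
  have hmem0 : QuotientGroup.mk' (Subgroup.center (GL (Fin 2) F))
      (Matrix.SpecialLinearGroup.toGL (tvV (![1, 0] : Fin 2 → F))) ∈ G :=
    hG (Subgroup.mem_map_of_mem _ ⟨_, rfl⟩)
  have hmem1 : QuotientGroup.mk' (Subgroup.center (GL (Fin 2) F))
      (Matrix.SpecialLinearGroup.toGL (tvV (![0, 1] : Fin 2 → F))) ∈ G :=
    hG (Subgroup.mem_map_of_mem _ ⟨_, rfl⟩)
  obtain ⟨A₀, hA₀, hy₀⟩ := hcov ⟨_, hmem0⟩
  obtain ⟨A₁, hA₁, hy₁⟩ := hcov ⟨_, hmem1⟩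
  have hn₀ : Group.IsNilpotent ↥A₀ := hnil A₀ hA₀
  have hn₁ : Group.IsNilpotent ↥A₁ := hnil A₁ hA₁
  have hle₀ : A₀ ≤ S := fun x hx =>
    (hS x).mpr (exists_sl_lift_of_tvV_mem (p := p) G A₀ he0 ⟨_, hy₀, rfl⟩ x hx)
  have hle₁ : A₁ ≤ S := fun x hx =>
    (hS x).mpr (exists_sl_lift_of_tvV_mem (p := p) G A₁ he1 ⟨_, hy₁, rfl⟩ x hx)
  have hAA : A₀ = A₁ := cover_eq_of_le 𝓐 hprop hcov hmin hStop hA₀ hA₁ hle₀ hle₁
  have hline : A₀ ≤ lineStab G (![1, 0] : Fin 2 → F) :=
    le_lineStab (p := p) (by norm_num) G A₀ _ (tvV_pow _) _ (tvV_fixed he0) ⟨_, hy₀, rfl⟩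
  rw [← hAA] at hy₁
  exact tvV_not_mem_lineStab G (v := ![1, 0]) (v' := ![0, 1]) (by simp) _ rfl (hline hy₁)

/-! ### Matrix lemmas for the torus case -/

theorem exists_smul_of_det_eq_zero {v w : Fin 2 → F} (hv : v ≠ 0)
    (h2 : v 0 * w 1 - v 1 * w 0 = 0) : ∃ c : F, w = c • v := by
  by_cases hv0 : v 0 = 0
  · have hv1 : v 1 ≠ 0 := by
      intro hv1
      apply hv
      funext i
      fin_cases i
      · exact hv0
      · exact hv1
    refine ⟨w 1 / v 1, ?_⟩
    funext i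
    fin_cases i
    · simp only [Fin.zero_eta, Pi.smul_apply, smul_eq_mul]
      rw [hv0] at h2 ⊢
      have : v 1 * w 0 = 0 := by linear_combination -h2
      rcases mul_eq_zero.mp this with h | h
      · exact absurd h hv1
      · rw [h]; simp
    · simp only [Fin.mk_one, Pi.smul_apply, smul_eq_mul]
      field_simp
  · refine ⟨w 0 / v 0, ?_⟩
    funext i
    fin_cases i
    · simp only [Fin.zero_eta, Pi.smul_apply, smul_eq_mul]
      field_simp
    · simp only [Fin.mk_one, Pi.smul_apply, smul_eq_mul]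
      field_simp
      linear_combination h2

/-- Anticommuting with an invertible matrix forces trace zero (characteristic `≠ 2`). -/
theorem trace_eq_zero_of_anticomm {M N : Matrix (Fin 2) (Fin 2) F} (h : M * N = -(N * M))
    (hdet : N.det ≠ 0) (h2 : (2 : F) ≠ 0) : M 0 0 + M 1 1 = 0 := by
  have e00 := congrFun (congrFun h 0) 0
  have e01 := congrFun (congrFun h 0) 1
  have e10 := congrFun (congrFun h 1) 0
  have e11 := congrFun (congrFun h 1) 1
  simp only [Matrix.mul_apply, Fin.sum_univ_two, Matrix.neg_apply] at e00 e01 e10 e11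
  rw [Matrix.det_fin_two] at hdet
  have h3 : 2 * (N 0 0 * N 1 1 - N 0 1 * N 1 0) * (M 0 0 + M 1 1) = 0 := by
    linear_combination N 1 1 * e00 - N 1 0 * e01 - N 0 1 * e10 + N 0 0 * e11
  rcases mul_eq_zero.mp h3 with h4 | h4
  · rcases mul_eq_zero.mp h4 with h5 | h5
    · exact absurd h5 h2
    · exact absurd h5 hdet
  · exact h4

theorem mul_self_eq_neg_one {M : Matrix (Fin 2) (Fin 2) F} (htr : M 0 0 + M 1 1 = 0)
    (hdet : M.det = 1) : M * M = -1 := by
  rw [Matrix.det_fin_two] at hdet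
  have h11 : M 1 1 = -M 0 0 := by linear_combination htr
  ext i j
  fin_cases i <;> fin_cases j <;>
    simp only [Fin.zero_eta, Fin.mk_one, Matrix.mul_apply, Fin.sum_univ_two, Matrix.neg_apply,
      Matrix.one_apply_eq, Matrix.one_apply_ne, ne_eq, zero_ne_one, one_ne_zero,
      not_false_eq_true, neg_zero]
  · rw [h11] at hdet; linear_combination -hdet
  · rw [h11]; ring
  · rw [h11]; ring
  · rw [h11] at hdet ⊢; linear_combination -hdet

theorem exists_eigen_of_mul_self {M : Matrix (Fin 2) (Fin 2) F} (hM : M * M = -1) {i : F}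
    (hi : i * i = -1) : ∃ v : Fin 2 → F, v ≠ 0 ∧ ∃ μ : F, M.mulVec v = μ • v := by
  by_cases h10 : M 1 0 = 0
  · refine ⟨![1, 0], ?_, M 0 0, ?_⟩
    · intro h
      have := congrFun h 0
      simp at this
    · funext j
      fin_cases j <;> simp [Matrix.mulVec, dotProduct, Fin.sum_univ_two, h10]
  · refine ⟨![M 0 0 + i, M 1 0], ?_, i, ?_⟩
    · intro h
      have := congrFun h 1
      simp at this
      exact h10 this
    · have e00 := congrFun (congrFun hM 0) 0
      have e10 := congrFun (congrFun hM 1) 0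
      simp only [Matrix.mul_apply, Fin.sum_univ_two, Matrix.neg_apply, Matrix.one_apply_eq,
        Matrix.one_apply_ne, ne_eq, one_ne_zero, not_false_eq_true, neg_zero] at e00 e10
      funext j
      fin_cases j
      · simp [Matrix.mulVec, dotProduct, Fin.sum_univ_two]
        linear_combination e00 - hi
      · simp [Matrix.mulVec, dotProduct, Fin.sum_univ_two]
        linear_combination e10

theorem exists_eigen_of_commute {M X : Matrix (Fin 2) (Fin 2) F}
    (hM : ¬ ∃ c : F, M = c • (1 : Matrix (Fin 2) (Fin 2) F)) {v : Fin 2 → F} (hv : v ≠ 0) {μ : F}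
    (hMv : M.mulVec v = μ • v) (hX : X * M = M * X) : ∃ c : F, X.mulVec v = c • v := by
  apply exists_smul_of_det_eq_zero hv
  have hw : M.mulVec (X.mulVec v) = μ • X.mulVec v := by
    rw [Matrix.mulVec_mulVec, ← hX, ← Matrix.mulVec_mulVec, hMv, Matrix.mulVec_smul]
  have a0 := congrFun hMv 0
  have a1 := congrFun hMv 1
  have b0 := congrFun hw 0
  have b1 := congrFun hw 1
  simp only [Matrix.mulVec, dotProduct, Fin.sum_univ_two, Pi.smul_apply, smul_eq_mul] at a0 a1
  set w := X.mulVec v with hwdef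
  simp only [Matrix.mulVec, dotProduct, Fin.sum_univ_two, Pi.smul_apply, smul_eq_mul] at b0 b1
  by_contra hd
  apply hM
  refine ⟨μ, ?_⟩
  have k00 : (M 0 0 - μ) * (v 0 * w 1 - v 1 * w 0) = 0 := by
    linear_combination w 1 * a0 - v 1 * b0
  have k01 : M 0 1 * (v 0 * w 1 - v 1 * w 0) = 0 := by
    linear_combination v 0 * b0 - w 0 * a0
  have k10 : M 1 0 * (v 0 * w 1 - v 1 * w 0) = 0 := by
    linear_combination w 1 * a1 - v 1 * b1
  have k11 : (M 1 1 - μ) * (v 0 * w 1 - v 1 * w 0) = 0 := by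
    linear_combination v 0 * b1 - w 0 * a1
  have r00 := (mul_eq_zero.mp k00).resolve_right hd
  have r01 := (mul_eq_zero.mp k01).resolve_right hd
  have r10 := (mul_eq_zero.mp k10).resolve_right hd
  have r11 := (mul_eq_zero.mp k11).resolve_right hd
  ext i j
  fin_cases i <;> fin_cases j
  · simp; linear_combination r00
  · simp; exact r01
  · simp; exact r10
  · simp; linear_combination r11

/-- Matrix form of the torus analysis: if the matrices of a family `P` containing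
`diag(a, a⁻¹)` (`a² ≠ 1`) all commute or anticommute with a fixed non-scalar `W` of determinant
`1`, then each of them has an eigenvector. -/
theorem exists_eigen_of_torus {a : F} (ha : a ≠ 0) (ha2 : a * a ≠ 1)
    {W : Matrix (Fin 2) (Fin 2) F} (hWdet : W.det = 1)
    (hW : ¬ ∃ c : F, W = c • (1 : Matrix (Fin 2) (Fin 2) F))
    (P : Matrix (Fin 2) (Fin 2) F → Prop) (hPT : P !![a, 0; 0, a⁻¹])
    (hP : ∀ s, P s → s.det = 1 ∧ (W * s = s * W ∨ W * s = -(s * W))) :
    ∀ s, P s → ∃ v : Fin 2 → F, v ≠ 0 ∧ ∃ c : F, s.mulVec v = c • v := by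
  have hinv : a * a⁻¹ = 1 := mul_inv_cancel₀ ha
  have hcommT : W * !![a, 0; 0, a⁻¹] = !![a, 0; 0, a⁻¹] * W → W 0 1 = 0 ∧ W 1 0 = 0 := by
    intro h
    have e01 := congrFun (congrFun h 0) 1
    have e10 := congrFun (congrFun h 1) 0
    simp only [Matrix.mul_apply, Fin.sum_univ_two, Matrix.of_apply, Matrix.cons_val',
      Matrix.cons_val_zero, Matrix.cons_val_one, Matrix.cons_val_fin_one] at e01 e10
    have h1 : W 0 1 * (1 - a * a) = 0 := by linear_combination a * e01 - W 0 1 * hinv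
    have h2 : W 1 0 * (1 - a * a) = 0 := by linear_combination (-a) * e10 - W 1 0 * hinv
    have h3 : (1 - a * a) ≠ 0 := fun h => ha2 (by linear_combination -h)
    exact ⟨(mul_eq_zero.mp h1).resolve_right h3, (mul_eq_zero.mp h2).resolve_right h3⟩
  by_cases hα : ∀ s, P s → W * s = s * W
  · obtain ⟨h01, h10⟩ := hcommT (hα _ hPT)
    have hne : W 1 1 - W 0 0 ≠ 0 := by
      intro h
      apply hW
      refine ⟨W 0 0, ?_⟩
      ext i j
      fin_cases i <;> fin_cases j
      · simp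
      · simp [h01]
      · simp [h10]
      · simp; linear_combination h
    intro s hs
    have h := hα s hs
    have e10 := congrFun (congrFun h 1) 0
    simp only [Matrix.mul_apply, Fin.sum_univ_two, h10] at e10
    have hs10 : s 1 0 = 0 := by
      have : s 1 0 * (W 1 1 - W 0 0) = 0 := by linear_combination e10
      exact (mul_eq_zero.mp this).resolve_right hne
    refine ⟨![1, 0], ?_, s 0 0, ?_⟩
    · intro h
      have := congrFun h 0
      simp at this
    · funext j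
      fin_cases j <;> simp [Matrix.mulVec, dotProduct, Fin.sum_univ_two, hs10]
  · push Not at hα
    obtain ⟨s₀, hs₀, hne⟩ := hα
    have hanti := (hP s₀ hs₀).2.resolve_left hne
    have h2 : (2 : F) ≠ 0 := by
      intro h2
      apply hne
      rw [hanti]
      ext i j
      rw [Matrix.neg_apply, neg_eq_iff_add_eq_zero]
      linear_combination (s₀ * W) i j * h2
    have htrW := trace_eq_zero_of_anticomm hanti (by rw [(hP s₀ hs₀).1]; exact one_ne_zero) h2
    have hWW := mul_self_eq_neg_one htrW hWdet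
    have hi : ∃ i : F, i * i = -1 := by
      have hdet := hWdet
      rw [Matrix.det_fin_two] at hdet
      rcases (hP _ hPT).2 with hc | hc
      · obtain ⟨h01, h10⟩ := hcommT hc
        refine ⟨W 0 0, ?_⟩
        rw [h01] at hdet
        linear_combination W 0 0 * htrW - hdet
      · have e00 := congrFun (congrFun hc 0) 0
        have e01 := congrFun (congrFun hc 0) 1
        simp only [Matrix.mul_apply, Fin.sum_univ_two, Matrix.of_apply, Matrix.cons_val',
          Matrix.cons_val_zero, Matrix.cons_val_one, Matrix.cons_val_fin_one,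
          Matrix.neg_apply] at e00 e01
        have h00 : W 0 0 = 0 := by
          have : 2 * a * W 0 0 = 0 := by linear_combination e00
          rcases mul_eq_zero.mp this with h | h
          · rcases mul_eq_zero.mp h with h' | h'
            · exact absurd h' h2
            · exact absurd h' ha
          · exact h
        have h11 : W 1 1 = 0 := by linear_combination htrW - h00
        rw [h00, h11] at hdet
        have h01 : W 0 1 ≠ 0 := by
          intro h
          rw [h] at hdet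
          simp at hdet
        refine ⟨a, ?_⟩
        have : W 0 1 * (a * a + 1) = 0 := by linear_combination a * e01 - W 0 1 * hinv
        have := (mul_eq_zero.mp this).resolve_left h01
        linear_combination this
    obtain ⟨i, hi⟩ := hi
    intro s hs
    rcases (hP s hs).2 with hc | hc
    · obtain ⟨v, hv, μ, hμ⟩ := exists_eigen_of_mul_self hWW hi
      exact ⟨v, hv, exists_eigen_of_commute hW hv hμ hc.symm⟩
    · have hc' : s * W = -(W * s) := by rw [hc, neg_neg]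
      have htrs := trace_eq_zero_of_anticomm hc' (by rw [hWdet]; exact one_ne_zero) h2
      have hss := mul_self_eq_neg_one htrs (hP s hs).1
      exact exists_eigen_of_mul_self hss hi

/-- The diagonal matrix `diag(a, a⁻¹)`. -/
def diagT (a : F) (ha : a ≠ 0) : Matrix.SpecialLinearGroup (Fin 2) F :=
  ⟨!![a, 0; 0, a⁻¹], by simp [Matrix.det_fin_two, ha]⟩

theorem diagT_val (a : F) (ha : a ≠ 0) : (diagT a ha).val = !![a, 0; 0, a⁻¹] := rfl

/-- Every element of a nilpotent subgroup of `PSL_2(F)` containing the image of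
`diag(a, a⁻¹)` with `a² ≠ 1` stabilizes a line. -/
theorem exists_line_of_torus_mem
    (G : Subgroup (GL (Fin 2) F ⧸ Subgroup.center (GL (Fin 2) F)))
    (hSL : ∀ x : ↥G, ∃ s : Matrix.SpecialLinearGroup (Fin 2) F,
      QuotientGroup.mk' (Subgroup.center (GL (Fin 2) F)) (Matrix.SpecialLinearGroup.toGL s) =
        (x : GL (Fin 2) F ⧸ Subgroup.center (GL (Fin 2) F)))
    (A : Subgroup ↥G) [Group.IsNilpotent ↥A] {a : F} (ha : a ≠ 0) (ha2 : a * a ≠ 1)
    (hT : ∃ y : ↥G, y ∈ A ∧ (y : GL (Fin 2) F ⧸ Subgroup.center (GL (Fin 2) F)) =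
      QuotientGroup.mk' (Subgroup.center (GL (Fin 2) F))
        (Matrix.SpecialLinearGroup.toGL (diagT a ha)))
    (x : ↥G) (hx : x ∈ A) : ∃ v : Fin 2 → F, v ≠ 0 ∧ x ∈ lineStab G v := by
  obtain ⟨y, hyA, hy⟩ := hT
  have hy1 : (⟨y, hyA⟩ : ↥A) ≠ 1 := by
    intro h
    have h1 : (y : GL (Fin 2) F ⧸ Subgroup.center (GL (Fin 2) F)) = 1 :=
      congrArg (fun z : ↥A => (((z : ↥A) : ↥G) : GL (Fin 2) F ⧸ Subgroup.center (GL (Fin 2) F))) h
    rw [hy] at h1
    have h2 : QuotientGroup.mk' (Subgroup.center (GL (Fin 2) F)) (1 : GL (Fin 2) F) =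
        QuotientGroup.mk' (Subgroup.center (GL (Fin 2) F))
          (Matrix.SpecialLinearGroup.toGL (diagT a ha)) := by rw [h1, map_one]
    obtain ⟨c, -, hc⟩ := pgl_mk_eq_iff.mp h2
    have hc' : (!![a, 0; 0, a⁻¹] : Matrix (Fin 2) (Fin 2) F) = c • (1 : Matrix (Fin 2) (Fin 2) F) :=
      hc
    have e00 := congrFun (congrFun hc' 0) 0
    have e11 := congrFun (congrFun hc' 1) 1
    simp at e00 e11
    apply ha2
    rw [← e00] at e11
    have hinv : a * a⁻¹ = 1 := mul_inv_cancel₀ ha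
    rw [e11] at hinv
    exact hinv
  have hnt : Nontrivial ↥A := ⟨⟨_, 1, hy1⟩⟩
  have hcen := Group.IsNilpotent.center_ne_bot (G := ↥A)
  obtain ⟨⟨z, hzc⟩, hz1⟩ := (Subgroup.ne_bot_iff_exists_ne_one).mp hcen
  obtain ⟨w, hw⟩ := hSL (z : ↥G)
  have hWdet : w.val.det = 1 := w.2
  have hWns : ¬ ∃ c : F, w.val = c • (1 : Matrix (Fin 2) (Fin 2) F) := by
    rintro ⟨c, hc⟩
    apply hz1
    have hc0 : c ≠ 0 := by
      rintro rfl
      rw [zero_smul] at hc
      rw [hc] at hWdet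
      simp at hWdet
    have h1 : QuotientGroup.mk' (Subgroup.center (GL (Fin 2) F)) (1 : GL (Fin 2) F) =
        QuotientGroup.mk' (Subgroup.center (GL (Fin 2) F)) (Matrix.SpecialLinearGroup.toGL w) :=
      pgl_mk_eq_iff.mpr ⟨c, hc0, hc⟩
    rw [hw, map_one] at h1
    apply Subtype.ext
    apply Subtype.ext
    apply Subtype.ext
    exact h1.symm
  let P : Matrix (Fin 2) (Fin 2) F → Prop := fun s => ∃ x' : ↥G, x' ∈ A ∧
    ∃ s' : Matrix.SpecialLinearGroup (Fin 2) F, s'.val = s ∧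
      QuotientGroup.mk' (Subgroup.center (GL (Fin 2) F)) (Matrix.SpecialLinearGroup.toGL s') =
        (x' : GL (Fin 2) F ⧸ Subgroup.center (GL (Fin 2) F))
  have hPT : P !![a, 0; 0, a⁻¹] := ⟨y, hyA, diagT a ha, rfl, hy.symm⟩
  have hP : ∀ s, P s → s.det = 1 ∧ (w.val * s = s * w.val ∨ w.val * s = -(s * w.val)) := by
    rintro s ⟨x', hx', s', rfl, hs'⟩
    refine ⟨s'.2, ?_⟩
    have hcomm := Subgroup.mem_center_iff.mp hzc ⟨x', hx'⟩
    have hcomm' : (x' : GL (Fin 2) F ⧸ Subgroup.center (GL (Fin 2) F)) * (z : ↥G) =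
        (z : ↥G) * x' :=
      congrArg (fun u : ↥A => (((u : ↥A) : ↥G) : GL (Fin 2) F ⧸ Subgroup.center (GL (Fin 2) F)))
        hcomm
    rw [← hs', ← hw, ← map_mul, ← map_mul] at hcomm'
    obtain ⟨c, hc0, hc⟩ := pgl_mk_eq_iff.mp hcomm'
    have hc' : w.val * s'.val = c • (s'.val * w.val) := hc
    have hdet := congrArg Matrix.det hc'
    rw [Matrix.det_mul, Matrix.det_smul, Matrix.det_mul, hWdet, s'.2, Fintype.card_fin] at hdet
    have hcc : (c - 1) * (c + 1) = 0 := by linear_combination -hdet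
    rcases mul_eq_zero.mp hcc with h | h
    · left
      rw [hc', sub_eq_zero.mp h, one_smul]
    · right
      rw [hc', eq_neg_of_add_eq_zero_left h, neg_smul, one_smul]
  obtain ⟨s, hs⟩ := hSL x
  obtain ⟨v, hv, c, hc⟩ := exists_eigen_of_torus ha ha2 hWdet hWns P hPT hP s.val ⟨x, hx, s, rfl, hs⟩
  exact ⟨v, hv, mem_lineStab_of_lift (Matrix.SpecialLinearGroup.toGL s) hs hc⟩

theorem diagT_pow [Fintype F] (a : F) (ha : a ≠ 0) :
    (Matrix.SpecialLinearGroup.toGL (diagT a ha)) ^ (Fintype.card F - 1) = 1 := by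
  apply Units.ext
  rw [Units.val_pow_eq_pow_val, Units.val_one]
  show (!![a, 0; 0, a⁻¹] : Matrix (Fin 2) (Fin 2) F) ^ (Fintype.card F - 1) = 1
  have h1 : (!![a, 0; 0, a⁻¹] : Matrix (Fin 2) (Fin 2) F) = Matrix.diagonal ![a, a⁻¹] := by
    ext i j
    fin_cases i <;> fin_cases j <;> simp
  rw [h1, Matrix.diagonal_pow]
  have h2 : (![a, a⁻¹] : Fin 2 → F) ^ (Fintype.card F - 1) = 1 := by
    funext i
    fin_cases i
    · simp [FiniteField.pow_card_sub_one_eq_one a ha]
    · simp [FiniteField.pow_card_sub_one_eq_one a⁻¹ (inv_ne_zero ha)]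
  rw [h2]
  exact Matrix.diagonal_one

/-- The images of a transvection and of `diag(a, a⁻¹)`, `a² ≠ 1`, do not lie in a common
nilpotent subgroup. -/
theorem false_of_tvV_diagT_mem [Fintype F] {p : ℕ} [Fact p.Prime] [CharP F p]
    (G : Subgroup (GL (Fin 2) F ⧸ Subgroup.center (GL (Fin 2) F))) (A : Subgroup ↥G)
    [Group.IsNilpotent ↥A] {v : Fin 2 → F} (hv : v ≠ 0)
    (hvA : ∃ y : ↥G, y ∈ A ∧ (y : GL (Fin 2) F ⧸ Subgroup.center (GL (Fin 2) F)) =
      QuotientGroup.mk' (Subgroup.center (GL (Fin 2) F)) (Matrix.SpecialLinearGroup.toGL (tvV v)))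
    {a : F} (ha : a ≠ 0) (ha2 : a * a ≠ 1)
    (hT : ∃ y : ↥G, y ∈ A ∧ (y : GL (Fin 2) F ⧸ Subgroup.center (GL (Fin 2) F)) =
      QuotientGroup.mk' (Subgroup.center (GL (Fin 2) F))
        (Matrix.SpecialLinearGroup.toGL (diagT a ha))) : False := by
  obtain ⟨y, hyA, hy⟩ := hT
  have hyq : y ^ (Fintype.card F - 1) = 1 := by
    apply Subtype.ext
    show (y : GL (Fin 2) F ⧸ Subgroup.center (GL (Fin 2) F)) ^ (Fintype.card F - 1) = 1
    rw [hy, ← map_pow, diagT_pow, map_one]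
  have hpq : ¬ p ∣ Fintype.card F - 1 := by
    intro h
    have h1 : p ∣ Fintype.card F :=
      (CharP.cast_eq_zero_iff F p _).mp (Nat.cast_card_eq_zero F)
    have h2 : 1 < Fintype.card F := Fintype.one_lt_card
    have h3 : p ∣ Fintype.card F - (Fintype.card F - 1) := Nat.dvd_sub h1 h
    have h4 : Fintype.card F - (Fintype.card F - 1) = 1 := by omega
    rw [h4] at h3
    exact (Fact.out : p.Prime).one_lt.ne' (Nat.dvd_one.mp h3)
  have hcomm := commute_nilV_of_coprime (p := p) G A hv hvA y hyA hyq hpq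
    (Matrix.SpecialLinearGroup.toGL (diagT a ha)) hy.symm
  have hcomm' : (!![a, 0; 0, a⁻¹] : Matrix (Fin 2) (Fin 2) F) * nilV v =
      nilV v * !![a, 0; 0, a⁻¹] := hcomm
  have hinv : a * a⁻¹ = 1 := mul_inv_cancel₀ ha
  have e01 := congrFun (congrFun hcomm' 0) 1
  have e10 := congrFun (congrFun hcomm' 1) 0
  simp only [nilV, Matrix.mul_apply, Fin.sum_univ_two, Matrix.of_apply, Matrix.cons_val',
    Matrix.cons_val_zero, Matrix.cons_val_one, Matrix.cons_val_fin_one] at e01 e10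
  have h3 : (a * a - 1) ≠ 0 := fun h => ha2 (by linear_combination h)
  have h0 : v 0 * v 0 * (a * a - 1) = 0 := by linear_combination a * e01 + v 0 * v 0 * hinv
  have h1 : v 1 * v 1 * (a * a - 1) = 0 := by linear_combination a * e10 + v 1 * v 1 * hinv
  have hv0 : v 0 = 0 := by
    rcases mul_eq_zero.mp ((mul_eq_zero.mp h0).resolve_right h3) with h | h <;> exact h
  have hv1 : v 1 = 0 := by
    rcases mul_eq_zero.mp ((mul_eq_zero.mp h1).resolve_right h3) with h | h <;> exact h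
  apply hv
  funext i
  fin_cases i
  · exact hv0
  · exact hv1

/-- Representatives of the lines of `F²`. -/
def vL : Option F → (Fin 2 → F)
  | none => ![1, 0]
  | some c => ![c, 1]

theorem vL_ne_zero (ℓ : Option F) : vL ℓ ≠ 0 := by
  cases ℓ with
  | none =>
    intro h
    have := congrFun h 0
    simp [vL] at this
  | some c =>
    intro h
    have := congrFun h 1
    simp [vL] at this

theorem vL_det_ne {ℓ ℓ' : Option F} (h : ℓ ≠ ℓ') :
    vL ℓ 0 * vL ℓ' 1 - vL ℓ 1 * vL ℓ' 0 ≠ 0 := by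
  cases ℓ with
  | none =>
    cases ℓ' with
    | none => exact absurd rfl h
    | some c' => simp [vL]
  | some c =>
    cases ℓ' with
    | none => simp [vL]
    | some c' =>
      simp only [vL, Matrix.cons_val_zero, Matrix.cons_val_one, Matrix.cons_val_fin_one]
      intro h'
      apply h
      have : c = c' := by linear_combination h'
      rw [this]

theorem exists_vL {v : Fin 2 → F} (hv : v ≠ 0) :
    ∃ ℓ : Option F, ∃ c : F, c ≠ 0 ∧ v = c • vL ℓ := by
  by_cases hv1 : v 1 = 0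
  · have hv0 : v 0 ≠ 0 := by
      intro hv0
      apply hv
      funext i
      fin_cases i
      · exact hv0
      · exact hv1
    refine ⟨none, v 0, hv0, ?_⟩
    funext i
    fin_cases i
    · simp [vL]
    · simp [vL, hv1]
  · refine ⟨some (v 0 / v 1), v 1, hv1, ?_⟩
    funext i
    fin_cases i
    · simp [vL]; field_simp
    · simp [vL]

theorem lineStab_smul {G : Subgroup (GL (Fin 2) F ⧸ Subgroup.center (GL (Fin 2) F))}
    {v v' : Fin 2 → F} {c : F} (hc : c ≠ 0) (hv : v = c • v') {x : ↥G}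
    (hx : x ∈ lineStab G v) : x ∈ lineStab G v' := by
  obtain ⟨g, hg, d, hd⟩ := hx
  refine ⟨g, hg, d, ?_⟩
  rw [hv, Matrix.mulVec_smul, smul_comm] at hd
  exact smul_right_injective _ hc hd

theorem exists_sq_ne_one [Fintype F] (hq : 4 ≤ Fintype.card F) :
    ∃ a : F, a ≠ 0 ∧ a * a ≠ 1 := by
  classical
  by_contra h
  push Not at h
  have h1 : (Finset.univ : Finset F) ⊆ {0, 1, -1} := by
    intro a _
    by_cases ha : a = 0
    · simp [ha]
    · have h2 := h a ha
      have h3 : (a - 1) * (a + 1) = 0 := by linear_combination h2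
      rcases mul_eq_zero.mp h3 with h4 | h4
      · simp [sub_eq_zero.mp h4]
      · simp [eq_neg_of_add_eq_zero_left h4]
  have h2 := Finset.card_le_card h1
  have h3 : ({0, 1, -1} : Finset F).card ≤ 3 := Finset.card_le_three
  rw [Finset.card_univ] at h2
  omega

/-- **Case `n = 2`, `G = PSL_2(F)`, `|F| ≥ 4`.** -/
theorem no_nilpotent_cover_two_of_eq [Fintype F] (hq : 4 ≤ Fintype.card F)
    (G : Subgroup (GL (Fin 2) F ⧸ Subgroup.center (GL (Fin 2) F)))
    (hG : ((Matrix.SpecialLinearGroup.toGL :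
      Matrix.SpecialLinearGroup (Fin 2) F →* GL (Fin 2) F).range).map
      (QuotientGroup.mk' (Subgroup.center (GL (Fin 2) F))) ≤ G)
    (hSL : ∀ x : ↥G, ∃ s : Matrix.SpecialLinearGroup (Fin 2) F,
      QuotientGroup.mk' (Subgroup.center (GL (Fin 2) F)) (Matrix.SpecialLinearGroup.toGL s) =
        (x : GL (Fin 2) F ⧸ Subgroup.center (GL (Fin 2) F)))
    (𝓐 : Finset (Subgroup ↥G)) (hprop : ∀ A ∈ 𝓐, A ≠ ⊤) (hcov : ∀ g : ↥G, ∃ A ∈ 𝓐, g ∈ A)
    (hmin : ∀ 𝓑 : Finset (Subgroup ↥G), (∀ A ∈ 𝓑, A ≠ ⊤) ∧ (∀ g : ↥G, ∃ A ∈ 𝓑, g ∈ A) →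
      𝓐.card ≤ 𝓑.card)
    (hnil : ∀ A ∈ 𝓐, Group.IsNilpotent ↥A) : False := by
  classical
  obtain ⟨p, hp⟩ := CharP.exists F
  have hpp : Fact p.Prime := ⟨CharP.char_is_prime F p⟩
  obtain ⟨a, ha, ha2⟩ := exists_sq_ne_one hq
  -- members around the transvections
  have hmemL : ∀ ℓ : Option F, QuotientGroup.mk' (Subgroup.center (GL (Fin 2) F))
      (Matrix.SpecialLinearGroup.toGL (tvV (vL ℓ))) ∈ G :=
    fun ℓ => hG (Subgroup.mem_map_of_mem _ ⟨_, rfl⟩)
  choose f hf hfmem using fun ℓ : Option F => hcov ⟨_, hmemL ℓ⟩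
  have hfn : ∀ ℓ, Group.IsNilpotent ↥(f ℓ) := fun ℓ => hnil _ (hf ℓ)
  have hfle : ∀ ℓ, f ℓ ≤ lineStab G (vL ℓ) := by
    intro ℓ
    have := hfn ℓ
    exact le_lineStab (p := p) (by norm_num) G (f ℓ) _ (tvV_pow _) _ (tvV_fixed (vL_ne_zero ℓ))
      ⟨_, hfmem ℓ, rfl⟩
  have hfinj : Function.Injective f := by
    intro ℓ ℓ' h
    by_contra hne
    have h1 : (⟨_, hmemL ℓ'⟩ : ↥G) ∈ f ℓ := h ▸ hfmem ℓ'
    exact tvV_not_mem_lineStab G (vL_det_ne hne) _ rfl (hfle ℓ h1)
  have hMtop : ∀ ℓ : Option F, lineStab G (vL ℓ) ≠ ⊤ := by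
    intro ℓ htop
    obtain ⟨ℓ', hne⟩ : ∃ ℓ' : Option F, ℓ ≠ ℓ' := by
      cases ℓ with
      | none => exact ⟨some 0, by simp⟩
      | some c => exact ⟨none, by simp⟩
    apply tvV_not_mem_lineStab G (vL_det_ne hne) ⟨_, hmemL ℓ'⟩ rfl
    rw [htop]
    trivial
  -- the torus element
  have hmemT : QuotientGroup.mk' (Subgroup.center (GL (Fin 2) F))
      (Matrix.SpecialLinearGroup.toGL (diagT a ha)) ∈ G :=
    hG (Subgroup.mem_map_of_mem _ ⟨_, rfl⟩)
  obtain ⟨At, hAt, hyt⟩ := hcov ⟨_, hmemT⟩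
  have hAtn : Group.IsNilpotent ↥At := hnil At hAt
  have hAtline : ∀ x ∈ At, ∃ ℓ : Option F, x ∈ lineStab G (vL ℓ) := by
    intro x hx
    obtain ⟨v, hv, hxv⟩ := exists_line_of_torus_mem G hSL At ha ha2 ⟨_, hyt, rfl⟩ x hx
    obtain ⟨ℓ, c, hc0, hc⟩ := exists_vL hv
    exact ⟨ℓ, lineStab_smul hc0 hc hxv⟩
  have hAtf : ∀ ℓ, At ≠ f ℓ := by
    intro ℓ h
    have := hfn ℓ
    exact false_of_tvV_diagT_mem (p := p) G (f ℓ) (vL_ne_zero ℓ) ⟨_, hfmem ℓ, rfl⟩ ha ha2
      ⟨_, h ▸ hyt, rfl⟩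
  -- counting
  let good : Subgroup ↥G → Prop := fun A => ∀ x ∈ A, ∃ ℓ : Option F, x ∈ lineStab G (vL ℓ)
  let 𝓢 : Finset (Subgroup ↥G) := 𝓐.filter (fun A => ¬ good A)
  let 𝓜 : Finset (Subgroup ↥G) := Finset.univ.image (fun ℓ : Option F => lineStab G (vL ℓ))
  let 𝓣 : Finset (Subgroup ↥G) := Finset.univ.image f
  have hB := hmin (𝓢 ∪ 𝓜) ⟨?_, ?_⟩
  · have h1 : (𝓢 ∪ 𝓜).card ≤ 𝓢.card + Fintype.card (Option F) := by
      refine (Finset.card_union_le _ _).trans (Nat.add_le_add_left ?_ _)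
      exact Finset.card_image_le.trans (by rw [Finset.card_univ])
    have hT : 𝓣.card = Fintype.card (Option F) := by
      rw [Finset.card_image_of_injective _ hfinj, Finset.card_univ]
    have hdisj : Disjoint 𝓣 𝓢 := by
      rw [Finset.disjoint_left]
      intro A hA hS
      obtain ⟨ℓ, -, rfl⟩ := Finset.mem_image.mp hA
      exact (Finset.mem_filter.mp hS).2 (fun x hx => ⟨ℓ, hfle ℓ hx⟩)
    have hAt1 : At ∉ 𝓣 ∪ 𝓢 := by
      intro h
      rcases Finset.mem_union.mp h with h | h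
      · obtain ⟨ℓ, -, hℓ⟩ := Finset.mem_image.mp h
        exact hAtf ℓ hℓ.symm
      · exact (Finset.mem_filter.mp h).2 hAtline
    have hsub : insert At (𝓣 ∪ 𝓢) ⊆ 𝓐 := by
      apply Finset.insert_subset hAt
      apply Finset.union_subset
      · intro A hA
        obtain ⟨ℓ, -, rfl⟩ := Finset.mem_image.mp hA
        exact hf ℓ
      · exact Finset.filter_subset _ _
    have h2 : (insert At (𝓣 ∪ 𝓢)).card = 𝓣.card + 𝓢.card + 1 := by
      rw [Finset.card_insert_of_notMem hAt1, Finset.card_union_of_disjoint hdisj]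
    have h3 := Finset.card_le_card hsub
    omega
  · intro A hA
    rcases Finset.mem_union.mp hA with h | h
    · exact hprop A (Finset.mem_filter.mp h).1
    · obtain ⟨ℓ, -, rfl⟩ := Finset.mem_image.mp h
      exact hMtop ℓ
  · intro g
    obtain ⟨A, hA, hgA⟩ := hcov g
    by_cases hgood : good A
    · obtain ⟨ℓ, hℓ⟩ := hgood g hgA
      exact ⟨lineStab G (vL ℓ), Finset.mem_union_right _
        (Finset.mem_image_of_mem _ (Finset.mem_univ ℓ)), hℓ⟩
    · exact ⟨A, Finset.mem_union_left _ (Finset.mem_filter.mpr ⟨hA, hgood⟩), hgA⟩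

end Cfsg.Agent.H68
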