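import Cfsg.Agent.H96.G2L.G2Facts
import Cfsg.Agent.H22.ReeCtx
import Cfsg.Agent.H22.ReeOrd
import Cfsg.Agent.H45.R2Asm
import Cfsg.Agent.H45.R2Comm
import Cfsg.Agent.H45.R2Val
import Cfsg.Agent.H45.R2Cent
import Cfsg.Agent.H5.R2Inv
import Cfsg.Agent.H15.R2ACom
import Cfsg.Agent.H15.R2Mem
import Cfsg.Agent.H40.R2Form
import Cfsg.Agent.H40.R2HForm
import Cfsg.Agent.H7.R2Ker
import Cfsg.Agent.H19.R2ConjR
import Cfsg.Agent.H19.R2UFix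
import Cfsg.Agent.H51.R2Iso
import Cfsg.Agent.H65.R2ExistsE
import Cfsg.Agent.H65.R2Sylow
import Cfsg.Agent.H65.R2Arith
import Cfsg.Agent.H65.R2PSLKlein
import Cfsg.Agent.H22.ReeCube
import Cfsg.Agent.H7.RCFinal
import Cfsg.Agent.H5.R2ConjInv
import Cfsg.Agent.H62.R2Transfer
import Cfsg.Agent.H62.R2KleinAct
import Cfsg.Agent.H62.R2ProdShape
import Cfsg.Agent.H13.R2Prod
import Cfsg.Agent.H13.R2Transport
import Cfsg.Agent.H5.R2Count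
import Cfsg.Agent.H51.R2PSLNorm
import Cfsg.Agent.H51.R2PSLCent
import Cfsg.Agent.H7.RTFin

/-!
# Light copies of the Ree results S1152, S1154, S1156, S1157, S2359 (helper68)

Word-for-word copies of the proofs of those five statement files, with the four generic
Chevalley facts (Steinberg presentation, unique factorisation, canonical form, Weyl group)
taken at type G2 from `Cfsg.Agent.H96.G2L.G2Facts` (helper96), so that the import closure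
has no table of any other type.  Used by `Cfsg.Agent.S1159`.
-/

set_option autoImplicit false
open Cfsg

namespace Cfsg.Agent.H68.RL

theorem l1152 {K : Type*} [Field K] [Fintype K] {m : ℕ} (hK : Fintype.card K = 3 ^ (2 * m + 1))
    (a : ↥(Cfsg.Lie.twistedG2 K (3 ^ m))) (haH : (a : GL Cfsg.Lie.chevG2.Idx K) ∈ Cfsg.Lie.chevG2.diagonalSubgroup K) (ha1 : a ≠ 1) (ha2 : a * a = 1) :
    Nonempty (↥(Subgroup.centralizer {a}) ≃* Multiplicative (ZMod 2) × Matrix.ProjectiveSpecialLinearGroup (Fin 2) K) ∧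
      ∀ S : Sylow 2 ↥(Cfsg.Lie.twistedG2 K (3 ^ m)), Nat.card S = 8 ∧ ∀ x ∈ S, x * x = 1 := by
  have hc : CharP K 3 := Cfsg.Agent.H22.Ree.charP_three_of_card hK
  obtain ⟨C⟩ := Cfsg.Agent.H22.Ree.exists_ctx hK (Cfsg.Agent.H96.G2L.steinberg_G2 K)
    (Cfsg.Agent.H96.G2L.factor_G2 (F := K)).1
  have hcan : Cfsg.Agent.H22.Ree.CanonG2 K := Cfsg.Agent.H96.G2L.canon_G2 K
  have hW : Cfsg.Agent.H22.Ree.WeylG2 K :=
    Cfsg.Agent.H96.G2L.weyl_G2 K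
  have hcomm := Cfsg.Agent.H45.R2.comm C
  have hval := Cfsg.Agent.H45.R2.val C
  have htor := Cfsg.Agent.H45.R2.tor C
  have hmem := Cfsg.Agent.H15.R2.mem C hcomm hval
  have hac := Cfsg.Agent.H15.R2.acomm C
  have hform := Cfsg.Agent.H40.R2.form C hcomm hval htor
  have hker := Cfsg.Agent.H7.R2.ker C hcan hform
  have hufix := Cfsg.Agent.H19.R2.ufix C (Cfsg.Agent.H19.R2.conjR C)
  have hhform := Cfsg.Agent.H40.R2.hform C hK
  have hcent := Cfsg.Agent.H45.R2.cent C hK hcan hW hcomm hval htor hac hufix hhform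
  have hinv := Cfsg.Agent.H5.R2.inv C
  exact Cfsg.Agent.H45.R2.s1152_of_pieces hK C hcan hW hcomm hmem hac hker hcent hinv
    Cfsg.Agent.H51.R2.iso Cfsg.Agent.H65.R2.existsE Cfsg.Agent.H65.R2.sylow
    Cfsg.Agent.H65.R2.arith Cfsg.Agent.H65.R2.pslKlein a haH ha1 ha2

theorem l1154 {K : Type*} [Field K] [Fintype K] {m : ℕ} (hm : 1 ≤ m) (hK : Fintype.card K = 3 ^ (2 * m + 1)) :
    Nat.card {u : ↥(Cfsg.Lie.chevG2.posUnipotent K ⊓ Cfsg.Lie.twistedG2 K (3 ^ m)) // orderOf u = 3} = (3 ^ (2 * m + 1)) ^ 2 - 1 := by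
  have hc : CharP K 3 := Cfsg.Agent.H22.Ree.charP_three_of_card hK
  obtain ⟨C⟩ := Cfsg.Agent.H22.Ree.exists_ctx hK (Cfsg.Agent.H96.G2L.steinberg_G2 K)
    (Cfsg.Agent.H96.G2L.factor_G2 (F := K)).1
  rw [C.card_order_three, hK]

theorem l1156 {K : Type*} [Field K] [Fintype K] {m : ℕ} (hm : 1 ≤ m) (hK : Fintype.card K = 3 ^ (2 * m + 1))
    {p : ℕ} [Fact p.Prime] (hp : 3 < p) (P : Sylow p ↥(Cfsg.Lie.twistedG2 K (3 ^ m))) : IsCyclic (P : Subgroup ↥(Cfsg.Lie.twistedG2 K (3 ^ m))) := by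
  have hc : CharP K 3 := Cfsg.Agent.H22.Ree.charP_three_of_card hK
  obtain ⟨C⟩ := Cfsg.Agent.H22.Ree.exists_ctx hK (Cfsg.Agent.H96.G2L.steinberg_G2 K)
    (Cfsg.Agent.H96.G2L.factor_G2 (F := K)).1
  have hcan : Cfsg.Agent.H22.Ree.CanonG2 K := Cfsg.Agent.H96.G2L.canon_G2 K
  have hW : Cfsg.Agent.H22.Ree.WeylG2 K :=
    Cfsg.Agent.H96.G2L.weyl_G2 K
  exact Cfsg.Agent.H7.RC.final C hK hm hcan hW hp P

theorem l1157 {K : Type*} [Field K] [Fintype K] {m : ℕ} (hm : 1 ≤ m) (hK : Fintype.card K = 3 ^ (2 * m + 1))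
    (S : Sylow 2 ↥(Cfsg.Lie.twistedG2 K (3 ^ m))) :
    Subgroup.centralizer ((S : Subgroup ↥(Cfsg.Lie.twistedG2 K (3 ^ m))) : Set ↥(Cfsg.Lie.twistedG2 K (3 ^ m))) = S ∧
      Nat.card (Subgroup.normalizer ((S : Subgroup ↥(Cfsg.Lie.twistedG2 K (3 ^ m))) : Set ↥(Cfsg.Lie.twistedG2 K (3 ^ m)))) = 168 := by
  have hc : CharP K 3 := Cfsg.Agent.H22.Ree.charP_three_of_card hK
  obtain ⟨C⟩ := Cfsg.Agent.H22.Ree.exists_ctx hK (Cfsg.Agent.H96.G2L.steinberg_G2 K)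
    (Cfsg.Agent.H96.G2L.factor_G2 (F := K)).1
  have hcan : Cfsg.Agent.H22.Ree.CanonG2 K := Cfsg.Agent.H96.G2L.canon_G2 K
  have hW : Cfsg.Agent.H22.Ree.WeylG2 K :=
    Cfsg.Agent.H96.G2L.weyl_G2 K
  exact Cfsg.Agent.H45.R2.s1157_of_pieces hm hK C hcan hW
    (fun a haH ha1 ha2 => l1152 hK a haH ha1 ha2)
    (fun G _ _ L _ S a₀ Φ h1 h2 => Cfsg.Agent.H5.R2.conjInv G L S a₀ Φ h1 h2)
    Cfsg.Agent.H62.R2.transfer
    (Cfsg.Agent.H13.R2.prod Cfsg.Agent.H62.R2.kleinAct Cfsg.Agent.H62.R2.prodShape)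
    Cfsg.Agent.H13.R2.transport Cfsg.Agent.H5.R2.count Cfsg.Agent.H51.R2.pslNorm
    Cfsg.Agent.H51.R2.pslCent Cfsg.Agent.H65.R2.arith S

theorem l2359 {K : Type*} [Field K] [Fintype K] {m : ℕ} (hm : 1 ≤ m)
    (hK : Fintype.card K = 3 ^ (2 * m + 1)) (H : Subgroup ↥(Cfsg.Lie.twistedG2 K (3 ^ m))) (hH : IsCyclic H) :
    (Nat.card H = (3 ^ (2 * m + 1) - 1) / 2 →
      IsCyclic ↥(Subgroup.centralizer (H : Set ↥(Cfsg.Lie.twistedG2 K (3 ^ m)))) ∧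
        Nat.card ↥(Subgroup.centralizer (H : Set ↥(Cfsg.Lie.twistedG2 K (3 ^ m)))) = 3 ^ (2 * m + 1) - 1 ∧
        ∀ A : Subgroup ↥(Cfsg.Lie.twistedG2 K (3 ^ m)), A ≤ H → A ≠ ⊥ →
          Subgroup.centralizer (A : Set ↥(Cfsg.Lie.twistedG2 K (3 ^ m))) = Subgroup.centralizer (H : Set ↥(Cfsg.Lie.twistedG2 K (3 ^ m)))) ∧
    (Nat.card H = (3 ^ (2 * m + 1) + 1) / 4 →
      IsMulCommutative ↥(Subgroup.centralizer (H : Set ↥(Cfsg.Lie.twistedG2 K (3 ^ m)))) ∧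
        Nat.card ↥(Subgroup.centralizer (H : Set ↥(Cfsg.Lie.twistedG2 K (3 ^ m)))) = 3 ^ (2 * m + 1) + 1 ∧
        (∀ x ∈ Subgroup.centralizer (H : Set ↥(Cfsg.Lie.twistedG2 K (3 ^ m))), orderOf x ≠ 4) ∧
        ∀ A : Subgroup ↥(Cfsg.Lie.twistedG2 K (3 ^ m)), A ≤ H → A ≠ ⊥ →
          Subgroup.centralizer (A : Set ↥(Cfsg.Lie.twistedG2 K (3 ^ m))) = Subgroup.centralizer (H : Set ↥(Cfsg.Lie.twistedG2 K (3 ^ m)))) := by
  have hc : CharP K 3 := Cfsg.Agent.H22.Ree.charP_three_of_card hK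
  obtain ⟨C⟩ := Cfsg.Agent.H22.Ree.exists_ctx hK (Cfsg.Agent.H96.G2L.steinberg_G2 K)
    (Cfsg.Agent.H96.G2L.factor_G2 (F := K)).1
  have hcan : Cfsg.Agent.H22.Ree.CanonG2 K := Cfsg.Agent.H96.G2L.canon_G2 K
  have hW : Cfsg.Agent.H22.Ree.WeylG2 K :=
    Cfsg.Agent.H96.G2L.weyl_G2 K
  exact Cfsg.Agent.H7.RT.s2359 C hK hm hcan hW
    (l1152 hK (Cfsg.Agent.H7.RT.aEl C) (Cfsg.Agent.H7.RT.aEl_mem_H C)
      (Cfsg.Agent.H7.RT.aEl_ne_one C) (Cfsg.Agent.H7.RT.aEl_mul_self C)).2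
    (fun S => l1157 hm hK S)
    (fun p _ hp P => l1156 hm hK hp P)
    H hH

end Cfsg.Agent.H68.RL
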