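import Cfsg.Agent.H96.G2L.G2Facts
import Cfsg.Agent.H68.ReeLite
import Cfsg.Agent.H22.ReeCtx
import Cfsg.Agent.H45.S8Fin
import Cfsg.Agent.H22.ReeOrd

/-!
# Light copies of the Ree results S1158 and S1069 (helper68)

Word-for-word copies of the proofs in those two statement files over `Cfsg.Agent.H96.G2L.G2Facts`
and `Cfsg.Agent.H68.ReeLite`, so that the import closure has G2 tables only.
-/

set_option autoImplicit false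
open Cfsg

namespace Cfsg.Agent.H68.RL

theorem l1158 {K : Type*} [Field K] [Fintype K] {m : ℕ} (hm : 1 ≤ m) (hK : Fintype.card K = 3 ^ (2 * m + 1)) :
    ∀ kn ∈ ({((3 ^ (2 * m + 1) - 1) / 2, 2 * (3 ^ (2 * m + 1) - 1)), ((3 ^ (2 * m + 1) + 1) / 4, 6 * (3 ^ (2 * m + 1) + 1)),
        (3 ^ (2 * m + 1) - 3 ^ (m + 1) + 1, 6 * (3 ^ (2 * m + 1) - 3 ^ (m + 1) + 1)),
        (3 ^ (2 * m + 1) + 3 ^ (m + 1) + 1, 6 * (3 ^ (2 * m + 1) + 3 ^ (m + 1) + 1))} : Set (ℕ × ℕ)),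
      ∃ A : Subgroup ↥(Cfsg.Lie.twistedG2 K (3 ^ m)), IsCyclic A ∧ Nat.card A = kn.1 ∧
        Nat.card (Subgroup.normalizer (A : Set ↥(Cfsg.Lie.twistedG2 K (3 ^ m)))) = kn.2 ∧
        ∀ A₀ : Subgroup ↥(Cfsg.Lie.twistedG2 K (3 ^ m)), A₀ ≤ A → A₀ ≠ ⊥ →
          Subgroup.normalizer (A₀ : Set ↥(Cfsg.Lie.twistedG2 K (3 ^ m))) = Subgroup.normalizer (A : Set ↥(Cfsg.Lie.twistedG2 K (3 ^ m))) := by
  have hc : CharP K 3 := Cfsg.Agent.H22.Ree.charP_three_of_card hK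
  obtain ⟨C⟩ := Cfsg.Agent.H22.Ree.exists_ctx hK (Cfsg.Agent.H96.G2L.steinberg_G2 K)
    (Cfsg.Agent.H96.G2L.factor_G2 (F := K)).1
  have hcan : Cfsg.Agent.H22.Ree.CanonG2 K := Cfsg.Agent.H96.G2L.canon_G2 K
  have hW : Cfsg.Agent.H22.Ree.WeylG2 K :=
    Cfsg.Agent.H96.G2L.weyl_G2 K
  exact Cfsg.Agent.H45.S8.s1158_final C hK hm hcan hW
    (fun a haH ha1 ha2 => Cfsg.Agent.H68.RL.l1152 hK a haH ha1 ha2)
    (fun S => Cfsg.Agent.H68.RL.l1157 hm hK S)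
    (fun {p} _ hp P => Cfsg.Agent.H68.RL.l1156 hm hK hp P)
    (fun H hH hc => (Cfsg.Agent.H68.RL.l2359 hm hK H hH).1 hc)
    (fun H hH hc => by
      obtain ⟨h1, h2, h3, h4⟩ := (Cfsg.Agent.H68.RL.l2359 hm hK H hH).2 hc
      exact ⟨fun x hx y hy => congrArg Subtype.val (h1.is_comm.comm ⟨x, hx⟩ ⟨y, hy⟩), h2, h3, h4⟩)

theorem l1069 {K : Type*} [Field K] [Fintype K] {m : ℕ} (hK : Fintype.card K = 3 ^ (2 * m + 1)) :
    Nat.card ↥(Cfsg.Lie.twistedG2 K (3 ^ m)) = (3 ^ (2 * m + 1)) ^ 3 * (3 ^ (2 * m + 1) - 1) * ((3 ^ (2 * m + 1)) ^ 3 + 1) := by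
  have hc : CharP K 3 := Cfsg.Agent.H22.Ree.charP_three_of_card hK
  obtain ⟨C⟩ := Cfsg.Agent.H22.Ree.exists_ctx hK (Cfsg.Agent.H96.G2L.steinberg_G2 K)
    (Cfsg.Agent.H96.G2L.factor_G2 (F := K)).1
  have hcan : Cfsg.Agent.H22.Ree.CanonG2 K := Cfsg.Agent.H96.G2L.canon_G2 K
  have hW : Cfsg.Agent.H22.Ree.WeylG2 K :=
    Cfsg.Agent.H96.G2L.weyl_G2 K
  exact C.card_twisted hK hcan hW

end Cfsg.Agent.H68.RL
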