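import Mathlib
import Cfsg.Agent.H45.S8Defs0
/-!
S1158 team project (helper45), piece S8-INVCONJ: all involutions are conjugate when a Sylow
2-subgroup `S` has order 8, `C(S) = S` and `|N(S)| = 168`.
-/
set_option autoImplicit false

namespace Cfsg.Agent.H68.S8

open Cfsg.Agent.H45.S8

open scoped Pointwise

universe u

/-- (INVCONJ) -/
theorem invConj : StInvConj.{u} := by
  intro G _ _ S hS hC hN z z' hz1 hzz hz'1 hz'z'
  classical
  have : Fact (Nat.Prime 7) := ⟨by norm_num⟩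
  have : Fact (Nat.Prime 2) := ⟨by norm_num⟩
  obtain ⟨g', hg'⟩ := exists_prime_orderOf_dvd_card'
    (G := ↥(Subgroup.normalizer ((S : Subgroup G) : Set G))) 7 (by rw [hN]; norm_num)
  have hgN : (g' : G) ∈ Subgroup.normalizer ((S : Subgroup G) : Set G) := g'.2
  have hgo : orderOf (g' : G) = 7 := by rw [Subgroup.orderOf_coe]; exact hg'
  generalize (g' : G) = g at hgN hgo
  have hgS : g ∉ (S : Subgroup G) := by
    intro h
    have h1 := orderOf_dvd_natCard (⟨g, h⟩ : (S : Subgroup G))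
    rw [Subgroup.orderOf_mk, hgo, hS] at h1
    norm_num at h1
  have hgC : g ∉ Subgroup.centralizer ((S : Subgroup G) : Set G) := by rw [hC]; exact hgS
  rw [Subgroup.mem_centralizer_iff] at hgC
  simp only [not_forall] at hgC
  obtain ⟨s₀, hs₀S, hs₀⟩ := hgC
  have hs₀1 : s₀ ≠ 1 := by
    rintro rfl
    simp at hs₀
  have hgiN : ∀ i : ℕ, g ^ i ∈ Subgroup.normalizer ((S : Subgroup G) : Set G) :=
    fun i => Subgroup.pow_mem _ hgN i
  have hfS : ∀ i : ℕ, g ^ i * s₀ * (g ^ i)⁻¹ ∈ (S : Subgroup G) :=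
    fun i => (Subgroup.mem_normalizer_iff.1 (hgiN i) s₀).1 hs₀S
  have hf1 : ∀ i : ℕ, g ^ i * s₀ * (g ^ i)⁻¹ ≠ 1 := by
    intro i h
    apply hs₀1
    have : s₀ = (g ^ i)⁻¹ * (g ^ i * s₀ * (g ^ i)⁻¹) * g ^ i := by group
    rw [this, h]
    group
  have hinj : ∀ i j : ℕ, i < j → j < 7 →
      g ^ i * s₀ * (g ^ i)⁻¹ ≠ g ^ j * s₀ * (g ^ j)⁻¹ := by
    intro i j hij hj h
    have hk : g ^ (j - i) * s₀ = s₀ * g ^ (j - i) := by
      have hj' : g ^ j = g ^ i * g ^ (j - i) := by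
        rw [← pow_add]
        congr 1
        omega
      rw [hj'] at h
      have : g ^ (j - i) * s₀ = (g ^ i)⁻¹ *
          (g ^ i * g ^ (j - i) * s₀ * (g ^ i * g ^ (j - i))⁻¹) * g ^ i * g ^ (j - i) := by group
      rw [this, ← h]
      group
    have hcop : Nat.Coprime (j - i) (orderOf g) := by
      rw [hgo]
      apply Nat.Coprime.symm
      rw [Nat.Prime.coprime_iff_not_dvd (by norm_num)]
      intro hd
      have := Nat.le_of_dvd (by omega) hd
      omega
    obtain ⟨a, ha⟩ := exists_pow_eq_self_of_coprime hcop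
    apply hs₀
    have hcm : Commute (g ^ (j - i)) s₀ := hk
    have h2 : Commute ((g ^ (j - i)) ^ a) s₀ := hcm.pow_left a
    rw [ha] at h2
    exact h2.eq.symm
  have : Fintype G := Fintype.ofFinite G
  have hTU : (Finset.range 7).image (fun i => g ^ i * s₀ * (g ^ i)⁻¹) ⊆
      (Finset.univ.filter (fun x => x ∈ (S : Subgroup G))).erase 1 := by
    intro x hx
    rw [Finset.mem_image] at hx
    obtain ⟨i, -, rfl⟩ := hx
    rw [Finset.mem_erase, Finset.mem_filter]
    exact ⟨hf1 i, Finset.mem_univ _, hfS i⟩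
  have hTc : ((Finset.range 7).image (fun i => g ^ i * s₀ * (g ^ i)⁻¹)).card = 7 := by
    rw [Finset.card_image_of_injOn, Finset.card_range]
    intro i hi j hj hij
    simp only [Finset.coe_range, Set.mem_Iio] at hi hj
    by_contra hne
    rcases lt_or_gt_of_ne hne with h | h
    · exact hinj i j h hj hij
    · exact hinj j i h hi hij.symm
  have hUc : ((Finset.univ.filter (fun x => x ∈ (S : Subgroup G))).erase 1).card = 7 := by
    rw [Finset.card_erase_of_mem (by simp)]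
    have : (Finset.univ.filter (fun x => x ∈ (S : Subgroup G))).card = 8 := by
      rw [← hS, Nat.card_eq_fintype_card]
      exact (Fintype.card_subtype _).symm
    rw [this]
  have hTU' := Finset.eq_of_subset_of_card_le hTU (by rw [hTc, hUc])
  have hall : ∀ s ∈ (S : Subgroup G), s ≠ 1 → ∃ i : ℕ, g ^ i * s₀ * (g ^ i)⁻¹ = s := by
    intro s hs hs1
    have : s ∈ (Finset.univ.filter (fun x => x ∈ (S : Subgroup G))).erase 1 := by
      rw [Finset.mem_erase, Finset.mem_filter]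
      exact ⟨hs1, Finset.mem_univ _, hs⟩
    rw [← hTU', Finset.mem_image] at this
    obtain ⟨i, -, hi⟩ := this
    exact ⟨i, hi⟩
  have hconjS : ∀ x : G, x ≠ 1 → x * x = 1 →
      ∃ c : G, c * x * c⁻¹ ∈ (S : Subgroup G) ∧ c * x * c⁻¹ ≠ 1 := by
    intro x hx1 hxx
    have hox : orderOf x = 2 := orderOf_eq_prime (by rw [pow_two]; exact hxx) hx1
    have hp : IsPGroup 2 (Subgroup.zpowers x) :=
      IsPGroup.of_card (n := 1) (by rw [Nat.card_zpowers, hox]; rfl)
    obtain ⟨Q, hQ⟩ := hp.exists_le_sylow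
    obtain ⟨c, hc⟩ := MulAction.exists_smul_eq G Q S
    refine ⟨c, ?_, ?_⟩
    · have hxQ : x ∈ (Q : Subgroup G) := hQ (Subgroup.mem_zpowers x)
      have h1 : MulAut.conj c • x ∈ MulAut.conj c • (Q : Subgroup G) :=
        Subgroup.smul_mem_pointwise_smul _ _ _ hxQ
      rw [← Sylow.coe_subgroup_smul, hc] at h1
      simpa [MulAut.smul_def] using h1
    · intro h
      apply hx1
      have : x = c⁻¹ * (c * x * c⁻¹) * c := by group
      rw [this, h]
      group
  obtain ⟨c₁, hc₁S, hc₁1⟩ := hconjS z hz1 hzz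
  obtain ⟨c₂, hc₂S, hc₂1⟩ := hconjS z' hz'1 hz'z'
  obtain ⟨i, hi⟩ := hall _ hc₁S hc₁1
  obtain ⟨j, hj⟩ := hall _ hc₂S hc₂1
  refine ⟨c₂⁻¹ * g ^ j * (g ^ i)⁻¹ * c₁, ?_⟩
  have h1 : s₀ = (g ^ i)⁻¹ * (c₁ * z * c₁⁻¹) * g ^ i := by
    rw [← hi]
    group
  have h2 : z' = c₂⁻¹ * (g ^ j * s₀ * (g ^ j)⁻¹) * c₂ := by
    rw [hj]
    group
  rw [h2, h1]
  group

example : StInvConj.{u} := invConj

end Cfsg.Agent.H68.S8

#print axioms Cfsg.Agent.H68.S8.invConj
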