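import Cfsg.Agent.H45.S8Strong
import Cfsg.Agent.H68.S9Defs
/-!
Team project S1159 (helper68): the assembly for the small Ree group, on top of helper45's
facts bundle `ReeS8 C` (S1158). All pieces enter as hypotheses.
-/
set_option autoImplicit false
set_option synthInstance.maxHeartbeats 400000
open Cfsg Cfsg.Lie

namespace Cfsg.Agent.H68.S9

open Cfsg.Agent.H45.S8 Cfsg.Agent.H22 Cfsg.Agent.H22.GEx Cfsg.Agent.H22.Ree Cfsg.Agent.H7.RT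
  Cfsg.Agent.H7.RC Matrix

universe u

theorem s1159_of_pieces {K : Type u} [Field K] [Fintype K] [CharP K 3] {m : ℕ}
    (C : Ctx K (3 ^ m)) (hK : Fintype.card K = 3 ^ (2 * m + 1)) (hm : 1 ≤ m) (R : ReeS8 C)
    (hF : StFaith K (3 ^ m))
    (h1154 : Nat.card {u : ↥(chevG2.posUnipotent K ⊓ twistedG2 K (3 ^ m)) // orderOf u = 3} =
      (3 ^ (2 * m + 1)) ^ 2 - 1)
    (hFpf : StFpf.{u, u}) (hHConj : StHConj.{u})
    (hUnip9 : StUnip9.{u}) (hPsl3 : StPsl3.{u}) (hInv3 : StInv3.{u, u})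
    (hInvFix : StInvFix.{u, u}) (hNine : StNine.{u}) (hMain : StOrdMain.{u, u}) (d : ℕ) :
    (∃ g : ↥(Cfsg.Lie.twistedG2 K (3 ^ m)), orderOf g = d) ↔
      (d ∣ 6 ∨ d ∣ 9 ∨ d ∣ 3 ^ (2 * m + 1) - 1 ∨ d ∣ (3 ^ (2 * m + 1) + 1) / 2 ∨
        d ∣ 3 ^ (2 * m + 1) - 3 ^ (m + 1) + 1 ∨ d ∣ 3 ^ (2 * m + 1) + 3 ^ (m + 1) + 1) := by
  classical
  -- 3-elements have 9th power 1 (faithful 7-dimensional representation in characteristic 3)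
  have hExp : ∀ g : ↥(twistedG2 K (3 ^ m)), Is3 g → g ^ 9 = 1 := by
    obtain ⟨f, hf⟩ := hF
    rintro g ⟨j, hj⟩
    apply hf
    rw [map_pow, map_one]
    exact hUnip9 SIdx K (by rw [card_SIdx]; norm_num) (f g)
      ⟨j, by rw [← map_pow, hj, map_one]⟩
  -- an element of order 9
  have h9 : ∃ g : ↥(twistedG2 K (3 ^ m)), orderOf g = 9 := by
    have hV : Nat.card ↥(chevG2.posUnipotent K ⊓ twistedG2 K (3 ^ m)) =
        (3 ^ (2 * m + 1)) ^ 3 := by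
      rw [C.card_eq, Nat.card_eq_fintype_card, hK]
    exact hNine (GL chevG2.Idx K) (chevG2.posUnipotent K ⊓ twistedG2 K (3 ^ m))
      (twistedG2 K (3 ^ m)) (2 * m + 1) (by omega) inf_le_right hV h1154 hExp
  obtain ⟨hH1c, hH1n, hH1fix⟩ := R.h1
  obtain ⟨Φ⟩ := R.phi
  have hconja : ∀ z : ↥(twistedG2 K (3 ^ m)), z ≠ 1 → z * z = 1 →
      ∃ c : ↥(twistedG2 K (3 ^ m)), c * aEl C * c⁻¹ = z :=
    fun z hz1 hz2 => R.invConj (aEl C) z R.a_ne R.a_sq hz1 hz2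
  have hInv := hInv3 ↥(twistedG2 K (3 ^ m)) K (aEl C) Φ hPsl3 hconja
  have hinvfix := hInvFix ↥(twistedG2 K (3 ^ m)) (Om K (3 ^ m)) (aEl C) (qq m)
    (qq m * (qq m ^ 2 - 1)) R.omFixA R.cardCa hconja
  have hfpf := (hFpf ↥(twistedG2 K (3 ^ m)) (Om K (3 ^ m)) m hm R.cardG R.omStab R.comm hinvfix
    R.no4).1
  have hConj := hHConj ↥(twistedG2 K (3 ^ m)) m hm R.cardG R.split R.sylh (H1G K (3 ^ m)) hH1c
    hH1n
  obtain ⟨A₁, hA₁c, hA₁n, -, -, -⟩ := R.exA2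
  obtain ⟨A₃, A₄, ⟨hA₃c, hA₃n, -, hA₃s, -⟩, ⟨hA₄c, hA₄n, -, hA₄s, -⟩⟩ := R.exA34
  have h3a : 3 ∣ Nat.card ↥(Subgroup.centralizer ({aEl C} : Set ↥(twistedG2 K (3 ^ m)))) := by
    rw [R.cardCa]
    exact Dvd.dvd.mul_right (dvd_pow_self 3 (by omega)) _
  exact hMain ↥(twistedG2 K (3 ^ m)) (Om K (3 ^ m)) m hm R.omStab hfpf hExp h9 (H1G K (3 ^ m))
    hH1c hH1n hConj (aEl C) R.a_ne R.a_sq h3a hInv R.quarter R.sylk A₁ hA₁c hA₁n R.sylM A₃ A₄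
    hA₃c hA₃n hA₃s hA₄c hA₄n hA₄s d

end Cfsg.Agent.H68.S9

#print axioms Cfsg.Agent.H68.S9.s1159_of_pieces
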