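import Cfsg.Agent.H68.S9Main
import Cfsg.Agent.H12.S9Unip9
import Cfsg.Agent.H12.S9Psl3
import Cfsg.Agent.H11.S9Nine
import Cfsg.Agent.H11.S9ExSix
import Cfsg.Agent.H15.S9Inv3
import Cfsg.Agent.H15.S9InvFix
import Cfsg.Agent.H15.S9ExHalf
import Cfsg.Agent.H63.S9FixOrd
import Cfsg.Agent.H63.S9TorOrd
import Cfsg.Agent.H63.S9GamOrd
import Cfsg.Agent.H11.S8Ar
/-!
Team project S1159 (helper68): the abstract main step with all pieces plugged in.
Pieces: FIXORD, TORORD, GAMORD (helper63), EXHALF (helper15), EXSIX (helper11), AR5 (helper11).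
-/
set_option autoImplicit false

namespace Cfsg.Agent.H68.S9

open Cfsg.Agent.H45.S8

universe u v

/-- (MAIN) the element orders, abstractly: all pieces plugged in -/
theorem ordMain_final : StOrdMain.{u, v} :=
  ordMain Cfsg.Agent.H11.S8.arCop Cfsg.Agent.H63.S9.fixOrd Cfsg.Agent.H63.S9.torOrd
    Cfsg.Agent.H63.S9.gamOrd Cfsg.Agent.H15.S9.exHalf Cfsg.Agent.H11.S9.exSix

end Cfsg.Agent.H68.S9

#print axioms Cfsg.Agent.H68.S9.ordMain_final
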