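import Cfsg.Agent.H45.S8Fin
import Cfsg.Agent.H68.S9Asm
import Cfsg.Agent.H68.S9Pieces
/-!
Team project S1159 (helper68): all pieces plugged in. The element orders of `²G₂(q)`,
`q = 3^(2m+1) ≥ 27`, given a Ree context, the canonical form / Weyl group statements for `G₂`
and the statements of S1152, S1154, S1156, S1157, S2359 (which the statement file supplies).

Pieces: UNIP9, PSL3 (helper12), NINE, EXSIX (helper11), INV3, INVFIX, EXHALF (helper15),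
FIXORD, TORORD, GAMORD (helper63); from S1158 (helper45): the facts bundle `ReeS8 C`
(`s8_facts_final`), FPF (helper55), HCONJ (helper15), AR5 (helper11).
-/
set_option autoImplicit false
set_option synthInstance.maxHeartbeats 400000
open Cfsg Cfsg.Lie

namespace Cfsg.Agent.H68.S9

open Cfsg.Agent.H45.S8 Cfsg.Agent.H22 Cfsg.Agent.H22.GEx Cfsg.Agent.H22.Ree Cfsg.Agent.H7.RT
  Cfsg.Agent.H7.RC Matrix

universe u

theorem s1159_final {K : Type u} [Field K] [Fintype K] [CharP K 3] {m : ℕ} (C : Ctx K (3 ^ m))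
    (hK : Fintype.card K = 3 ^ (2 * m + 1)) (hm : 1 ≤ m) (hcan : CanonG2 K) (hW : WeylG2 K)
    (h1152 : ∀ a : ↥(twistedG2 K (3 ^ m)),
      (a : GL chevG2.Idx K) ∈ chevG2.diagonalSubgroup K → a ≠ 1 → a * a = 1 →
      Nonempty (↥(Subgroup.centralizer {a}) ≃*
        Multiplicative (ZMod 2) × Matrix.ProjectiveSpecialLinearGroup (Fin 2) K) ∧
        ∀ S : Sylow 2 ↥(twistedG2 K (3 ^ m)), Nat.card S = 8 ∧ ∀ x ∈ S, x * x = 1)
    (h1157 : ∀ S : Sylow 2 ↥(twistedG2 K (3 ^ m)),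
      Subgroup.centralizer ((S : Subgroup ↥(twistedG2 K (3 ^ m))) : Set ↥(twistedG2 K (3 ^ m))) = S ∧
      Nat.card (Subgroup.normalizer
        ((S : Subgroup ↥(twistedG2 K (3 ^ m))) : Set ↥(twistedG2 K (3 ^ m)))) = 168)
    (h1156 : ∀ {p : ℕ} [Fact p.Prime], 3 < p → ∀ P : Sylow p ↥(twistedG2 K (3 ^ m)),
      IsCyclic (P : Subgroup ↥(twistedG2 K (3 ^ m))))
    (hSplit : HSplit ↥(twistedG2 K (3 ^ m)) m) (hQuarter : HQuarter ↥(twistedG2 K (3 ^ m)) m)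
    (h1154 : Nat.card {u : ↥(chevG2.posUnipotent K ⊓ twistedG2 K (3 ^ m)) // orderOf u = 3} =
      (3 ^ (2 * m + 1)) ^ 2 - 1) (d : ℕ) :
    (∃ g : ↥(Cfsg.Lie.twistedG2 K (3 ^ m)), orderOf g = d) ↔
      (d ∣ 6 ∨ d ∣ 9 ∨ d ∣ 3 ^ (2 * m + 1) - 1 ∨ d ∣ (3 ^ (2 * m + 1) + 1) / 2 ∨
        d ∣ 3 ^ (2 * m + 1) - 3 ^ (m + 1) + 1 ∨ d ∣ 3 ^ (2 * m + 1) + 3 ^ (m + 1) + 1) := by
  have R := s8_facts_final C hK hm hcan hW h1152 h1157 h1156 hSplit hQuarter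
  have htw : StInvTw K (3 ^ m) := Cfsg.Agent.H8.RC.invTw Cfsg.Agent.H7.RC.invGen (3 ^ m)
  have hF : StFaith K (3 ^ m) :=
    Cfsg.Agent.H7.RC.faith C hK hm hcan hW htw Cfsg.Agent.H19.RC.blockHom
  exact s1159_of_pieces C hK hm R hF h1154 Cfsg.Agent.Helper55.S8.fpf Cfsg.Agent.H15.S8.hConj
    Cfsg.Agent.H12.S9.unip9 Cfsg.Agent.H12.S9.psl3 Cfsg.Agent.H15.S9.inv3
    Cfsg.Agent.H15.S9.invFix Cfsg.Agent.H11.S9.nine ordMain_final d

end Cfsg.Agent.H68.S9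

#print axioms Cfsg.Agent.H68.S9.s1159_final
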