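import Mathlib
import Cfsg.Agent.H45.S8Defs0
import Cfsg.Agent.H68.S9Defs
/-!
Team project S1159 (helper68): the abstract main step, from the pieces.
-/
set_option autoImplicit false

namespace Cfsg.Agent.H68.S9

open Cfsg.Agent.H45.S8

universe u v

/-- (MAIN) the element orders, abstractly, from the pieces -/
theorem ordMain (hArCop : StArCop) (hFixOrd : StFixOrd.{u}) (hTorOrd : StTorOrd.{u})
    (hGamOrd : StGamOrd.{u}) (hExHalf : StExHalf.{u}) (hExSix : StExSix.{u}) :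
    StOrdMain.{u, v} := by
  intro G _ _ Ω _ m hm hStab hFpf hExp hNine Hd hHdc hHdn hConj a ha1 ha2 h3a hInv hQ hSylk
    A₁ hA₁c hA₁n hSylM A₃ A₄ hA₃c hA₃n hA₃s hA₄c hA₄n hA₄s d
  have hdiv : ∀ (N : ℕ), (∃ g : G, orderOf g = N) → ∀ d, d ∣ N → ∃ g : G, orderOf g = d := by
    rintro N ⟨g, rfl⟩ d hd
    exact ⟨g ^ (orderOf g / d), orderOf_pow_orderOf_div (orderOf_pos g).ne' hd⟩
  have hcyc : ∀ A : Subgroup G, IsCyclic ↥A → ∃ g : G, orderOf g = Nat.card ↥A := by
    intro A hA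
    obtain ⟨g, hg⟩ := hA.exists_generator
    refine ⟨(g : G), ?_⟩
    rw [Subgroup.orderOf_coe, orderOf_eq_card_of_forall_mem_zpowers hg]
  constructor
  · rintro ⟨g, rfl⟩
    by_cases hfix : ∃ x : Ω, g • x = x
    · obtain ⟨x, hx⟩ := hfix
      rcases hFixOrd G m hm hArCop hExp Hd hHdn hConj hInv g (hStab g x hx) with h | h | h
      · exact Or.inl h
      · exact Or.inr (Or.inl h)
      · exact Or.inr (Or.inr (Or.inl h))
    · have hg : g ∈ FpfSet G Ω := fun x hx => hfix ⟨x, hx⟩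
      rw [hFpf] at hg
      rcases hg with hg | hg
      · rcases hTorOrd G m hm hSylM A₃ A₄ hA₃c hA₃n hA₃s hA₄c hA₄n hA₄s g hg with h | h
        · exact Or.inr (Or.inr (Or.inr (Or.inr (Or.inl h))))
        · exact Or.inr (Or.inr (Or.inr (Or.inr (Or.inr h))))
      · exact Or.inr (Or.inr (Or.inr (Or.inl
          (hGamOrd G m hm hArCop hQ hSylk A₁ hA₁c hA₁n g hg))))
  · rintro (h | h | h | h | h | h)
    · exact hdiv 6 (hExSix G a ha1 ha2 h3a) d h
    · exact hdiv 9 hNine d h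
    · exact hdiv _ (by rw [← hHdn]; exact hcyc Hd hHdc) d h
    · exact hdiv _ (hExHalf G m hm hArCop hQ A₁ hA₁c hA₁n) d h
    · exact hdiv _ (by rw [← hA₃n]; exact hcyc A₃ hA₃c) d h
    · exact hdiv _ (by rw [← hA₄n]; exact hcyc A₄ hA₄c) d h

end Cfsg.Agent.H68.S9

#print axioms Cfsg.Agent.H68.S9.ordMain
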