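import Mathlib
import Cfsg.Agent.H42.SqDefs
import Cfsg.Agent.H52.Subnormal
import Cfsg.Agent.H14.Cores

/-!
# S2945, piece SQ-COMM (for helper42)

A subnormal subgroup `K` of `H` acting on the elementary abelian 2-group `V` as a group of
order 3 with commutator of order 4 commutes modulo `C(V)` with its `H`-conjugates.

Route: in the faithful image in `Aut(V)` the images `x`, `y` of elements of `K`, `K^a` lie in
`O₃`; `R = ⟨x, y⟩` preserves `U = [V,x][V,y]` (order `≤ 16`).  If `x` is not central in `R`,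
the normalizer condition gives `γ ∈ N_R(C_R(x)) ∖ C_R(x)`; then `x`, `x^γ`, `x^{γ²}` commute
pairwise and are pairwise non-proportional, so their commutator four-groups are independent
inside `U`: `64 ≤ 16`.
-/

set_option autoImplicit false
set_option linter.unusedVariables false

open Cfsg
open scoped commutatorElement Pointwise

namespace Cfsg.Agent.H68.Sq

universe u

section Aut

variable {V : Type u} [CommGroup V]

/-- The commutator subgroup `[V, f]` of an automorphism (written for exponent 2). -/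
def cm (f : MulAut V) : Subgroup V := (f.toMonoidHom * MonoidHom.id V).range

theorem mem_cm (f : MulAut V) (w : V) : w ∈ cm f ↔ ∃ v, f v * v = w := by
  unfold cm
  rw [MonoidHom.mem_range]
  rfl

theorem cm_self (f : MulAut V) (v : V) : f v * v ∈ cm f := (mem_cm f _).mpr ⟨v, rfl⟩

theorem cm_comm (f g : MulAut V) (hgf : g * f = f * g) {w : V} (hw : w ∈ cm f) :
    g w ∈ cm f := by
  obtain ⟨v, rfl⟩ := (mem_cm f w).mp hw
  rw [mem_cm]
  refine ⟨g v, ?_⟩
  have h1 : f (g v) = g (f v) := by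
    have := congrArg (fun a : MulAut V => a v) hgf
    simp only [MulAut.mul_apply] at this
    exact this.symm
  rw [h1, map_mul]

theorem cm_conj (f g : MulAut V) : cm (g * f * g⁻¹) = (cm f).map g.toMonoidHom := by
  ext w
  rw [mem_cm, Subgroup.mem_map]
  constructor
  · rintro ⟨v, rfl⟩
    refine ⟨f (g⁻¹ v) * g⁻¹ v, cm_self f _, ?_⟩
    simp only [MulEquiv.coe_toMonoidHom, map_mul, MulAut.mul_apply, MulAut.apply_inv_self]
  · rintro ⟨z, hz, rfl⟩
    obtain ⟨v, rfl⟩ := (mem_cm f z).mp hz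
    refine ⟨g v, ?_⟩
    simp only [MulEquiv.coe_toMonoidHom, map_mul, MulAut.mul_apply, MulAut.inv_apply_self]

theorem card_cm_conj (f g : MulAut V) :
    Nat.card (cm (g * f * g⁻¹)) = Nat.card (cm f) := by
  rw [cm_conj]
  exact Nat.card_congr
    (Subgroup.equivMapOfInjective (cm f) g.toMonoidHom g.injective).toEquiv.symm

theorem eq_of_mul_eq_one' (h2 : ∀ v : V, v * v = 1) {p q : V} (hpq : p * q = 1) : p = q := by
  have := eq_inv_of_mul_eq_one_left hpq
  rw [this]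
  exact inv_eq_of_mul_eq_one_right (h2 q)

/-- A `3`-element acts without fixed points on its commutator. -/
theorem fpf (h2 : ∀ v : V, v * v = 1) (f : MulAut V) (hf : ∃ n : ℕ, f ^ (3 ^ n) = 1) {w : V}
    (hw : w ∈ cm f) (hfw : f w = w) : w = 1 := by
  obtain ⟨v, hv⟩ := (mem_cm f w).mp hw
  obtain ⟨n, hn⟩ := hf
  have e : f v = w * v := by rw [← hv, mul_assoc, h2, mul_one]
  have key : ∀ m : ℕ, (f ^ m) v = v * w ^ m := by
    intro m
    induction m with
    | zero => simp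
    | succ m ih =>
      rw [pow_succ', MulAut.mul_apply, ih, map_mul, map_pow, hfw, e, pow_succ]
      ac_rfl
  have h3 := key (3 ^ n)
  rw [hn, MulAut.one_apply] at h3
  have h4 : w ^ (3 ^ n) = 1 := mul_left_cancel (a := v) (by rw [mul_one]; exact h3.symm)
  have hw2 : w ^ 2 = 1 := by rw [pow_two]; exact h2 w
  obtain ⟨m, hm⟩ : Odd (3 ^ n) := Odd.pow (by decide)
  rw [hm, pow_succ, pow_mul, hw2, one_pow, one_mul] at h4
  exact h4

/-- A subgroup of a group of order 4 with two distinct nontrivial elements is everything. -/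
theorem three [Finite V] (I W : Subgroup V) (hIW : I ≤ W) (hW : Nat.card W = 4) {c d : V}
    (hc : c ∈ I) (hd : d ∈ I) (hc1 : c ≠ 1) (hd1 : d ≠ 1) (hcd : c ≠ d) : I = W := by
  have h3 : 3 ≤ Nat.card I := by
    have hsub : ({1, c, d} : Set V) ⊆ (I : Set V) := by
      intro z hz
      simp only [Set.mem_insert_iff, Set.mem_singleton_iff] at hz
      rcases hz with rfl | rfl | rfl
      · exact I.one_mem
      · exact hc
      · exact hd
    have h := Set.ncard_le_ncard hsub (Set.toFinite _)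
    have e3 : ({1, c, d} : Set V).ncard = 3 := by
      rw [Set.ncard_eq_three]
      exact ⟨1, c, d, fun h => hc1 h.symm, fun h => hd1 h.symm, hcd, rfl⟩
    rw [e3] at h
    have e4 : Nat.card I = (I : Set V).ncard := Nat.card_coe_set_eq (I : Set V)
    rw [e4]
    exact h
  have hdvd : Nat.card I ∣ 4 := hW ▸ Subgroup.card_dvd_of_le hIW
  have hle : Nat.card I ≤ 4 := Nat.le_of_dvd (by norm_num) hdvd
  have h4 : Nat.card I = 4 := by
    have h34 : Nat.card I = 3 ∨ Nat.card I = 4 := by omega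
    rcases h34 with h | h
    · rw [h] at hdvd
      norm_num at hdvd
    · exact h
  exact Subgroup.eq_of_le_of_card_ge hIW (by rw [hW, h4])

/-- Commuting `s`, `t` with commutators of order 4: `t` is trivial on `[V,s]`, or the
commutators agree. -/
theorem dich [Finite V] (h2 : ∀ v : V, v * v = 1) (s t : MulAut V) (hst : s * t = t * s)
    (ht : ∃ n : ℕ, t ^ (3 ^ n) = 1) (hs4 : Nat.card (cm s) = 4) (ht4 : Nat.card (cm t) = 4) :
    (∀ w ∈ cm s, t w = w) ∨ cm s = cm t := by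
  by_cases h : ∀ w ∈ cm s, t w = w
  · exact Or.inl h
  · right
    push_neg at h
    obtain ⟨w0, hw0, hne⟩ := h
    have hc_t : t w0 * w0 ∈ cm t := cm_self t w0
    have hc_s : t w0 * w0 ∈ cm s := (cm s).mul_mem (cm_comm s t hst.symm hw0) hw0
    have hc1 : t w0 * w0 ≠ 1 := fun h1 => hne (eq_of_mul_eq_one' h2 h1)
    have htc_ne : t (t w0 * w0) ≠ t w0 * w0 := fun h1 => hc1 (fpf h2 t ht hc_t h1)
    have htc1 : t (t w0 * w0) ≠ 1 := by
      intro h1
      apply hc1
      have : t (t w0 * w0) = t 1 := by rw [h1, map_one]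
      exact t.injective this
    have htc_t : t (t w0 * w0) ∈ cm t := cm_comm t t rfl hc_t
    have htc_s : t (t w0 * w0) ∈ cm s := cm_comm s t hst.symm hc_s
    have hI : cm s ⊓ cm t = cm s :=
      three (cm s ⊓ cm t) (cm s) inf_le_left hs4 (Subgroup.mem_inf.mpr ⟨hc_s, hc_t⟩)
        (Subgroup.mem_inf.mpr ⟨htc_s, htc_t⟩) hc1 htc1 (fun h1 => htc_ne h1.symm)
    have hle : cm s ≤ cm t := by
      intro z hz
      rw [← hI] at hz
      exact (Subgroup.mem_inf.mp hz).2
    exact Subgroup.eq_of_le_of_card_ge hle (by rw [hs4, ht4])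

theorem pow3 (s : MulAut V) (hs3 : s * s * s = 1) : ∃ n : ℕ, s ^ (3 ^ n) = 1 :=
  ⟨1, by rw [pow_one, show (3 : ℕ) = 2 + 1 from rfl, pow_succ, pow_two]; exact hs3⟩

theorem nlem (h2 : ∀ v : V, v * v = 1) (s : MulAut V) (hs3 : s * s * s = 1) {b : V}
    (hb : b ∈ cm s) : b * s b * s (s b) = 1 := by
  have h3 : s (s (s b)) = b := by
    have := congrArg (fun a : MulAut V => a b) hs3
    simpa [MulAut.mul_apply] using this
  apply fpf h2 s (pow3 s hs3)
  · exact (cm s).mul_mem ((cm s).mul_mem hb (cm_comm s s rfl hb))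
      (cm_comm s s rfl (cm_comm s s rfl hb))
  · rw [map_mul, map_mul, h3]
    ac_rfl

theorem odd_pow_self (u : MulAut V) (hu : ∃ n : ℕ, u ^ (3 ^ n) = 1) (huu : u * u = 1) : u = 1 := by
  obtain ⟨n, hn⟩ := hu
  obtain ⟨m, hm⟩ : Odd (3 ^ n) := Odd.pow (by decide)
  have h : u ^ (3 ^ n) = u := by
    rw [hm, pow_succ, pow_mul, pow_two, huu, one_pow, one_mul]
  calc u = u ^ (3 ^ n) := h.symm
    _ = 1 := hn

theorem triv [Finite V] (h2 : ∀ v : V, v * v = 1) (s u : MulAut V)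
    (hs : ∃ n : ℕ, s ^ (3 ^ n) = 1) (hu : ∃ n : ℕ, u ^ (3 ^ n) = 1) (hus : u * s = s * u)
    (hs4 : Nat.card (cm s) = 4) (huW : ∀ v : V, u v * v ∈ cm s) {a : V} (ha : a ∈ cm s)
    (ha1 : a ≠ 1) (hua : u a = a) : u = 1 := by
  have hmemF : ∀ z : V, z ∈ (u.toMonoidHom / MonoidHom.id V).ker ↔ u z = z := by
    intro z
    rw [MonoidHom.mem_ker, MonoidHom.div_apply, MonoidHom.id_apply, MulEquiv.coe_toMonoidHom,
      div_eq_one]
  have hF : cm s ⊓ (u.toMonoidHom / MonoidHom.id V).ker = cm s := by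
    have hsa : s a ∈ cm s := cm_comm s s rfl ha
    have husa : u (s a) = s a := by
      have := congrArg (fun f : MulAut V => f a) hus
      simp only [MulAut.mul_apply] at this
      rw [this, hua]
    have hsa_ne : s a ≠ a := fun h => ha1 (fpf h2 s hs ha h)
    have hsa1 : s a ≠ 1 := by
      intro h1
      apply ha1
      exact s.injective (by rw [h1, map_one])
    exact three _ (cm s) inf_le_left hs4 (Subgroup.mem_inf.mpr ⟨ha, (hmemF a).mpr hua⟩)
      (Subgroup.mem_inf.mpr ⟨hsa, (hmemF _).mpr husa⟩) ha1 hsa1 (fun h => hsa_ne h.symm)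
  have hfix : ∀ w ∈ cm s, u w = w := by
    intro w hw
    rw [← hF] at hw
    exact (hmemF w).mp (Subgroup.mem_inf.mp hw).2
  have huu : u * u = 1 := by
    ext v
    rw [MulAut.mul_apply, MulAut.one_apply]
    have hδ := hfix _ (huW v)
    rw [map_mul] at hδ
    have hδ' : u (u v) * u v = v * u v := by rw [hδ, mul_comm]
    exact mul_right_cancel hδ'
  exact odd_pow_self u hu huu

theorem hel_of {R : Subgroup (MulAut V)} (hR : IsPGroup 3 R) :
    ∀ r ∈ R, ∃ n : ℕ, r ^ (3 ^ n) = 1 := by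
  intro r hr
  obtain ⟨n, hn⟩ := hR ⟨r, hr⟩
  refine ⟨n, ?_⟩
  have := congrArg Subtype.val hn
  simpa using this

/-- Commuting elements of order 3 with the same commutator of order 4 are proportional. -/
theorem sc [Finite V] (h2 : ∀ v : V, v * v = 1) (R : Subgroup (MulAut V)) (hR : IsPGroup 3 R)
    (s t : MulAut V) (hsR : s ∈ R) (htR : t ∈ R) (hst : s * t = t * s)
    (hs3 : s * s * s = 1) (ht3 : t * t * t = 1) (hs4 : Nat.card (cm s) = 4)
    (hcm : cm s = cm t) : t = s ∨ t = s⁻¹ := by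
  have hel := hel_of hR
  obtain ⟨a, ha, ha1⟩ : ∃ a ∈ cm s, a ≠ 1 := by
    by_contra hcon
    push_neg at hcon
    have hbot : cm s = ⊥ := (Subgroup.eq_bot_iff_forall _).mpr hcon
    rw [hbot] at hs4
    simp at hs4
  have hs : ∃ n : ℕ, s ^ (3 ^ n) = 1 := hel s hsR
  have hsss : ∀ z : V, s (s (s z)) = z := by
    intro z
    have := congrArg (fun f : MulAut V => f z) hs3
    simpa [MulAut.mul_apply] using this
  have hb : t a ∈ cm s := cm_comm s t hst.symm ha
  have hat : a ∈ cm t := by rw [← hcm]; exact ha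
  have hNt := nlem h2 t ht3 hat
  have hNs := nlem h2 s hs3 hb
  have hw : t a * s (s a) ∈ cm s :=
    (cm s).mul_mem hb (cm_comm s s rfl (cm_comm s s rfl ha))
  have hcomm : ∀ z : V, t (s z) = s (t z) := by
    intro z
    have := congrArg (fun f : MulAut V => f z) hst
    simp only [MulAut.mul_apply] at this
    exact this.symm
  have htw : t (t a * s (s a)) = s (t a * s (s a)) := by
    rw [map_mul, map_mul, hcomm, hcomm, hsss]
    have e1 : t (t a) = a * t a := by
      have := eq_inv_of_mul_eq_one_right hNt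
      rw [this]
      exact inv_eq_of_mul_eq_one_right (h2 _)
    have e2 : s (s (t a)) = t a * s (t a) := by
      have := eq_inv_of_mul_eq_one_right hNs
      rw [this]
      exact inv_eq_of_mul_eq_one_right (h2 _)
    rw [e1, e2]
    have h22 : t a * t a = 1 := h2 _
    calc a * t a * (t a * s (t a)) = a * (t a * t a) * s (t a) := by ac_rfl
      _ = s (t a) * a := by rw [h22, mul_one, mul_comm]
  have hcmW : ∀ v : V, t v * v ∈ cm s := by
    intro v
    rw [hcm]
    exact cm_self t v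
  by_cases hw1 : t a * s (s a) = 1
  · right
    have hta : t a = s (s a) := eq_of_mul_eq_one' h2 hw1
    have hu1 : s * t = 1 := by
      apply triv h2 s (s * t) hs (hel _ (R.mul_mem hsR htR)) ?_ hs4 ?_ ha ha1 ?_
      · rw [mul_assoc, ← hst]
      · intro v
        rw [MulAut.mul_apply]
        have h22 := h2 (t v)
        have e : s (t v) * v = (s (t v) * t v) * (t v * v) := by
          calc s (t v) * v = s (t v) * (t v * t v) * v := by rw [h22, mul_one]
            _ = (s (t v) * t v) * (t v * v) := by ac_rfl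
        rw [e]
        exact (cm s).mul_mem (cm_self s _) (hcmW v)
      · rw [MulAut.mul_apply, hta, hsss]
    exact eq_inv_of_mul_eq_one_right hu1
  · left
    have hu1 : s⁻¹ * t = 1 := by
      apply triv h2 s (s⁻¹ * t) hs (hel _ (R.mul_mem (R.inv_mem hsR) htR)) ?_ hs4 ?_ hw hw1 ?_
      · rw [mul_assoc, ← hst]
        group
      · intro v
        rw [MulAut.mul_apply]
        have h22 := h2 (t v)
        have e : s⁻¹ (t v) * v = (s (s⁻¹ (t v)) * s⁻¹ (t v)) * (t v * v) := by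
          rw [MulAut.apply_inv_self]
          calc s⁻¹ (t v) * v = s⁻¹ (t v) * (t v * t v) * v := by rw [h22, mul_one]
            _ = (t v * s⁻¹ (t v)) * (t v * v) := by ac_rfl
        rw [e]
        exact (cm s).mul_mem (cm_self s _) (hcmW v)
      · rw [MulAut.mul_apply, htw, MulAut.inv_apply_self]
    have := eq_inv_of_mul_eq_one_right hu1
    rw [this, inv_inv]

theorem orth [Finite V] (h2 : ∀ v : V, v * v = 1) (R : Subgroup (MulAut V)) (hR : IsPGroup 3 R)
    (s t : MulAut V) (hsR : s ∈ R) (htR : t ∈ R) (hst : s * t = t * s)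
    (hs3 : s * s * s = 1) (ht3 : t * t * t = 1) (hs4 : Nat.card (cm s) = 4)
    (ht4 : Nat.card (cm t) = 4) (hne1 : t ≠ s) (hne2 : t ≠ s⁻¹) :
    (∀ w ∈ cm s, t w = w) ∧ (∀ w ∈ cm t, s w = w) := by
  have hel := hel_of hR
  constructor
  · rcases dich h2 s t hst (hel t htR) hs4 ht4 with h | h
    · exact h
    · rcases sc h2 R hR s t hsR htR hst hs3 ht3 hs4 h with h' | h'
      · exact absurd h' hne1
      · exact absurd h' hne2
  · rcases dich h2 t s hst.symm (hel s hsR) ht4 hs4 with h | h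
    · exact h
    · rcases sc h2 R hR s t hsR htR hst hs3 ht3 hs4 h.symm with h' | h'
      · exact absurd h' hne1
      · exact absurd h' hne2

theorem comm_of_sq_comm (γ x : MulAut V) (hγ : ∃ n : ℕ, γ ^ (3 ^ n) = 1)
    (h : (γ * γ) * x = x * (γ * γ)) : γ * x = x * γ := by
  obtain ⟨n, hn⟩ := hγ
  obtain ⟨m, hm⟩ : Odd (3 ^ n) := Odd.pow (by decide)
  have e : γ = (γ * γ) ^ (m + 1) := by
    rw [← pow_two, ← pow_mul]
    have e2 : 2 * (m + 1) = 3 ^ n + 1 := by rw [hm]; ring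
    rw [e2, pow_succ, hn, one_mul]
  have hc : Commute (γ * γ) x := h
  have h3 := hc.pow_left (m + 1)
  rw [← e] at h3
  exact h3.eq

theorem np (γ x : MulAut V) (hγ : ∃ n : ℕ, γ ^ (3 ^ n) = 1)
    (h : γ * x * γ⁻¹ = x ∨ γ * x * γ⁻¹ = x⁻¹) : γ * x = x * γ := by
  rcases h with h | h
  · calc γ * x = (γ * x * γ⁻¹) * γ := by group
      _ = x * γ := by rw [h]
  · apply comm_of_sq_comm γ x hγ
    calc (γ * γ) * x = γ * (γ * x * γ⁻¹) * γ := by group
      _ = γ * x⁻¹ * γ := by rw [h]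
      _ = (γ * x * γ⁻¹)⁻¹ * (γ * γ) := by group
      _ = x * (γ * γ) := by rw [h, inv_inv]

/-- The core: two elements of a 3-subgroup of `Aut(V)`, of order 3 (the first), with
commutators of order 4, commute. -/
theorem aut_comm [Finite V] (h2 : ∀ v : V, v * v = 1) (P : Subgroup (MulAut V))
    (hP : IsPGroup 3 P) (x y : MulAut V) (hx : x ∈ P) (hy : y ∈ P) (hx3 : x * x * x = 1)
    (hx4 : Nat.card (cm x) = 4) (hy4 : Nat.card (cm y) = 4) : x * y = y * x := by
  by_contra hxy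
  haveI : Fact (Nat.Prime 3) := ⟨Nat.prime_three⟩
  obtain ⟨R, hRdef⟩ : ∃ R : Subgroup (MulAut V), R = Subgroup.closure {x, y} := ⟨_, rfl⟩
  have hxR : x ∈ R := by rw [hRdef]; exact Subgroup.subset_closure (by simp)
  have hyR : y ∈ R := by rw [hRdef]; exact Subgroup.subset_closure (by simp)
  have hRP : R ≤ P := by
    rw [hRdef, Subgroup.closure_le]
    intro z hz
    simp only [Set.mem_insert_iff, Set.mem_singleton_iff] at hz
    rcases hz with rfl | rfl
    · exact hx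
    · exact hy
  have hR : IsPGroup 3 R := hP.to_le hRP
  have hel := hel_of hR
  obtain ⟨U, hUdef⟩ : ∃ U : Subgroup V, U = cm x ⊔ cm y := ⟨_, rfl⟩
  have hU16 : Nat.card U ≤ 16 := by
    have h1 : ((cm x ⊔ cm y : Subgroup V) : Set V) = (cm x : Set V) * (cm y : Set V) :=
      Subgroup.mul_normal (cm x) (cm y)
    have h2' : Nat.card U = Nat.card ((cm x : Set V) * (cm y : Set V) : Set V) := by
      rw [hUdef, ← h1]
      rfl
    rw [h2']
    have e1 : Nat.card (cm x : Set V) = Nat.card (cm x) := rfl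
    have e2 : Nat.card (cm y : Set V) = Nat.card (cm y) := rfl
    calc Nat.card ((cm x : Set V) * (cm y : Set V) : Set V)
        ≤ Nat.card (cm x : Set V) * Nat.card (cm y : Set V) := Set.natCard_mul_le
      _ = 16 := by rw [e1, e2, hx4, hy4]
  have hInv : ∀ r ∈ R, ∀ u ∈ U, r u ∈ U ∧ r⁻¹ u ∈ U := by
    intro r hr
    rw [hRdef] at hr
    induction hr using Subgroup.closure_induction with
    | mem z hz =>
      intro u hu
      have hzU : cm z ≤ U := by
        simp only [Set.mem_insert_iff, Set.mem_singleton_iff] at hz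
        rcases hz with rfl | rfl
        · rw [hUdef]; exact le_sup_left
        · rw [hUdef]; exact le_sup_right
      constructor
      · have e : z u = (z u * u) * u := by rw [mul_assoc, h2, mul_one]
        rw [e]
        exact U.mul_mem (hzU (cm_self z u)) hu
      · have e : z⁻¹ u = (z (z⁻¹ u) * z⁻¹ u) * u := by
          rw [MulAut.apply_inv_self, mul_comm u, mul_assoc, h2, mul_one]
        rw [e]
        exact U.mul_mem (hzU (cm_self z _)) hu
    | one =>
      intro u hu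
      refine ⟨?_, ?_⟩ <;> simpa using hu
    | mul a b _ _ ha hb =>
      intro u hu
      constructor
      · rw [MulAut.mul_apply]
        exact (ha _ (hb u hu).1).1
      · rw [mul_inv_rev, MulAut.mul_apply]
        exact (hb _ (ha u hu).2).2
    | inv a _ ha =>
      intro u hu
      constructor
      · exact (ha u hu).2
      · rw [inv_inv]
        exact (ha u hu).1
  -- the normalizer condition in `R`
  have hnil : Group.IsNilpotent ↥R := hR.isNilpotent
  have hNC : NormalizerCondition ↥R := Group.normalizerCondition_of_isNilpotent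
  have hDne : Subgroup.centralizer ({(⟨x, hxR⟩ : ↥R)} : Set ↥R) ≠ ⊤ := by
    intro htop
    have hyD : (⟨y, hyR⟩ : ↥R) ∈ Subgroup.centralizer ({(⟨x, hxR⟩ : ↥R)} : Set ↥R) := by
      rw [htop]
      trivial
    rw [Subgroup.mem_centralizer_iff] at hyD
    have h1 := hyD ⟨x, hxR⟩ rfl
    exact hxy (congrArg Subtype.val h1)
  obtain ⟨g, hgN, hgD⟩ := SetLike.exists_of_lt (hNC _ (lt_top_iff_ne_top.mpr hDne))
  have hxD : (⟨x, hxR⟩ : ↥R) ∈ Subgroup.centralizer ({(⟨x, hxR⟩ : ↥R)} : Set ↥R) := by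
    rw [Subgroup.mem_centralizer_iff]
    intro h hh
    rw [Set.mem_singleton_iff] at hh
    rw [hh]
  have h1D := (Subgroup.mem_normalizer_iff.mp hgN _).mp hxD
  have h2D := (Subgroup.mem_normalizer_iff.mp hgN _).mp h1D
  rw [Subgroup.mem_centralizer_iff] at h1D h2D hgD
  obtain ⟨γ, hγdef⟩ : ∃ γ : MulAut V, γ = (g : MulAut V) := ⟨_, rfl⟩
  have hγR : γ ∈ R := by rw [hγdef]; exact g.2
  have hγx : ¬ (γ * x = x * γ) := by
    intro hc
    apply hgD
    intro h hh
    rw [Set.mem_singleton_iff] at hh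
    rw [hh]
    apply Subtype.ext
    show x * (g : MulAut V) = (g : MulAut V) * x
    rw [← hγdef]
    exact hc.symm
  have c01 : x * (γ * x * γ⁻¹) = (γ * x * γ⁻¹) * x := by
    rw [hγdef]
    exact congrArg Subtype.val (h1D ⟨x, hxR⟩ rfl)
  have c02 : x * (γ * (γ * x * γ⁻¹) * γ⁻¹) = (γ * (γ * x * γ⁻¹) * γ⁻¹) * x := by
    rw [hγdef]
    exact congrArg Subtype.val (h2D ⟨x, hxR⟩ rfl)
  obtain ⟨x1, hx1def⟩ : ∃ x1 : MulAut V, x1 = γ * x * γ⁻¹ := ⟨_, rfl⟩
  obtain ⟨x2, hx2def⟩ : ∃ x2 : MulAut V, x2 = γ * x1 * γ⁻¹ := ⟨_, rfl⟩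
  rw [← hx1def] at c01 c02
  rw [← hx2def] at c02
  have hx1R : x1 ∈ R := by
    rw [hx1def]
    exact R.mul_mem (R.mul_mem hγR hxR) (R.inv_mem hγR)
  have hx2R : x2 ∈ R := by
    rw [hx2def]
    exact R.mul_mem (R.mul_mem hγR hx1R) (R.inv_mem hγR)
  have e1 : x1 * γ = γ * x := by rw [hx1def]; group
  have e1' : γ⁻¹ * x1 = x * γ⁻¹ := by rw [hx1def]; group
  have c12 : x1 * x2 = x2 * x1 := by
    rw [hx2def]
    calc x1 * (γ * x1 * γ⁻¹) = (x1 * γ) * x1 * γ⁻¹ := by group
      _ = (γ * x) * x1 * γ⁻¹ := by rw [e1]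
      _ = γ * (x * x1) * γ⁻¹ := by group
      _ = γ * (x1 * x) * γ⁻¹ := by rw [c01]
      _ = γ * x1 * (x * γ⁻¹) := by group
      _ = γ * x1 * (γ⁻¹ * x1) := by rw [e1']
      _ = γ * x1 * γ⁻¹ * x1 := by group
  have hx13 : x1 * x1 * x1 = 1 := by
    rw [hx1def]
    calc γ * x * γ⁻¹ * (γ * x * γ⁻¹) * (γ * x * γ⁻¹) = γ * (x * x * x) * γ⁻¹ := by group
      _ = 1 := by rw [hx3]; group
  have hx23 : x2 * x2 * x2 = 1 := by
    rw [hx2def]
    calc γ * x1 * γ⁻¹ * (γ * x1 * γ⁻¹) * (γ * x1 * γ⁻¹) = γ * (x1 * x1 * x1) * γ⁻¹ := by group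
      _ = 1 := by rw [hx13]; group
  have h14 : Nat.card (cm x1) = 4 := by rw [hx1def, card_cm_conj]; exact hx4
  have h24 : Nat.card (cm x2) = 4 := by rw [hx2def, card_cm_conj]; exact h14
  have n01 : x1 ≠ x ∧ x1 ≠ x⁻¹ := by
    constructor
    · intro h
      exact hγx (np γ x (hel γ hγR) (Or.inl (by rw [← hx1def]; exact h)))
    · intro h
      exact hγx (np γ x (hel γ hγR) (Or.inr (by rw [← hx1def]; exact h)))
  have n12 : x2 ≠ x1 ∧ x2 ≠ x1⁻¹ := by
    have aux : γ * x1 = x1 * γ → False := by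
      intro hc
      apply hγx
      have h3 : γ * (γ * x * γ⁻¹) = γ * x := by
        rw [hx1def] at hc
        calc γ * (γ * x * γ⁻¹) = γ * x * γ⁻¹ * γ := hc
          _ = γ * x := by group
      have h4 : γ * x * γ⁻¹ = x := mul_left_cancel h3
      calc γ * x = (γ * x * γ⁻¹) * γ := by group
        _ = x * γ := by rw [h4]
    constructor
    · intro h
      exact aux (np γ x1 (hel γ hγR) (Or.inl (by rw [← hx2def]; exact h)))
    · intro h
      exact aux (np γ x1 (hel γ hγR) (Or.inr (by rw [← hx2def]; exact h)))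
  have n02 : x2 ≠ x ∧ x2 ≠ x⁻¹ := by
    have e : x2 = (γ * γ) * x * (γ * γ)⁻¹ := by rw [hx2def, hx1def]; group
    have aux : (γ * γ) * x = x * (γ * γ) → False :=
      fun hc => hγx (comm_of_sq_comm γ x (hel γ hγR) hc)
    have hγγ : ∃ n : ℕ, (γ * γ) ^ (3 ^ n) = 1 := hel _ (R.mul_mem hγR hγR)
    constructor
    · intro h
      exact aux (np (γ * γ) x hγγ (Or.inl (by rw [← e]; exact h)))
    · intro h
      exact aux (np (γ * γ) x hγγ (Or.inr (by rw [← e]; exact h)))
  obtain ⟨o01a, o01b⟩ := orth h2 R hR x x1 hxR hx1R c01 hx3 hx13 hx4 h14 n01.1 n01.2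
  obtain ⟨o02a, o02b⟩ := orth h2 R hR x x2 hxR hx2R c02 hx3 hx23 hx4 h24 n02.1 n02.2
  obtain ⟨o12a, o12b⟩ := orth h2 R hR x1 x2 hx1R hx2R c12 hx13 hx23 h14 h24 n12.1 n12.2
  have hW0U : cm x ≤ U := by rw [hUdef]; exact le_sup_left
  have hW1U : cm x1 ≤ U := by
    rw [hx1def, cm_conj]
    rintro _ ⟨z, hz, rfl⟩
    exact (hInv γ hγR z (hW0U hz)).1
  have hW2U : cm x2 ≤ U := by
    rw [hx2def, cm_conj]
    rintro _ ⟨z, hz, rfl⟩
    exact (hInv γ hγR z (hW1U hz)).1
  have ker0 : ∀ A ∈ cm x, ∀ B ∈ cm x1, ∀ C ∈ cm x2, A * B * C = 1 →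
      A = 1 ∧ B = 1 ∧ C = 1 := by
    intro A hA B hB C hC h
    have hxA : x A = A := by
      have h' := congrArg x h
      rw [map_mul, map_mul, map_one, o01b B hB, o02b C hC, ← h] at h'
      exact mul_right_cancel (mul_right_cancel h')
    have hA1 : A = 1 := fpf h2 x (hel x hxR) hA hxA
    rw [hA1, one_mul] at h
    have hx1B : x1 B = B := by
      have h' := congrArg x1 h
      rw [map_mul, map_one, o12b C hC, ← h] at h'
      exact mul_right_cancel h'
    have hB1 : B = 1 := fpf h2 x1 (hel x1 hx1R) hB hx1B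
    rw [hB1, one_mul] at h
    exact ⟨hA1, hB1, h⟩
  have hinj : Function.Injective (fun p : ↥(cm x) × ↥(cm x1) × ↥(cm x2) =>
      (⟨(p.1 : V) * (p.2.1 : V) * (p.2.2 : V),
        U.mul_mem (U.mul_mem (hW0U p.1.2) (hW1U p.2.1.2)) (hW2U p.2.2.2)⟩ : ↥U)) := by
    rintro ⟨a, b, c⟩ ⟨a', b', c'⟩ h
    have h0 : (a : V) * b * c = a' * b' * c' := congrArg Subtype.val h
    have hABC : ((a : V) * a') * ((b : V) * b') * ((c : V) * c') = 1 := by
      calc ((a : V) * a') * ((b : V) * b') * ((c : V) * c')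
          = ((a : V) * b * c) * ((a' : V) * b' * c') := by ac_rfl
        _ = ((a' : V) * b' * c') * ((a' : V) * b' * c') := by rw [h0]
        _ = 1 := h2 _
    obtain ⟨hA, hB, hC⟩ := ker0 _ ((cm x).mul_mem a.2 a'.2) _ ((cm x1).mul_mem b.2 b'.2) _
      ((cm x2).mul_mem c.2 c'.2) hABC
    have ea : a = a' := Subtype.ext (eq_of_mul_eq_one' h2 hA)
    have eb : b = b' := Subtype.ext (eq_of_mul_eq_one' h2 hB)
    have ec : c = c' := Subtype.ext (eq_of_mul_eq_one' h2 hC)
    rw [ea, eb, ec]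
  have hcard := Nat.card_le_card_of_injective _ hinj
  rw [Nat.card_prod, Nat.card_prod, hx4, h14, h24] at hcard
  omega

end Aut

section Transport

variable {G : Type u} [Group G]

/-- The commutative group structure on a commutative subgroup. -/
@[reducible] def commGroupOf (V : Subgroup G) (h : IsMulCommutative ↥V) : CommGroup ↥V :=
  { (inferInstance : Group ↥V) with mul_comm := fun a b => mul_comm' a b }

/-- SQ-COMM. -/
theorem comm : Cfsg.Agent.H42.Sq.StComm.{u} := by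
  intro G _ _ H V K O hV hHN hKH hKsn hOK hOC hO3 hW4 a ha
  haveI : Fact (Nat.Prime 3) := ⟨Nat.prime_three⟩
  letI : CommGroup ↥V := commGroupOf V hV.1
  have h2 : ∀ v : ↥V, v * v = 1 := by
    intro v
    apply Subtype.ext
    have := hV.2 v v.2
    rw [pow_two] at this
    exact this
  obtain ⟨Φ, hΦdef⟩ : ∃ Φ : ↥H →* MulAut ↥V,
      Φ = V.normalizerMonoidHom.comp (Subgroup.inclusion hHN) := ⟨_, rfl⟩
  have hΦ : ∀ (h : ↥H) (v : ↥V), ((Φ h v : ↥V) : G) = (h : G) * (v : G) * (h : G)⁻¹ := by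
    intro h v
    rw [hΦdef]
    rfl
  have hΦ1 : ∀ h : ↥H, Φ h = 1 → (h : G) ∈ Subgroup.centralizer (V : Set G) := by
    intro h hh
    rw [Subgroup.mem_centralizer_iff]
    intro v hv
    have h1 := hΦ h ⟨v, hv⟩
    rw [hh, MulAut.one_apply] at h1
    have h1' : v = (h : G) * v * (h : G)⁻¹ := h1
    calc v * (h : G) = ((h : G) * v * (h : G)⁻¹) * (h : G) := by rw [← h1']
      _ = (h : G) * v := by group
  -- cubes of elements of `K` centralize `V`
  have hK0n : ∀ k ∈ K, ∀ c ∈ K ⊓ Subgroup.centralizer (V : Set G),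
      k * c * k⁻¹ ∈ K ⊓ Subgroup.centralizer (V : Set G) := by
    intro k hk c hc
    refine Subgroup.mem_inf.mpr ⟨K.mul_mem (K.mul_mem hk hc.1) (K.inv_mem hk), ?_⟩
    rw [Subgroup.mem_centralizer_iff]
    intro v hv
    have hkN := hHN (hKH hk)
    have hv' : k⁻¹ * v * k ∈ V := by
      have := (Subgroup.mem_normalizer_iff.mp (Subgroup.inv_mem _ hkN) v).mp hv
      simpa using this
    have hc2 := (Subgroup.mem_centralizer_iff.mp hc.2) _ hv'
    calc v * (k * c * k⁻¹) = k * ((k⁻¹ * v * k) * c) * k⁻¹ := by group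
      _ = k * (c * (k⁻¹ * v * k)) * k⁻¹ := by rw [hc2]
      _ = k * c * k⁻¹ * v := by group
  have hcube : ∀ k ∈ K, k ^ 3 ∈ Subgroup.centralizer (V : Set G) := by
    intro k hk
    haveI hn : ((K ⊓ Subgroup.centralizer (V : Set G)).subgroupOf K).Normal := by
      constructor
      intro c hc k'
      rw [Subgroup.mem_subgroupOf] at hc ⊢
      exact hK0n k' k'.2 c hc
    have hdvd : (K ⊓ Subgroup.centralizer (V : Set G)).relIndex K ∣ 3 := by
      rw [← hO3]
      exact Subgroup.relIndex_dvd_of_le_left K (le_inf hOK hOC)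
    have hpow := Subgroup.pow_index_mem
      ((K ⊓ Subgroup.centralizer (V : Set G)).subgroupOf K) (⟨k, hk⟩ : ↥K)
    obtain ⟨m, hm⟩ := hdvd
    have h3 : (⟨k, hk⟩ : ↥K) ^ 3 ∈ (K ⊓ Subgroup.centralizer (V : Set G)).subgroupOf K := by
      have e3 : (3 : ℕ) = ((K ⊓ Subgroup.centralizer (V : Set G)).subgroupOf K).index * m := hm
      rw [e3, pow_mul]
      exact Subgroup.pow_mem _ hpow m
    rw [Subgroup.mem_subgroupOf] at h3
    exact (Subgroup.mem_inf.mp h3).2
  have hΦ3 : ∀ k : ↥H, (k : G) ∈ K → Φ k * Φ k * Φ k = 1 := by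
    intro k hk
    have hc := hcube _ hk
    rw [show (3 : ℕ) = 2 + 1 from rfl, pow_succ, pow_two] at hc
    apply MulEquiv.ext
    intro v
    apply Subtype.ext
    rw [MulAut.mul_apply, MulAut.mul_apply, MulAut.one_apply, hΦ, hΦ, hΦ]
    have h1 := (Subgroup.mem_centralizer_iff.mp hc) v v.2
    calc (k : G) * ((k : G) * ((k : G) * v * (k : G)⁻¹) * (k : G)⁻¹) * (k : G)⁻¹
        = ((k : G) * (k : G) * (k : G) * v) * ((k : G) * (k : G) * (k : G))⁻¹ := by group
      _ = (v * ((k : G) * (k : G) * (k : G))) * ((k : G) * (k : G) * (k : G))⁻¹ := by rw [h1]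
      _ = v := by group
  -- the image and `O₃`
  obtain ⟨Φ', hΦ'def⟩ : ∃ Φ' : ↥H →* ↥Φ.range, Φ' = Φ.rangeRestrict := ⟨_, rfl⟩
  have hΦ'val : ∀ h : ↥H, ((Φ' h : ↥Φ.range) : MulAut ↥V) = Φ h := by
    intro h
    rw [hΦ'def]
    rfl
  have hsurj : Function.Surjective Φ' := by
    rw [hΦ'def]
    exact Φ.rangeRestrict_surjective
  have hKbar_sn : ((K.subgroupOf H).map Φ').IsSubnormal := Subgroup.IsSubnormal.map hsurj hKsn
  have hKbar_p : IsPGroup 3 ↥((K.subgroupOf H).map Φ') := by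
    intro g
    obtain ⟨k, hk, hkg⟩ := g.2
    refine ⟨1, ?_⟩
    apply Subtype.ext
    rw [Subgroup.coe_pow, Subgroup.coe_one, ← hkg, pow_one]
    apply Subtype.ext
    rw [Subgroup.coe_pow, Subgroup.coe_one, hΦ'val]
    have := hΦ3 k (Subgroup.mem_subgroupOf.mp hk)
    rw [show (3 : ℕ) = 2 + 1 from rfl, pow_succ, pow_two]
    exact this
  have hKbar_le : (K.subgroupOf H).map Φ' ≤ pCore 3 ↥Φ.range :=
    Cfsg.Agent.H52.subnormal_pgroup_le_pCore hKbar_sn hKbar_p
  have hcn : (pCore 3 ↥Φ.range).Normal := Cfsg.Agent.H14.pCore_normal 3 _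
  obtain ⟨P, hPdef⟩ : ∃ P : Subgroup (MulAut ↥V),
      P = (pCore 3 ↥Φ.range).map Φ.range.subtype := ⟨_, rfl⟩
  have hP : IsPGroup 3 P := by
    rw [hPdef]
    exact (Cfsg.Agent.H14.pCore_isPGroup 3 _).map _
  have hKP : ∀ k : ↥H, (k : G) ∈ K → Φ k ∈ P := by
    intro k hk
    rw [hPdef]
    exact ⟨Φ' k, hKbar_le ⟨k, Subgroup.mem_subgroupOf.mpr hk, rfl⟩, hΦ'val k⟩
  have hconjP : ∀ (h k : ↥H), (k : G) ∈ K → Φ h * Φ k * (Φ h)⁻¹ ∈ P := by
    intro h k hk
    rw [hPdef]
    refine ⟨Φ' h * Φ' k * (Φ' h)⁻¹,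
      hcn.conj_mem _ (hKbar_le ⟨k, Subgroup.mem_subgroupOf.mpr hk, rfl⟩) _, ?_⟩
    simp only [Subgroup.coe_subtype, Subgroup.coe_mul, Subgroup.coe_inv, hΦ'val]
  -- commutators of nontrivial images have order 4
  have hcomm_le : ⁅V, K⁆ ≤ V := by
    rw [Subgroup.commutator_le]
    intro v hv k hk
    rw [commutatorElement_def]
    have hkN := hHN (hKH hk)
    have h1 : k * v⁻¹ * k⁻¹ ∈ V := (Subgroup.mem_normalizer_iff.mp hkN _).mp (V.inv_mem hv)
    have e : v * k * v⁻¹ * k⁻¹ = v * (k * v⁻¹ * k⁻¹) := by group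
    rw [e]
    exact V.mul_mem hv h1
  have hW'4 : Nat.card ↥((⁅V, K⁆).subgroupOf V) = 4 := by
    rw [← hW4]
    exact Nat.card_congr (Subgroup.subgroupOfEquivOfLe hcomm_le).toEquiv
  have hcmle : ∀ k : ↥H, (k : G) ∈ K → cm (Φ k) ≤ (⁅V, K⁆).subgroupOf V := by
    intro k hk w hw
    obtain ⟨v, rfl⟩ := (mem_cm _ w).mp hw
    rw [Subgroup.mem_subgroupOf]
    have hvv : ((v : G))⁻¹ = v := by
      have := hV.2 v v.2
      rw [pow_two] at this
      exact inv_eq_of_mul_eq_one_right this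
    have e1 : ((Φ k v * v : ↥V) : G) = (k : G) * v * (k : G)⁻¹ * v :=
      congrArg (· * (v : G)) (hΦ k v)
    have e : ((Φ k v * v : ↥V) : G) = ⁅(k : G), (v : G)⁆ := by
      rw [e1, commutatorElement_def, hvv]
    rw [e, Subgroup.commutator_comm]
    exact Subgroup.commutator_mem_commutator hk v.2
  have hcm4 : ∀ k : ↥H, (k : G) ∈ K → Φ k ≠ 1 → Nat.card (cm (Φ k)) = 4 := by
    intro k hk hne
    obtain ⟨v, hv⟩ : ∃ v : ↥V, Φ k v ≠ v := by
      by_contra hcon
      push_neg at hcon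
      exact hne (MulEquiv.ext hcon)
    have hc : Φ k v * v ∈ cm (Φ k) := cm_self _ v
    have hc1 : Φ k v * v ≠ 1 := fun h => hv (eq_of_mul_eq_one' h2 h)
    have hk3 := pow3 (Φ k) (hΦ3 k hk)
    have hxc : Φ k (Φ k v * v) ∈ cm (Φ k) := cm_comm _ _ rfl hc
    have hxc1 : Φ k (Φ k v * v) ≠ 1 := by
      intro h1
      apply hc1
      exact (Φ k).injective (by rw [h1, map_one])
    have hxcne : Φ k v * v ≠ Φ k (Φ k v * v) := fun h => hc1 (fpf h2 _ hk3 hc h.symm)
    have h3 := three (cm (Φ k)) _ (hcmle k hk) hW'4 hc hxc hc1 hxc1 hxcne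
    rw [h3]
    exact hW'4
  -- the statement
  rw [Subgroup.commutator_le]
  intro k0 hk0 g2 hg2
  obtain ⟨k1, hk1, rfl⟩ := hg2
  obtain ⟨x, hxdef⟩ : ∃ x : MulAut ↥V, x = Φ ⟨k0, hKH hk0⟩ := ⟨_, rfl⟩
  obtain ⟨z, hzdef⟩ : ∃ z : MulAut ↥V, z = Φ ⟨k1, hKH hk1⟩ := ⟨_, rfl⟩
  obtain ⟨α, hαdef⟩ : ∃ α : MulAut ↥V, α = Φ ⟨a, ha⟩ := ⟨_, rfl⟩
  have hxy : x * (α * z * α⁻¹) = (α * z * α⁻¹) * x := by
    by_cases hx1 : x = 1
    · rw [hx1, one_mul, mul_one]
    by_cases hz1 : z = 1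
    · rw [hz1]
      simp
    · apply aut_comm h2 P hP x (α * z * α⁻¹)
      · rw [hxdef]
        exact hKP _ hk0
      · rw [hαdef, hzdef]
        exact hconjP _ _ hk1
      · rw [hxdef]
        exact hΦ3 _ hk0
      · rw [hxdef]
        exact hcm4 _ hk0 (by rw [← hxdef]; exact hx1)
      · rw [card_cm_conj, hzdef]
        exact hcm4 _ hk1 (by rw [← hzdef]; exact hz1)
  have h1 : Φ ((⟨k0, hKH hk0⟩ : ↥H) * (⟨a, ha⟩ * ⟨k1, hKH hk1⟩ * ⟨a, ha⟩⁻¹) *
      (⟨k0, hKH hk0⟩ : ↥H)⁻¹ * (⟨a, ha⟩ * ⟨k1, hKH hk1⟩ * ⟨a, ha⟩⁻¹)⁻¹) = 1 := by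
    simp only [map_mul, map_inv]
    rw [← hxdef, ← hzdef, ← hαdef]
    calc x * (α * z * α⁻¹) * x⁻¹ * (α * z * α⁻¹)⁻¹
        = (x * (α * z * α⁻¹)) * x⁻¹ * (α * z * α⁻¹)⁻¹ := by group
      _ = ((α * z * α⁻¹) * x) * x⁻¹ * (α * z * α⁻¹)⁻¹ := by rw [hxy]
      _ = 1 := by group
  have h3 := hΦ1 _ h1
  have e : ⁅k0, (MulAut.conj a).toMonoidHom k1⁆
      = k0 * (a * k1 * a⁻¹) * k0⁻¹ * (a * k1 * a⁻¹)⁻¹ := by
    rw [commutatorElement_def]
    rfl
  rw [e]
  exact h3

example : Cfsg.Agent.H42.Sq.StComm.{u} := comm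

end Transport

end Cfsg.Agent.H68.Sq

#print axioms Cfsg.Agent.H68.Sq.comm
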